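import Cfsg.Agent.Lib.ReeOrder.Local.PartTools

/-!
A good prime excludes odd torus elements outside the torus in the centralizer of a torus element.
-/

set_option autoImplicit false
set_option linter.unusedSectionVars false

namespace CfsgLib.ReeOrder.Conf

open Cfsg CfsgLib.ReeType PartTools

universe u

variable {G : Type u} [Group G] [Fintype G]
variable {F : Type} [Field F] [Fintype F] [DecidableEq F]
variable {t : G} (K : Conf t F)

include K

/-- No torus element of prime order `r` in a part of the centralizer of an element of good order `s`. -/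
theorem part_prime_absurd {s r : ℕ} (hs : s.Prime) (hr : r.Prime) (hG : K.Good s) {t' w x y : G}
    (h : K.IsBFrame t' w x) (hxs : orderOf x = s) (hy : K.InPart t' w x y) (hyr : orderOf y = r)
    (hrb : r ∣ oddTorus K.q) : False := by
  by_cases hrs : r = s
  · exact hG t' w x y h hxs hy (hyr.trans hrs)
  haveI := Fact.mk hs
  obtain ⟨⟨ht, hw, htw, hne⟩, hxt, hwx, hx1, hxb⟩ := id h
  obtain ⟨hyx, hyw, hty, -⟩ := id hy
  have hsb : s ∣ oddTorus K.q := hxs ▸ hxb
  have hy1 : y ≠ 1 := fun e => hr.ne_one (by rw [← hyr, e, orderOf_one])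
  have hF : K.IsBFrame w t' y := K.frame_of_part h hy hyr hrb hy1
  obtain ⟨O, hOodd, hOmem, hwO, htO, hfix⟩ := K.frame_core hF
  have htt := mul_self_of ht
  have hww := mul_self_of hw
  -- a torus element of order `s` commuting with `y`
  obtain ⟨Kw⟩ := K.conf_of_involution hw
  have hyB : Kw.IsBElt y := ⟨hy1, hyw, hyr ▸ hrb⟩
  obtain ⟨c, -, hc, hcw, hyc, -, -, -⟩ := Kw.bElt_torus hyB
  have htc : t' * c * t'⁻¹ = c⁻¹ :=
    Kw.inverts_torus hyB hc hcw hyc htw (by rw [inv_of ht]; exact hty)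
  set z := c ^ (oddTorus K.q / s) with hz
  have hb0 : 0 < oddTorus K.q := by have := K.five_le_b; omega
  have hzo : orderOf z = s := by
    have hdiv : 0 < oddTorus K.q / s := Nat.div_pos (Nat.le_of_dvd hb0 hsb) hs.pos
    rw [hz, orderOf_pow_of_dvd hdiv.ne' (by rw [hc]; exact Nat.div_dvd_of_dvd hsb), hc]
    exact Nat.div_div_self hsb hb0.ne'
  have hzw : Commute z w := hcw.pow_left _
  have hzy : Commute z y := by
    obtain ⟨j, rfl⟩ := Subgroup.mem_zpowers_iff.1 hyc
    exact ((Commute.refl c).zpow_right j).pow_left _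
  have hzt : t' * z * t' = z⁻¹ := by
    conv_lhs => arg 2; rw [← inv_of ht]
    rw [hz, ← conj_pow, htc, inv_pow]
  have hxO : x ∈ O := (hOmem x).2 ⟨hyx.symm, K.odd_b.of_dvd_nat hxb⟩
  have hzO : z ∈ O := (hOmem z).2 ⟨hzy, K.odd_b.of_dvd_nat (hzo ▸ hsb)⟩
  -- the invariant Sylow subgroup and its centre
  obtain ⟨P, hPO, hPs, hwP, htP, hmax, -, -⟩ :=
    exists_sylow_invariant hw ht htw.symm hne.symm hOodd hwO htO hfix s
  have hinP : ∀ v ∈ O, orderOf v = s → (∀ i, i = w ∨ i = t' → i * v * i ∈ Subgroup.zpowers v) →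
      v ∈ P := by
    intro v hv hvo hn
    have hnorm : ∀ i, i = w ∨ i = t' →
        i ∈ Subgroup.normalizer (Subgroup.zpowers v : Set G) := by
      intro i hi
      refine Subgroup.mem_normalizer_fintype fun a ha => ?_
      have hii : i⁻¹ = i := by rcases hi with rfl | rfl <;> [exact inv_of hw; exact inv_of ht]
      obtain ⟨k, rfl⟩ := Subgroup.mem_zpowers_iff.1 ha
      rw [← conj_zpow]
      exact Subgroup.zpow_mem _ (by rw [hii]; exact hn i hi) k
    exact hmax (Subgroup.zpowers v) (Subgroup.zpowers_le.2 hv)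
      (IsPGroup.of_card (n := 1) (by rw [Nat.card_zpowers, hvo, pow_one]))
      (hnorm w (Or.inl rfl)) (hnorm t' (Or.inr rfl)) (Subgroup.mem_zpowers v)
  have hxP : x ∈ P := hinP x hxO hxs (by
    rintro i (rfl | rfl)
    · rw [hwx]; exact inv_mem (Subgroup.mem_zpowers x)
    · rw [← hxt.eq, mul_assoc, htt, mul_one]; exact Subgroup.mem_zpowers x)
  have hzP : z ∈ P := hinP z hzO hzo (by
    rintro i (rfl | rfl)
    · rw [← hzw.eq, mul_assoc, hww, mul_one]; exact Subgroup.mem_zpowers z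
    · rw [hzt]; exact inv_mem (Subgroup.mem_zpowers z))
  set Z := P ⊓ Subgroup.centralizer (P : Set G) with hZ
  have hZnorm : ∀ i, i ∈ Subgroup.normalizer (P : Set G) → i ∈ Subgroup.normalizer (Z : Set G) := by
    intro i hi
    refine Subgroup.mem_normalizer_fintype fun a ha => ⟨(Subgroup.mem_normalizer_iff.1 hi a).1 ha.1, ?_⟩
    refine Subgroup.mem_centralizer_iff.2 fun b hb => ?_
    have hc := Subgroup.mem_centralizer_iff.1 ha.2 _ ((Subgroup.mem_normalizer_iff''.1 hi b).1 hb)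
    calc b * (i * a * i⁻¹) = i * (i⁻¹ * b * i * a) * i⁻¹ := by group
      _ = i * (a * (i⁻¹ * b * i)) * i⁻¹ := by rw [hc]
      _ = i * a * i⁻¹ * b := by group
  have hdvd : s ∣ Nat.card Z := by
    have : Nontrivial P := ⟨⟨⟨x, hxP⟩, 1, fun e => hx1 (congrArg Subtype.val e)⟩⟩
    haveI := hPs.center_nontrivial
    obtain ⟨⟨u, hu⟩, hu1⟩ := exists_ne (1 : Subgroup.center P)
    obtain ⟨k, hk⟩ := IsPGroup.iff_orderOf.1 hPs u
    have huZ : (u : G) ∈ Z := ⟨u.2, Subgroup.mem_centralizer_iff.2 fun a ha =>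
      congrArg Subtype.val (Subgroup.mem_center_iff.1 hu ⟨a, ha⟩)⟩
    obtain _ | k := k
    · exact absurd (Subtype.ext (orderOf_eq_one_iff.1 (hk.trans (pow_zero s)))) hu1
    refine (dvd_pow_self s k.succ_ne_zero).trans ?_
    rw [← hk, ← Subgroup.orderOf_coe]
    exact Subgroup.orderOf_dvd_natCard _ huZ
  have hZO : Z ≤ O := inf_le_left.trans hPO
  obtain ⟨e, u, he, huZ, hue, huo⟩ := exists_part_order hw ht htw.symm hne.symm
    (hOodd.of_dvd_nat (Subgroup.card_dvd_of_le hZO)) (hZnorm w hwP) (hZnorm t' htP)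
    (fun a ha => hfix a (hZO ha)) hs hdvd
  have hu1 : u ≠ 1 := fun e => hs.ne_one (by rw [← huo, e, orderOf_one])
  have huc : ∀ a ∈ P, Commute a u := fun a ha => Subgroup.mem_centralizer_iff.1 huZ.2 a ha
  -- an involution of the four group inverts what the other one centralizes
  have hinv : ∀ i f : G, orderOf f = 2 → Commute i f → f ∈ Subgroup.normalizer (O : Set G) →
      (∀ a ∈ O, Commute a i → Commute a f → a = 1) → ∀ a ∈ O, Commute a i → f * a * f = a⁻¹ := by
    intro i f hf hif hfO hfix' a ha hai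
    have := CfsgLib.InvChar.inverts_of_fixedPointFree
      (A := O ⊓ Subgroup.centralizer ({i} : Set G)) hf
      (fun b hb => ⟨(Subgroup.mem_normalizer_iff.1 hfO b).1 hb.1, by
        have hbi : Commute b i := Subgroup.mem_centralizer_singleton_iff.1 hb.2
        exact Subgroup.mem_centralizer_singleton_iff.2
          ((hif.symm.mul_left hbi).mul_left hif.symm.inv_left).eq⟩)
      (fun b hb hbf => hfix' b hb.1 (Subgroup.mem_centralizer_singleton_iff.1 hb.2) hbf) a
      ⟨ha, Subgroup.mem_centralizer_singleton_iff.2 hai.eq⟩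
    rwa [inv_of hf] at this
  have huO : u ∈ O := hZO huZ
  rcases he with rfl | rfl | rfl
  · -- the part of `w`
    exact hG e t' u x ⟨⟨hw, ht, htw.symm, hne.symm⟩, hue,
      hinv e t' ht htw.symm htO hfix u huO hue, hu1, huo ▸ hsb⟩ huo
      ⟨huc x hxP, hxt, hwx, K.odd_b.of_dvd_nat hxb⟩ hxs
  · -- the part of `t'`
    exact hG e w u z ⟨⟨ht, hw, htw, hne⟩, hue,
      hinv e w hw htw hwO (fun a ha h1 h2 => hfix a ha h2 h1) u huO hue, hu1, huo ▸ hsb⟩ huo
      ⟨huc z hzP, hzw, hzt, K.odd_b.of_dvd_nat (hzo ▸ hsb)⟩ hzo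
  · -- the part of `t' w`
    have he2 : orderOf (w * t') = 2 := by
      rw [htw.symm.eq]; exact (K.frame_swap' h).1.2.1
    have hew : Commute (w * t') w := (Commute.refl w).mul_left htw
    have hnew : w * t' ≠ w := fun e => by
      have : t' = 1 := mul_eq_left.1 e
      rw [this, orderOf_one] at ht
      omega
    refine hG (w * t') w u z ⟨⟨he2, hw, hew, hnew⟩, hue,
      hinv (w * t') w hw hew hwO (fun a ha h1 h2 => hfix a ha h2 ?_) u huO hue, hu1, huo ▸ hsb⟩ huo
      ⟨huc z hzP, hzw, ?_, K.odd_b.of_dvd_nat (hzo ▸ hsb)⟩ hzo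
    · have : t' = w * (w * t') := by rw [← mul_assoc, hww, one_mul]
      rw [this]
      exact h2.mul_right h1
    · calc w * t' * z * (w * t') = w * t' * z * (t' * w) := by rw [htw.eq]
        _ = w * (t' * z * t') * w := by group
        _ = z⁻¹ := by rw [hzt, ← hzw.inv_left.eq, mul_assoc, hww, mul_one]

/-- A good prime divisor of the order of a torus element excludes torus elements in its parts. -/
theorem noB_of_good {s : ℕ} (hs : s.Prime) (hG : K.Good s) {t' w x : G} (h : K.IsBFrame t' w x)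
    (hd : s ∣ orderOf x) : K.NoB t' w x := by
  intro g g1 hg hgb
  obtain ⟨k, hk⟩ := hd
  have hk0 : k ≠ 0 := by
    rintro rfl
    exact orderOf_ne_zero_iff.2 (isOfFinOrder_of_finite x) (by simpa using hk)
  have hxs : orderOf (x ^ k) = s := by
    rw [orderOf_pow_of_dvd hk0 (Dvd.intro_left s hk.symm), hk,
      Nat.mul_div_cancel _ (Nat.pos_of_ne_zero hk0)]
  have hfr : ∀ v, K.IsBFrame t' v x → K.IsBFrame t' v (x ^ k) := fun v hv =>
    ⟨hv.1, hv.2.1.pow_left k, by
      have h1 : v * x * v⁻¹ = x⁻¹ := by rw [inv_of hv.1.2.1]; exact hv.2.2.1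
      conv_lhs => arg 2; rw [← inv_of hv.1.2.1]
      rw [← conj_pow, h1, inv_pow],
      fun e => hs.ne_one (by rw [← hxs, e, orderOf_one]),
      hxs.symm ▸ (Dvd.intro k hk.symm).trans hv.2.2.2.2⟩
  have ho1 : orderOf g ≠ 1 := fun e => g1 (orderOf_eq_one_iff.1 e)
  obtain ⟨r, hr, m, hm⟩ := Nat.exists_prime_and_dvd ho1
  have hm0 : m ≠ 0 := by
    rintro rfl
    exact orderOf_ne_zero_iff.2 (isOfFinOrder_of_finite g) (by simpa using hm)
  have hgr : orderOf (g ^ m) = r := by
    rw [orderOf_pow_of_dvd hm0 (Dvd.intro_left r hm.symm), hm,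
      Nat.mul_div_cancel _ (Nat.pos_of_ne_zero hm0)]
  have hrb : r ∣ oddTorus K.q := (Dvd.intro m hm.symm).trans hgb
  have hpart : ∀ v, K.InPart t' v x g → K.InPart t' v (x ^ k) (g ^ m) := fun v hv =>
    ⟨(hv.1.pow_left m).pow_right k, hv.2.1.pow_left m, by
      have h1 : t' * g * t'⁻¹ = g⁻¹ := by rw [inv_of h.1.1]; exact hv.2.2.1
      conv_lhs => arg 2; rw [← inv_of h.1.1]
      rw [← conj_pow, h1, inv_pow],
      hgr.symm ▸ K.odd_b.of_dvd_nat hrb⟩
  rcases hg with hg | hg
  · exact K.part_prime_absurd hs hr hG (hfr w h) hxs (hpart w hg) hgr hrb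
  · exact K.part_prime_absurd hs hr hG (hfr (t' * w) (K.frame_swap' h)) hxs (hpart (t' * w) hg) hgr hrb

end CfsgLib.ReeOrder.Conf
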