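import Cfsg.Agent.Lib.ReeOrder.Local.GoodThree
import Cfsg.Agent.Lib.ReeOrder.Local.NoB

/-!
Every prime divisor of the order of the first torus is good: the centralizers of torus elements have cyclic
Sylow subgroups for it.
-/

set_option autoImplicit false
set_option linter.unusedSectionVars false
set_option linter.style.haveILetI false

namespace CfsgLib.ReeOrder.Conf

open Cfsg CfsgLib.ReeType PartTools OmegaTools
open scoped Pointwise

universe u

variable {G : Type u} [Group G] [Fintype G]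
variable {F : Type} [Field F] [Fintype F] [DecidableEq F]
variable {t : G} (K : Conf t F)

/-- When three is good, centralizers of elements of order three in an involution centralizer stay there. -/
theorem cent_of_three (g3 : K.Good 3) (hb : 3 ∣ oddTorus K.q) (hU : K.NoUData) {e y : G}
    (he : orderOf e = 2) (hy : orderOf y = 3) (hye : Commute y e) :
    ∀ g, Commute g y → Commute g e ∧ g ^ (2 * oddTorus K.q) = 1 := by
  obtain ⟨Ke⟩ := K.conf_of_involution he
  have hB : Ke.IsBElt y := ⟨fun h => by rw [h, orderOf_one] at hy; omega, hye, hy.symm ▸ hb⟩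
  obtain ⟨w, hw⟩ := Ke.exists_frame hB
  have hF : K.IsBFrame e w y := hw
  exact hU e w y hF (K.noB_of_good Nat.prime_three g3 hF (by rw [hy]))

section
variable {K}
variable {t' w x f : G} {r : ℕ}

/-- Three dividing the torus order. -/
theorem Tri.absurd_three (h : K.Tri t' w x f r) (hb : 3 ∣ oddTorus K.q) (g3 : K.Good 3) (hU : K.NoUData)
    {s : G} (hs : orderOf s = 2) (hst : Commute s t') (hsw : Commute s w) (hsf : Commute s f)
    (hs1 : s ≠ t') (hs2 : s ≠ w) (hs3 : s ≠ t' * w) : False := by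
  haveI := Fact.mk Nat.prime_three
  obtain ⟨⟨htp, hwp, htw, hne⟩, hxt, hxw, hx1, -⟩ := h.frame
  have hodd := h.toPreTri.r_odd
  have hno : ∀ y : G, orderOf y = 3 → (∀ a ∈ axes x f, Commute y a) → False := by
    intro y hy hya
    obtain ⟨O, hOodd, hOmem, htO, hwO, hfix⟩ := K.frame_core h.frame
    set X := O ⊓ Subgroup.centralizer (axes x f : Set G) with hX
    have hnorm : ∀ e ∈ Subgroup.normalizer (axes x f : Set G), e ∈ Subgroup.normalizer (O : Set G) →
        e ∈ Subgroup.normalizer (X : Set G) := by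
      intro e he heO
      refine Subgroup.mem_normalizer_fintype fun c hc =>
        ⟨(Subgroup.mem_normalizer_iff.1 heO c).1 hc.1, Subgroup.mem_centralizer_iff.2 fun a ha => ?_⟩
      have h1 := Subgroup.mem_centralizer_iff.1 hc.2 _ ((Subgroup.mem_normalizer_iff''.1 he a).1 ha)
      calc a * (e * c * e⁻¹) = e * ((e⁻¹ * a * e) * c) * e⁻¹ := by group
        _ = e * (c * (e⁻¹ * a * e)) * e⁻¹ := by rw [h1]
        _ = e * c * e⁻¹ * a := by group
    have hyX : y ∈ X := ⟨(hOmem y).2 ⟨hya x x_mem_axes, hy ▸ Nat.odd_iff.2 rfl⟩,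
      Subgroup.mem_centralizer_iff.2 fun a ha => (hya a ha).eq.symm⟩
    obtain ⟨e, y', he, hy'X, hy'e, hy'o⟩ := exists_part_order htp hwp htw hne (X := X)
      (hOodd.of_dvd_nat (Subgroup.card_dvd_of_le inf_le_left)) (hnorm _ h.four_axes.1 htO)
      (hnorm _ h.four_axes.2 hwO) (fun c hc => hfix c hc.1) Nat.prime_three
      (hy ▸ Subgroup.orderOf_dvd_natCard _ hyX)
    have he2 : orderOf e = 2 := by
      rcases he with rfl | rfl | rfl
      exacts [htp, hwp, (K.frame_swap' h.frame).1.2.1]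
    have hce : ∀ a ∈ axes x f, Commute a e := fun a ha =>
      (K.cent_of_three g3 hb hU he2 hy'o hy'e a (Subgroup.mem_centralizer_iff.1 hy'X.2 a ha)).1
    rcases he with rfl | rfl | rfl
    · exact (fun hz : f * x * f⁻¹ ≠ 1 => hz (eq_one_of_both (mul_self_of htp) (hce _ z_mem_axes)
        h.zp.2.2.1 (h.toPreTri.z_order.symm ▸ hodd))) fun e => hx1 (conj_eq_one_iff.1 e)
    · exact hx1 (eq_one_of_both (mul_self_of hwp) (hce _ x_mem_axes) hxw (h.xo.symm ▸ hodd))
    · exact hx1 (eq_one_of_both (mul_self_of he2) (hce _ x_mem_axes) (K.frame_swap' h.frame).2.2.1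
        (h.xo.symm ▸ hodd))
  have hcf := K.cent_of_three g3 hb hU hs h.f_order hsf.symm
  obtain ⟨δ, hδA, hδf, hδ1, hδo⟩ := h.exists_delta
  have hδs : Commute δ s := (hcf δ hδf.symm).1
  obtain ⟨Ks⟩ := K.conf_of_involution hs
  obtain ⟨O, hOodd, hOmem, -⟩ := Ks.bElt_core (x := δ) ⟨hδ1, hδs, hδo.symm ▸ h.rb⟩
  have hAO : axes x f ≤ O := fun a ha => (hOmem a).2
    ⟨h.axes_comm ha hδA, hodd.of_dvd_nat (orderOf_dvd_of_pow_eq_one (h.axes_pow ha))⟩
  have hfO : f ∈ O := (hOmem f).2 ⟨hδf, h.f_order.symm ▸ Nat.odd_iff.2 rfl⟩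
  obtain ⟨N, hNO, hNr, hON, hconj⟩ := h.core_conj hOodd hAO
  obtain ⟨φ₀, hφ₀, hk⟩ := hconj s fun a ha => (hOmem _).2 ⟨by
    have := (h.axes_comm ha hδA).map (MulAut.conj s).toMonoidHom
    simp only [MulEquiv.coe_toMonoidHom, MulAut.conj_apply] at this
    rwa [← hδs.eq, mul_inv_cancel_right] at this, by
    rw [← MulAut.conj_apply, MulEquiv.orderOf_eq]
    exact hodd.of_dvd_nat (orderOf_dvd_of_pow_eq_one (h.axes_pow ha))⟩
  obtain ⟨φ, hφ, hφf, hn⟩ := h.fixed_conjugator hNr (hAO.trans hON) (hON hfO) hsf.symm hno hφ₀ hk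
  have hφs : Commute φ s := (hcf φ hφf.symm).1
  obtain ⟨m, hm⟩ : Odd (orderOf φ) := hOodd.of_dvd_nat (Subgroup.orderOf_dvd_natCard _ (hNO hφ))
  have hsN : s ∈ Subgroup.normalizer (axes x f : Set G) := by
    have h1 := Subgroup.pow_mem _ hn (orderOf φ)
    rw [hφs.inv_left.mul_pow, inv_pow, pow_orderOf_eq_one, inv_one, one_mul, hm, pow_succ, pow_mul,
      pow_two, mul_self_of hs, one_pow, one_mul] at h1
    exact h1
  have hxs : s * x * s⁻¹ ∈ Subgroup.zpowers x := h.axis_mem ((Subgroup.mem_normalizer_iff.1 hsN x).1 x_mem_axes)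
    ((hst.mul_left hxt).mul_left hst.inv_left)
  rcases K.axis_invol h.frame hst hsw (mul_self_of hs) hxs h.prime h.xo with e | e | e | e
  · rw [e, orderOf_one] at hs; omega
  exacts [hs1 e, hs2 e, hs3 e]

/-- Three being the characteristic. -/
theorem Tri.absurd_char (h : K.Tri t' w x f r) (hr3 : r ≠ 3) (ha : ¬ 3 ∣ coTorus K.q)
    (hb : ¬ 3 ∣ oddTorus K.q) {s : G} (hs : orderOf s = 2) (hsf : Commute s f) : False := by
  haveI := Fact.mk Nat.prime_three
  haveI := Fact.mk Nat.prime_two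
  haveI := Fact.mk h.prime
  obtain ⟨⟨htp, hwp, htw, hne⟩, hxt, hxw, hx1, hxb⟩ := h.frame
  have hodd := h.toPreTri.r_odd
  obtain ⟨Ks⟩ := K.conf_of_involution hs
  obtain ⟨p, hp⟩ := CharP.exists F
  haveI : Fact p.Prime := ⟨CharP.char_is_prime F p⟩
  obtain rfl : p = 3 := by
    rcases Ks.odd_cases p (g := f) hsf.symm (h.f_order.symm ▸ Nat.odd_iff.2 rfl) with e | e | e
    · exact ((Nat.prime_dvd_prime_iff_eq Nat.prime_three Fact.out).1
        (h.f_order ▸ orderOf_dvd_of_pow_eq_one e)).symm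
    · rw [h.f_order] at e; exact absurd e hb
    · rw [h.f_order] at e; exact absurd e ha
  have h8 : K.q % 8 = 3 := by
    obtain ⟨n, -, hn⟩ := FiniteField.card F 3
    have h9 : ∀ k : ℕ, 3 ^ k % 8 = 1 ∨ 3 ^ k % 8 = 3 := by
      intro k
      induction k with
      | zero => exact Or.inl rfl
      | succ k ih => rw [pow_succ]; rcases ih with e | e <;> omega
    have := K.q_mod
    show Fintype.card F % 8 = 3
    have := h9 n
    rw [← hn] at this
    omega
  have hne1 : ∀ {y : G}, orderOf y = 3 → y ≠ 1 := fun {y} hy e => by rw [e, orderOf_one] at hy; omega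
  have hnox : ∀ y : G, orderOf y = 3 → Commute y x → False := by
    intro y hy hyx
    obtain ⟨O, hOodd, hOmem, htO, hwO, hfix⟩ := K.frame_core h.frame
    obtain ⟨e, y', he, hy'O, hy'e, hy'o⟩ := exists_part_order htp hwp htw hne hOodd htO hwO hfix
      Nat.prime_three (hy ▸ Subgroup.orderOf_dvd_natCard _ ((hOmem y).2 ⟨hyx, hy ▸ Nat.odd_iff.2 rfl⟩))
    obtain ⟨hy'x, hy'odd⟩ := (hOmem y').1 hy'O
    have hy3 : y' ^ 3 = 1 := by rw [← hy'o, pow_orderOf_eq_one]
    rcases he with rfl | rfl | rfl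
    · obtain ⟨K'⟩ := K.conf_of_involution htp
      have h1 := orderOf_dvd_of_pow_eq_one (K'.bElt_pow (K'.isBElt_of_frame h.frame) hy'e hy'x)
      rw [hy'o] at h1
      rcases (Nat.Prime.dvd_mul Nat.prime_three).1 h1 with h2 | h2
      · norm_num at h2
      · exact hb h2
    · obtain ⟨K'⟩ := K.conf_of_involution hwp
      exact K'.uni_not_inverted 3 h8 (hne1 hy'o) hy'e hy3 htw htp (K.part_inverted h.frame hy'x hy'e hy'odd)
    · have hsw := K.frame_swap' h.frame
      obtain ⟨K'⟩ := K.conf_of_involution hsw.1.2.1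
      exact K'.uni_not_inverted 3 h8 (hne1 hy'o) hy'e hy3 hsw.1.2.2.1 htp
        (K.part_inverted hsw hy'x hy'e hy'odd)
  have hno : ∀ y : G, orderOf y = 3 → (∀ a ∈ axes x f, Commute y a) → False :=
    fun y hy hya => hnox y hy (hya x x_mem_axes)
  -- the odd core of the centralizer of `f`
  set Cf := Subgroup.centralizer ({f} : Set G) with hCf
  have hsC : s ∈ Cf := Subgroup.mem_centralizer_singleton_iff.2 hsf.eq
  set S : Subgroup Cf := Subgroup.zpowers ⟨s, hsC⟩ with hS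
  have hSo : orderOf (⟨s, hsC⟩ : Cf) = 2 := by rw [← Subgroup.orderOf_coe]; exact hs
  obtain ⟨P, hP⟩ := (IsPGroup.of_card (n := 1) (show Nat.card S = 2 ^ 1 by
    rw [hS, Nat.card_zpowers, hSo, pow_one])).exists_le_sylow
  have hPS : (P : Subgroup Cf) = S := by
    refine le_antisymm ?_ hP
    intro y hy
    have hys : Commute (y : G) s := K.commute_of_pGroup (P.isPGroup'.map Cf.subtype)
      ⟨y, hy, rfl⟩ ⟨⟨s, hsC⟩, hP (Subgroup.mem_zpowers _), rfl⟩
    obtain ⟨k, hk⟩ := P.isPGroup' ⟨y, hy⟩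
    have hy2 : (y : G) * y = 1 := K.sq_of_two_pow (n := k) (by
      simpa using congrArg (fun z : (P : Subgroup Cf) => ((z : Cf) : G)) hk)
    by_cases hy1 : (y : G) = 1
    · rw [show y = 1 from Subtype.ext hy1]; exact one_mem _
    by_cases hys1 : (y : G) = s
    · rw [show y = ⟨s, hsC⟩ from Subtype.ext hys1]; exact Subgroup.mem_zpowers _
    exfalso
    have hd := Ks.four_odd_dvd (w := (y : G)) (g := f)
      ⟨hs, orderOf_eq_prime (by rw [pow_two, hy2]) hy1, hys.symm, fun e => hys1 e.symm⟩ hsf.symm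
      (Subgroup.mem_centralizer_singleton_iff.1 y.2).symm (h.f_order.symm ▸ Nat.odd_iff.2 rfl)
    rw [h.f_order] at hd
    exact ha hd
  obtain ⟨O, hOind, -, hOmem⟩ := exists_odd_kernel P (by rw [hPS, hS, Nat.card_zpowers, hSo])
    (hP (Subgroup.mem_zpowers (⟨s, hsC⟩ : Cf))) fun e => by rw [e, orderOf_one] at hSo; omega
  set X : Subgroup G := O.map Cf.subtype with hX
  have hXmem : ∀ g : G, g ∈ X ↔ Commute g f ∧ Odd (orderOf g) := by
    intro g
    constructor
    · rintro ⟨y, hy, rfl⟩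
      exact ⟨Subgroup.mem_centralizer_singleton_iff.1 y.2,
        by rw [Subgroup.coe_subtype, Subgroup.orderOf_coe]; exact (hOmem y).1 hy⟩
    · rintro ⟨h1, h2⟩
      exact ⟨⟨g, Subgroup.mem_centralizer_singleton_iff.2 h1.eq⟩,
        (hOmem _).2 (by rw [← Subgroup.orderOf_coe]; exact h2), rfl⟩
  have hXodd : Odd (Nat.card X) := by
    rw [Nat.odd_iff, ← Nat.two_dvd_ne_zero]
    intro hd
    obtain ⟨i, hi⟩ := exists_prime_orderOf_dvd_card' 2 hd
    have h1 := ((hXmem i).1 i.2).2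
    rw [Subgroup.orderOf_coe, hi] at h1
    exact absurd h1 (by decide)
  have hsX : Subgroup.zpowers s ≤ Subgroup.normalizer (X : Set G) :=
    Subgroup.zpowers_le.2 (Subgroup.mem_normalizer_fintype fun c hc => (hXmem _).2 ⟨by
      exact (hsf.mul_left ((hXmem c).1 hc).1).mul_left hsf.inv_left, by
      rw [← MulAut.conj_apply, MulEquiv.orderOf_eq]; exact ((hXmem c).1 hc).2⟩)
  have hcop : (Nat.card (Subgroup.zpowers s)).Coprime (Nat.card X) := by
    rw [Nat.card_zpowers, hs]; exact Nat.coprime_two_left.2 hXodd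
  have hsol : Group.IsSolvable (Subgroup.zpowers s) ∨ Group.IsSolvable X :=
    Or.inl (Group.isSolvable_of_comm fun a b => mul_comm' a b)
  obtain ⟨R, hR⟩ := CfsgLib.Coprime.exists_invariant_sylow (Subgroup.zpowers s) X hsX hcop hsol r
  set R' : Subgroup G := (R : Subgroup X).map X.subtype with hR'
  have hinv : ∀ c ∈ R', s * c * s⁻¹ = c⁻¹ := by
    refine CfsgLib.InvChar.inverts_of_fixedPointFree hs
      (fun c hc => (Subgroup.mem_normalizer_iff.1 (hR (Subgroup.mem_zpowers s)) c).1 hc) ?_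
    intro c hc hcs
    have hcX : c ∈ X := Subgroup.map_subtype_le _ hc
    have h1 := orderOf_dvd_of_pow_eq_one
      (Ks.uni_pow 3 h.f_ne_one hsf.symm h.cube hcs ((hXmem c).1 hcX).1)
    obtain ⟨k, hk⟩ := IsPGroup.iff_orderOf.1 (R.isPGroup'.map X.subtype) ⟨c, hc⟩
    rw [Subgroup.orderOf_mk] at hk
    rw [hk] at h1
    refine orderOf_eq_one_iff.1 (hk.trans (Nat.eq_one_of_dvd_coprimes ?_ h1 dvd_rfl))
    refine Nat.Coprime.pow_right k (Nat.Coprime.mul_left ?_ ?_)
    · exact Nat.coprime_two_left.2 hodd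
    · exact (Nat.coprime_primes Nat.prime_three h.prime).2 (Ne.symm hr3)
  obtain ⟨δ, hδA, hδf, hδ1, hδo⟩ := h.exists_delta
  have hδr : δ ^ r = 1 := h.axes_pow hδA
  have hδX : δ ∈ X := (hXmem δ).2 ⟨hδf.symm, hδo.symm ▸ hodd⟩
  have hZr : IsPGroup r ((Subgroup.zpowers δ).comap X.subtype) :=
    (IsPGroup.of_card (n := 1) (by rw [Nat.card_zpowers, hδo, pow_one])).comap_of_injective _
      X.subtype_injective
  obtain ⟨Q, hQ⟩ := hZr.exists_le_sylow
  obtain ⟨o, ho⟩ := MulAction.exists_smul_eq X R Q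
  have hoR : (o : G)⁻¹ * δ * o ∈ R' := by
    have h1 : δ ∈ ((o • R : Sylow r X) : Subgroup X).map X.subtype := by
      rw [ho]; exact ⟨⟨δ, hδX⟩, hQ (Subgroup.mem_zpowers δ), rfl⟩
    exact CfsgLib.Coprime.mem_map_subtype_smul.1 h1
  set i := (o : G) * s * (o : G)⁻¹ with hi
  have hiδ : i * δ * i⁻¹ = δ⁻¹ := by
    calc i * δ * i⁻¹ = (o : G) * (s * ((o : G)⁻¹ * δ * o) * s⁻¹) * (o : G)⁻¹ := by rw [hi]; group
      _ = δ⁻¹ := by rw [hinv _ hoR]; group
  have hif : Commute f i :=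
    ((((hXmem o).1 o.2).1.symm).mul_right hsf.symm).mul_right (((hXmem o).1 o.2).1.symm.inv_right)
  -- the centralizer of `δ` has odd order
  set Kd := Subgroup.centralizer ({δ} : Set G) with hKd
  have hKodd : Odd (Nat.card Kd) := by
    rw [Nat.odd_iff, ← Nat.two_dvd_ne_zero]
    intro hd
    obtain ⟨u, hu⟩ := exists_prime_orderOf_dvd_card' 2 hd
    obtain ⟨k, hk⟩ := h.exists_conj_x (i := (u : G)) (by rw [Subgroup.orderOf_coe, hu]) hδ1 hδr
      (Commute.symm (Subgroup.mem_centralizer_singleton_iff.1 u.2))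
    exact hnox (k * f * k⁻¹) (by rw [← MulAut.conj_apply, MulEquiv.orderOf_eq, h.f_order]) (hk f hδf)
  have hAK : axes x f ≤ Kd := fun a ha => Subgroup.mem_centralizer_singleton_iff.2 (h.axes_comm ha hδA).eq
  have hfK : f ∈ Kd := Subgroup.mem_centralizer_singleton_iff.2 hδf.eq
  obtain ⟨N, hNK, hNr, hKN, hconj⟩ := h.core_conj hKodd hAK
  obtain ⟨φ₀, hφ₀, hk⟩ := hconj i fun a ha => Subgroup.mem_centralizer_singleton_iff.2 (by
    have := (h.axes_comm ha hδA).map (MulAut.conj i).toMonoidHom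
    simp only [MulEquiv.coe_toMonoidHom, MulAut.conj_apply, hiδ] at this
    exact (Commute.inv_right_iff.1 this).eq)
  obtain ⟨φ, hφ, hφf, hn⟩ := h.fixed_conjugator hNr (hAK.trans hKN) (hKN hfK) hif hno hφ₀ hk
  set n := φ⁻¹ * i with hn'
  have hφδ : Commute φ δ := Subgroup.mem_centralizer_singleton_iff.1 (hNK hφ)
  have hnδ : n * δ * n⁻¹ = δ⁻¹ := by
    calc n * δ * n⁻¹ = φ⁻¹ * (i * δ * i⁻¹) * φ := by rw [hn']; group
      _ = δ⁻¹ := by rw [hiδ, mul_assoc, ← hφδ.inv_right.eq, inv_mul_cancel_left]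
  have hnf : Commute n f := (hφf.symm.inv_left).mul_left hif.symm
  obtain ⟨a, m, ⟨m', rfl⟩, hne'⟩ := Nat.exists_eq_two_pow_mul_odd (orderOf_pos n).ne'
  set j := n ^ (2 * m' + 1) with hj
  have hj2 : j * j = 1 := K.sq_of_two_pow (n := a) (by rw [hj, ← pow_mul, mul_comm, ← hne', pow_orderOf_eq_one])
  have hjδ : j * δ * j⁻¹ = δ⁻¹ := by
    have hc : Commute (n ^ 2) δ := by
      refine mul_inv_eq_iff_eq_mul.1 ?_
      calc n ^ 2 * δ * (n ^ 2)⁻¹ = n * (n * δ * n⁻¹) * n⁻¹ := by rw [pow_two]; group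
        _ = n * δ⁻¹ * n⁻¹ := by rw [hnδ]
        _ = (n * δ * n⁻¹)⁻¹ := by group
        _ = δ := by rw [hnδ, inv_inv]
    rw [hj, pow_succ', pow_mul]
    calc n * (n ^ 2) ^ m' * δ * (n * (n ^ 2) ^ m')⁻¹
        = n * ((n ^ 2) ^ m' * δ * ((n ^ 2) ^ m')⁻¹) * n⁻¹ := by group
      _ = δ⁻¹ := by rw [(hc.pow_left m').eq, mul_inv_cancel_right, hnδ]
  have hj1 : j ≠ 1 := fun e => hδ1 (eq_one_of_both (e := j) hj2 (e ▸ Commute.one_right δ)
    (by conv_lhs => arg 2; rw [← inv_eq_of_mul_eq_one_right hj2]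
        exact hjδ) (hδo.symm ▸ hodd))
  set M := Subgroup.normalizer (axes x f : Set G) with hM
  have hjM : j ∈ M := Subgroup.pow_mem _ hn _
  have hjf : Commute j f := hnf.pow_left _
  -- the four group is a Sylow subgroup of the normalizer of the axes
  obtain ⟨E, hE, hE4, htE, hwE, hEmem⟩ := exists_four htp hwp htw hne
  have hEM : E ≤ M := by
    intro e he
    rcases hEmem e he with rfl | rfl | rfl | rfl
    exacts [one_mem _, h.four_axes.1, h.four_axes.2, mul_mem h.four_axes.1 h.four_axes.2]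
  obtain ⟨P₂, hP₂⟩ := (IsPGroup.of_card (n := 2) (show Nat.card (E.subgroupOf M) = 2 ^ 2 by
    rw [Nat.card_congr (Subgroup.subgroupOfEquivOfLe hEM).toEquiv, hE4]; norm_num)).exists_le_sylow
  have hP₂E : ∀ u ∈ (P₂ : Subgroup M), (u : G) ∈ E := by
    intro u hu
    have hcom : ∀ e ∈ E, Commute (u : G) e := fun e he => K.commute_of_pGroup
      (P₂.isPGroup'.map M.subtype) ⟨u, hu, rfl⟩ ⟨⟨e, hEM he⟩, hP₂ he, rfl⟩
    obtain ⟨k, hk⟩ := P₂.isPGroup' ⟨u, hu⟩
    have hu2 : (u : G) * u = 1 := K.sq_of_two_pow (n := k) (by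
      simpa using congrArg (fun z : (P₂ : Subgroup M) => ((z : M) : G)) hk)
    have hux : (u : G) * x * (u : G)⁻¹ ∈ Subgroup.zpowers x :=
      h.axis_mem ((Subgroup.mem_normalizer_iff.1 u.2 x).1 x_mem_axes)
        (((hcom t' htE).mul_left hxt).mul_left (hcom t' htE).inv_left)
    rcases K.axis_invol h.frame (hcom t' htE) (hcom w hwE) hu2 hux h.prime h.xo with e | e | e | e <;>
      rw [e]
    exacts [one_mem _, htE, hwE, mul_mem htE hwE]
  obtain ⟨Q₂, hQ₂⟩ := (IsPGroup.of_card (n := 1) (show Nat.card (Subgroup.zpowers (⟨j, hjM⟩ : M)) = 2 ^ 1 by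
    rw [Nat.card_zpowers, ← Subgroup.orderOf_coe, pow_one]
    exact orderOf_eq_prime (by rw [pow_two, hj2]) hj1)).exists_le_sylow
  obtain ⟨g, hg⟩ := MulAction.exists_smul_eq M P₂ Q₂
  have hgj : (g : G)⁻¹ * j * g ∈ E := by
    have h1 : (⟨j, hjM⟩ : M) ∈ (g • P₂ : Sylow 2 M) := by rw [hg]; exact hQ₂ (Subgroup.mem_zpowers _)
    rw [← SetLike.mem_coe, ← Sylow.coe_coe, Sylow.coe_subgroup_smul, SetLike.mem_coe,
      Subgroup.mem_pointwise_smul_iff_inv_smul_mem] at h1
    simpa [MulAut.smul_def] using hP₂E _ h1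
  obtain ⟨m, hmM, hmj⟩ : ∃ m ∈ M, m * j * m⁻¹ = t' := by
    rcases hEmem _ hgj with e | e | e | e
    · exact absurd (conj_eq_one_iff.1 (show (g : G)⁻¹ * j * (g : G)⁻¹⁻¹ = 1 by rw [inv_inv]; exact e)) hj1
    · exact ⟨(g : G)⁻¹, inv_mem g.2, by rw [inv_inv]; exact e⟩
    · refine ⟨f⁻¹ * (g : G)⁻¹, mul_mem (inv_mem h.f_axes) (inv_mem g.2), ?_⟩
      calc f⁻¹ * (g : G)⁻¹ * j * (f⁻¹ * (g : G)⁻¹)⁻¹ = f⁻¹ * ((g : G)⁻¹ * j * g) * f := by group
        _ = f⁻¹ * (f * t' * f⁻¹) * f := by rw [e, h.g_t]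
        _ = t' := by group
    · refine ⟨f * (g : G)⁻¹, mul_mem h.f_axes (inv_mem g.2), ?_⟩
      calc f * (g : G)⁻¹ * j * (f * (g : G)⁻¹)⁻¹ = f * ((g : G)⁻¹ * j * g) * f⁻¹ := by group
        _ = t' := by rw [e, h.toPreTri.g_tw]
  set y := m * f * m⁻¹ with hy
  have hyo : orderOf y = 3 := by rw [hy, ← MulAut.conj_apply, MulEquiv.orderOf_eq, h.f_order]
  have hyt : Commute y t' := by rw [hy, ← hmj]; exact hjf.symm.map (MulAut.conj m).toMonoidHom
  have hyM : y ∈ M := mul_mem (mul_mem hmM h.f_axes) (inv_mem hmM)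
  exact hnox y hyo (K.axis_odd hx1 hxt htp hxb hyt (hyo ▸ Nat.odd_iff.2 rfl)
    (h.axis_mem ((Subgroup.mem_normalizer_iff.1 hyM x).1 x_mem_axes)
      ((hyt.mul_left hxt).mul_left hyt.inv_left)))

end

/-- **All primes of the first torus are good.** -/
theorem allGood (h3 : K.ThreeFree) (g3 : 3 ∣ oddTorus K.q → K.Good 3) (hU : K.NoUData) :
    ∀ s, s.Prime → s ∣ oddTorus K.q → K.Good s := by
  intro s hs hsb
  by_cases hs3 : s = 3
  · subst hs3; exact g3 hsb
  intro t' w x z₀ hF hxo hz hzo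
  obtain ⟨f, T⟩ := K.exists_tri hF hs hxo hz hzo
  obtain ⟨e, he, het, hew, hef, he1, he2, he3⟩ := T.exists_s0 h3
  by_cases hb : 3 ∣ oddTorus K.q
  · exact T.absurd_three hb (g3 hb) hU he het hew hef he1 he2 he3
  · exact T.absurd_char hs3 h3 hb he hef

end CfsgLib.ReeOrder.Conf
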