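import Cfsg.Agent.Lib.ReeOrder.Local.TLemma

/-!
When three divides the order of the first torus, the centralizers of torus elements of order three have
cyclic Sylow 3-subgroups.
-/

set_option autoImplicit false
set_option linter.unusedSectionVars false
set_option linter.style.haveILetI false

namespace CfsgLib.ReeOrder.Conf

open Cfsg CfsgLib.ReeType PartTools OmegaTools

universe u

variable {G : Type u} [Group G] [Fintype G]
variable {F : Type} [Field F] [Fintype F] [DecidableEq F]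
variable {t : G} (K : Conf t F)

section
variable {K}
variable {t' w x f : G} {r : ℕ}

/-- The cycle does not centralize the first axis. -/
theorem Tri.not_comm_fx (h : K.Tri t' w x f r) : ¬ Commute f x := by
  intro hc
  have hz := h.zp.2.2.1
  rw [hc.eq, mul_inv_cancel_right] at hz
  exact h.frame.2.2.2.1 (eq_one_of_both (mul_self_of h.frame.1.1) h.frame.2.1 hz
    (h.xo.symm ▸ h.toPreTri.r_odd))

theorem Tri.f_ne_one (h : K.Tri t' w x f r) : f ≠ 1 := fun e => h.not_comm_fx (e ▸ Commute.one_left x)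

theorem Tri.f_order (h : K.Tri t' w x f r) : orderOf f = 3 :=
  haveI := Fact.mk Nat.prime_three
  orderOf_eq_prime h.cube h.f_ne_one

/-- The product of the three axis elements. -/
theorem Tri.exists_delta (h : K.Tri t' w x f r) :
    ∃ d : G, d ∈ axes x f ∧ Commute f d ∧ d ≠ 1 ∧ orderOf d = r := by
  haveI := Fact.mk h.prime
  obtain ⟨⟨htp, hwp, htw, hne⟩, hxt, hxw, hx1, -⟩ := h.frame
  set z := f * x * f⁻¹ with hz
  set v := f⁻¹ * x * f with hv
  have hzA : z ∈ axes x f := z_mem_axes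
  have hvA : v ∈ axes x f := v_mem_axes
  have hdA : x * z * v ∈ axes x f := mul_mem (mul_mem x_mem_axes hzA) hvA
  have hd1 : x * z * v ≠ 1 := by
    intro e
    have hzv : x = (z * v)⁻¹ := eq_inv_of_mul_eq_one_left (by rw [← mul_assoc]; exact e)
    refine hx1 (eq_one_of_both (mul_self_of htp) hxt ?_ (h.xo.symm ▸ h.toPreTri.r_odd))
    have hc : t' * (z * v) * t' = (z * v)⁻¹ := by
      calc t' * (z * v) * t' = t' * z * (t' * t') * v * t' := by rw [mul_self_of htp, mul_one]; group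
        _ = (t' * z * t') * (t' * v * t') := by group
        _ = z⁻¹ * v⁻¹ := by
            congr 1
            · exact h.zp.2.2.1
            · exact h.vp.2.2.1
        _ = (z * v)⁻¹ := ((show Commute z v from h.zv).inv_inv.eq).trans (_root_.mul_inv_rev z v).symm
    rw [hzv, inv_inv]
    calc t' * (z * v)⁻¹ * t' = (t' * (z * v) * t')⁻¹ := by
          simp [_root_.mul_inv_rev, inv_of htp, mul_assoc]
      _ = z * v := by rw [hc, inv_inv]
  refine ⟨_, hdA, ?_, hd1, orderOf_eq_prime (h.axes_pow hdA) hd1⟩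
  refine mul_inv_eq_iff_eq_mul.1 ?_
  calc f * (x * z * v) * f⁻¹ = (f * x * f⁻¹) * (f * z * f⁻¹) * (f * v * f⁻¹) := by group
    _ = z * v * x := by rw [← hz, h.f_z, ← hv, h.f_v]
    _ = x * (z * v) := (h.axes_comm (mul_mem hzA hvA) x_mem_axes).eq
    _ = x * z * v := (mul_assoc x z v).symm

end

/-- **Cyclic 3-parts.** -/
theorem goodThree (h : K.ThreeFree) : 3 ∣ oddTorus K.q → K.Good 3 := by
  intro _ t' w x z₀ hF hxo hz hzo
  haveI := Fact.mk Nat.prime_three
  haveI := Fact.mk Nat.prime_two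
  obtain ⟨f, T⟩ := K.exists_tri hF Nat.prime_three hxo hz hzo
  obtain ⟨s, hs, -, -, hsf, -, -, -⟩ := T.exists_s0 h
  obtain ⟨δ, hδA, hδf, hδ1, hδo⟩ := T.exists_delta
  have hδ3 : δ ^ 3 = 1 := T.axes_pow hδA
  set U := Subgroup.zpowers f ⊔ axes x f with hU
  have hUr : IsPGroup 3 U :=
    (IsPGroup.of_card (n := 1) (by rw [Nat.card_zpowers, T.f_order, pow_one])).to_sup_of_normal_right'
      T.axes_pgroup (Subgroup.zpowers_le.2 T.f_axes)
  have hUδ : U ≤ Subgroup.centralizer ({δ} : Set G) :=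
    sup_le (Subgroup.zpowers_le.2 (Subgroup.mem_centralizer_singleton_iff.2 hδf.eq))
      fun a ha => Subgroup.mem_centralizer_singleton_iff.2 (T.axes_comm ha hδA).eq
  have hfU : f ∈ U := Subgroup.mem_sup_left (Subgroup.mem_zpowers f)
  have hfx : ∀ k : G, k * f * k⁻¹ ∈ axes x f → k * x * k⁻¹ ∈ axes x f → False := by
    intro k h1 h2
    refine T.not_comm_fx ?_
    have := (T.axes_comm h1 h2).map (MulAut.conj k⁻¹).toMonoidHom
    simpa [mul_assoc] using this
  set Kd := Subgroup.centralizer ({δ} : Set G) with hKd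
  have hKodd : Odd (Nat.card Kd) := by
    rw [Nat.odd_iff, ← Nat.two_dvd_ne_zero]
    intro hd
    obtain ⟨i, hi⟩ := exists_prime_orderOf_dvd_card' 2 hd
    obtain ⟨k, hk⟩ := T.exists_conj (i := (i : G)) (by rw [Subgroup.orderOf_coe, hi]) hδ1 hδ3
      (Subgroup.mem_centralizer_singleton_iff.1 i.2).symm hUr
      fun u hu => Subgroup.mem_centralizer_singleton_iff.1 (hUδ hu)
    exact hfx k (hk f hfU T.cube) (hk x (Subgroup.mem_sup_right x_mem_axes) (T.axes_pow x_mem_axes))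
  obtain ⟨k, hk⟩ := T.exists_conj (U := U ⊓ Subgroup.centralizer ({f} : Set G)) hs T.f_ne_one T.cube hsf.symm
    (hUr.to_le inf_le_left) fun u hu => Subgroup.mem_centralizer_singleton_iff.1 hu.2
  have hkf := hk f ⟨hfU, Subgroup.mem_centralizer_singleton_iff.2 rfl⟩ T.cube
  have hkδ := hk δ ⟨Subgroup.mem_sup_right hδA, Subgroup.mem_centralizer_singleton_iff.2 hδf.eq.symm⟩ hδ3
  have hAK : axes x f ≤ Kd := le_sup_right.trans hUδ
  obtain ⟨N, -, hN3, hKN, hconj⟩ := T.core_conj hKodd hAK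
  obtain ⟨φ, hφ, hm⟩ := hconj k⁻¹ fun a ha => Subgroup.mem_centralizer_singleton_iff.2 (by
    have := (T.axes_comm ha hkδ).map (MulAut.conj k⁻¹).toMonoidHom
    simpa [Commute, SemiconjBy, mul_assoc] using this.eq)
  set ω := φ⁻¹ * f * φ with hω
  have hωA : ω ∈ axes x f := by
    have := (Subgroup.mem_normalizer_iff.1 hm _).1 hkf
    rwa [show φ⁻¹ * k⁻¹ * (k * f * k⁻¹) * (φ⁻¹ * k⁻¹)⁻¹ = ω by rw [hω]; group] at this
  refine T.not_comm_fx (mul_inv_eq_iff_eq_mul.1 (mul_inv_eq_one.1 ?_))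
  have hcA : f * x * f⁻¹ * x⁻¹ ∈ axes x f := mul_mem z_mem_axes (inv_mem x_mem_axes)
  have hωx : ω * x * ω⁻¹ = x := by rw [(T.axes_commute_x hωA).eq, mul_inv_cancel_right]
  have hcN : f * x * f⁻¹ * x⁻¹ ∈ N := by
    have e : f * x * f⁻¹ * x⁻¹ =
        φ * (ω * φ⁻¹ * ω⁻¹) * ((ω * x) * φ * (ω * x)⁻¹) * ((ω * x * ω⁻¹) * φ⁻¹ * x⁻¹) := by
      rw [hω]; group
    rw [e, hωx]
    exact mul_mem (mul_mem (mul_mem hφ ((Subgroup.mem_normalizer_iff.1 (hKN (hAK hωA)) _).1 (inv_mem hφ)))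
      ((Subgroup.mem_normalizer_iff.1 (hKN (mul_mem (hAK hωA) (hAK x_mem_axes))) _).1 hφ))
      ((Subgroup.mem_normalizer_iff.1 (hKN (hAK x_mem_axes)) _).1 (inv_mem hφ))
  by_contra hne
  exact hN3 (orderOf_eq_prime (T.axes_pow hcA) hne ▸ Subgroup.orderOf_dvd_natCard _ hcN)

end CfsgLib.ReeOrder.Conf
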