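import Cfsg.Agent.Lib.ReeOrder.Local.Frame

/-!
The case of a centralizer of an element of the second torus that does not normalize the four group:
the quotient by the torus is the simple group of order sixty.
-/

set_option autoImplicit false
set_option linter.unusedSectionVars false
set_option linter.style.haveILetI false



namespace CfsgLib.ReeOrder.Conf

open Cfsg CfsgLib.ReeType CfsgLib.ReeOrder.Local Subgroup

universe u

variable {G : Type u} [Group G] [Fintype G]
variable {F : Type} [Field F] [Fintype F] [DecidableEq F]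
variable {t : G} {K : Conf t F}

/-- The centralizer of `z` maps onto the simple group of order sixty with kernel the torus `⟨c⟩`. -/
structure Five (v w c z : G) where
  D : Type u
  [grp : Group D]
  [fin : Finite D]
  φ : centralizer ({z} : Set G) →* D
  surj : Function.Surjective φ
  ker : ∀ (g : G) (hg : g ∈ centralizer ({z} : Set G)), φ ⟨g, hg⟩ = 1 ↔ g ∈ zpowers c
  E : Subgroup D
  sixty : Sixty D E
  hv : Commute v z
  hw : Commute w z
  image : ∀ d ∈ E, ∃ (e : G) (he : e ∈ centralizer ({z} : Set G)),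
    (e = 1 ∨ e = v ∨ e = w ∨ e = v * w) ∧ φ ⟨e, he⟩ = d
  mem_E : ∀ (e : G) (he : e ∈ centralizer ({z} : Set G)),
    (e = 1 ∨ e = v ∨ e = w ∨ e = v * w) → φ ⟨e, he⟩ ∈ E
  central : ∀ g, Commute g z → Commute g c

attribute [instance] Five.grp Five.fin

/-- Either the four group is normal in the centralizer of a torus element, or the quotient has order
sixty. -/
theorem Pair.cases {v w c r z : G} (P : K.Pair v w c r) (hz : z ∈ zpowers c) (z1 : z ≠ 1) :
    (∀ g, Commute g z → ∀ e, (e = 1 ∨ e = v ∨ e = w ∨ e = v * w) →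
      (g * e * g⁻¹ = 1 ∨ g * e * g⁻¹ = v ∨ g * e * g⁻¹ = w ∨ g * e * g⁻¹ = v * w)) ∨
    Nonempty (Five v w c z) := by
  obtain ⟨hzv, hzw, -, -, -⟩ := P.commute_zpow hz
  have h := P.fourAbelian hz z1
  obtain ⟨hAn, hcases⟩ := h.structure_thm
  set C := centralizer ({z} : Set G)
  set E' := (fourGroup v w P.isFour.sq.1 P.isFour.sq.2 P.isFour.2.2.1).subgroupOf C
  set A' := (zpowers c).subgroupOf C
  rcases hcases with hN | ⟨D, hD, hfin, φ, hs, hk, -, hsimple, hsix⟩
  · refine Or.inl fun g hg e he => ?_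
    have hgC : g ∈ C := mem_centralizer_singleton_iff.2 hg.eq
    have heC : e ∈ C := by
      rw [mem_centralizer_singleton_iff]
      rcases he with rfl | rfl | rfl | rfl
      · simp
      · exact hzv.eq.symm
      · exact hzw.eq.symm
      · exact (hzv.mul_right hzw).eq.symm
    exact mem_subgroupOf.1 (hN ⟨g, hgC⟩ ⟨e, heC⟩ (mem_subgroupOf.2 he))
  · refine Or.inr ⟨{
      D := D, φ := φ, surj := hs, ker := ?_, E := E'.map φ, sixty := hsix, hv := hzv.symm, hw := hzw.symm,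
      image := ?_, mem_E := fun e he hee => mem_map_of_mem φ (mem_subgroupOf.2 hee), central := ?_ }⟩
    · intro g hg
      rw [← MonoidHom.mem_ker, hk]
      exact mem_subgroupOf
    · rintro _ ⟨⟨e, heC⟩, he, rfl⟩
      exact ⟨e, heC, mem_subgroupOf.1 he, rfl⟩
    · -- the torus is central
      haveI := hAn
      haveI : (centralizer (A' : Set C)).Normal := Subgroup.normal_centralizer
      have himg : (centralizer (A' : Set C)).map φ = ⊤ := by
        haveI := hsimple
        rcases ((inferInstance : (centralizer (A' : Set C)).Normal).map φ hs).eq_bot_or_eq_top with e | e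
        · exfalso
          have hle : E'.map φ ≤ (⊥ : Subgroup D) := e ▸ Subgroup.map_mono (fun x hx =>
            mem_centralizer_iff.2 fun a ha => (h.comm a ha x hx).eq)
          have := hsix.four
          rw [le_bot_iff.1 hle, card_bot] at this
          omega
        · exact e
      intro g hg
      have hgC : g ∈ C := mem_centralizer_singleton_iff.2 hg.eq
      obtain ⟨x, hx, hxe⟩ : φ ⟨g, hgC⟩ ∈ (centralizer (A' : Set C)).map φ := himg ▸ mem_top _
      have hxg : x⁻¹ * ⟨g, hgC⟩ ∈ A' := by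
        rw [← hk, MonoidHom.mem_ker, map_mul, map_inv, hxe, inv_mul_cancel]
      have hgA : (⟨g, hgC⟩ : C) ∈ centralizer (A' : Set C) := by
        have hA : A' ≤ centralizer (A' : Set C) := fun a ha =>
          mem_centralizer_iff.2 fun b hb => (h.abel b hb a ha).eq
        have := mul_mem hx (hA hxg)
        rwa [mul_inv_cancel_left] at this
      have hcC : c ∈ C := by
        obtain ⟨k, rfl⟩ := mem_zpowers_iff.1 hz
        exact mem_centralizer_singleton_iff.2 ((Commute.refl c).zpow_right k).eq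
      exact congrArg Subtype.val
        ((mem_centralizer_iff.1 hgA ⟨c, hcC⟩ (mem_subgroupOf.2 (mem_zpowers c))).symm)

namespace Five

variable {v w c z : G} (M : Five v w c z)
include M

theorem mem_of_commute {g : G} (hg : Commute g z) : g ∈ centralizer ({z} : Set G) :=
  mem_centralizer_singleton_iff.2 hg.eq

theorem c_comm : Commute c z := by
  have h : (1 : G) ∈ centralizer ({z} : Set G) := one_mem _
  exact (M.central z (Commute.refl z)).symm

/-- The normal torus is invariant under anything normalizing it and fixing or inverting `z`. -/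
theorem exists_twist {r : G} (hr : r * r = 1) (hrv : Commute r v) (hrw : Commute r w)
    (hrc : r * c * r⁻¹ = c⁻¹) (hz : z ∈ zpowers c) (hv : v * v = 1) (hw : w * w = 1)
    (hvw : Commute v w) :
    ∃ e, (e = 1 ∨ e = v ∨ e = w ∨ e = v * w) ∧
      ∀ g, Commute g z → r * e * g * (r * e)⁻¹ * g⁻¹ ∈ zpowers c := by
  classical
  have hrz : r * z * r⁻¹ = z⁻¹ := by
    obtain ⟨k, rfl⟩ := mem_zpowers_iff.1 hz
    rw [← conj_zpow, hrc, _root_.inv_zpow]
  set C := centralizer ({z} : Set G)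
  have hnorm : ∀ g ∈ C, r * g * r⁻¹ ∈ C := by
    intro g hg
    have h1 : Commute g z⁻¹ :=
      (show Commute g z from mem_centralizer_singleton_iff.1 hg).inv_right
    have h2 : Commute (r * g * r⁻¹) (r * z⁻¹ * r⁻¹) := h1.map (MulAut.conj r).toMonoidHom
    have h3 : r * z⁻¹ * r⁻¹ = z := by
      rw [show r * z⁻¹ * r⁻¹ = (r * z * r⁻¹)⁻¹ by group, hrz, inv_inv]
    rw [h3] at h2
    exact mem_centralizer_singleton_iff.2 h2.eq
  let ρ : C →* C :=
    { toFun := fun g => ⟨r * g * r⁻¹, hnorm g g.2⟩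
      map_one' := Subtype.ext (by simp)
      map_mul' := fun a b => Subtype.ext (by simp [mul_assoc]) }
  have hρρ : ∀ g, ρ (ρ g) = g := fun g => Subtype.ext (by
    show r * (r * g * r⁻¹) * r⁻¹ = g
    rw [show r⁻¹ = r from inv_eq_of_mul_eq_one_right hr]
    calc r * (r * g * r) * r = (r * r) * g * (r * r) := by group
      _ = g := by rw [hr, one_mul, mul_one])
  have hle : M.φ.ker ≤ (M.φ.comp ρ).ker := by
    intro g hg
    have hgc : (g : G) ∈ zpowers c := (M.ker g g.2).1 hg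
    obtain ⟨k, hk⟩ := mem_zpowers_iff.1 hgc
    refine (M.ker _ (ρ g).2).2 ?_
    show r * (g : G) * r⁻¹ ∈ zpowers c
    rw [← hk, ← conj_zpow, hrc]
    exact zpow_mem (inv_mem (mem_zpowers c)) k
  let σ : M.D →* M.D := M.φ.liftOfSurjective M.surj ⟨M.φ.comp ρ, hle⟩
  have hσ : ∀ g, σ (M.φ g) = M.φ (ρ g) := fun g =>
    M.φ.liftOfRightInverse_comp_apply _ (Function.rightInverse_surjInv M.surj) ⟨M.φ.comp ρ, hle⟩ g
  have hσσ : ∀ d, σ (σ d) = d := fun d => by
    obtain ⟨g, rfl⟩ := M.surj d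
    rw [hσ, hσ, hρρ]
  let σ' : M.D ≃* M.D :=
    { toFun := σ, invFun := σ, left_inv := hσσ, right_inv := hσσ, map_mul' := map_mul σ }
  obtain ⟨d, hd, hconj⟩ := M.sixty.auto_inner σ' (fun d hd => by
    obtain ⟨e, he, hee, rfl⟩ := M.image d hd
    show σ _ = _
    rw [hσ]
    congr 1
    refine Subtype.ext (?_ : r * e * r⁻¹ = e)
    have hre : Commute r e := by
      rcases hee with rfl | rfl | rfl | rfl
      · exact Commute.one_right r
      · exact hrv
      · exact hrw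
      · exact hrv.mul_right hrw
    rw [hre.eq, mul_inv_cancel_right])
  obtain ⟨e, he, hee, rfl⟩ := M.image d hd
  have he2 : e * e = 1 ∧ Commute r e := by
    rcases hee with rfl | rfl | rfl | rfl
    · exact ⟨one_mul 1, Commute.one_right r⟩
    · exact ⟨hv, hrv⟩
    · exact ⟨hw, hrw⟩
    · exact ⟨by rw [hvw.symm.mul_mul_mul_comm, hv, hw, one_mul], hrv.mul_right hrw⟩
  refine ⟨e, hee, fun g hg => ?_⟩
  have hgC : g ∈ C := mem_centralizer_singleton_iff.2 hg.eq
  have key : M.φ (ρ (⟨e, he⟩ * ⟨g, hgC⟩ * ⟨e, he⟩⁻¹) * ⟨g, hgC⟩⁻¹) = 1 := by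
    have h1 : σ (M.φ (⟨e, he⟩ * ⟨g, hgC⟩ * ⟨e, he⟩⁻¹)) = M.φ ⟨g, hgC⟩ := by
      have h2 := hconj (M.φ (⟨e, he⟩ * ⟨g, hgC⟩ * ⟨e, he⟩⁻¹))
      change σ _ = _ at h2
      rw [h2, map_mul, map_mul, map_inv]
      have h3 : M.φ ⟨e, he⟩ * M.φ ⟨e, he⟩ = 1 := by
        rw [← map_mul, show (⟨e, he⟩ : C) * ⟨e, he⟩ = 1 from Subtype.ext he2.1, map_one]
      rw [inv_eq_of_mul_eq_one_right h3]
      calc _ = M.φ ⟨e, he⟩ * M.φ ⟨e, he⟩ * M.φ ⟨g, hgC⟩ * (M.φ ⟨e, he⟩ * M.φ ⟨e, he⟩) := by group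
        _ = _ := by rw [h3, one_mul, mul_one]
    rw [hσ] at h1
    rw [map_mul, map_inv, h1, mul_inv_cancel]
  have hres := (M.ker _ (ρ (⟨e, he⟩ * ⟨g, hgC⟩ * ⟨e, he⟩⁻¹) * ⟨g, hgC⟩⁻¹).2).1 key
  have : r * e * g * (r * e)⁻¹ * g⁻¹ = r * (e * g * e⁻¹) * r⁻¹ * g⁻¹ := by group
  rw [this]
  exact hres

/-- Lifts commuting with an involution that acts trivially on the quotient and inverts the torus. -/
theorem exists_lift {s : G} (hsc : s * c * s⁻¹ = c⁻¹) (hc : Odd (orderOf c))
    (hs' : ∀ g, Commute g z → s * g * s⁻¹ * g⁻¹ ∈ zpowers c) (d : M.D) :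
    ∃ (g : G) (hg : g ∈ centralizer ({z} : Set G)), Commute g s ∧ M.φ ⟨g, hg⟩ = d := by
  obtain ⟨⟨g, hg⟩, rfl⟩ := M.surj d
  have hgz : Commute g z := mem_centralizer_singleton_iff.1 hg
  obtain ⟨m, hm⟩ := mem_zpowers_iff.1 (hs' g hgz)
  obtain ⟨k, hk⟩ : ∃ k : ℤ, c ^ (m - 2 * k) = 1 := by
    obtain ⟨j, hj⟩ := hc
    refine ⟨m * (j + 1), ?_⟩
    rw [show m - 2 * (m * (j + 1)) = ((2 * j + 1 : ℕ) : ℤ) * (-m) by push_cast; ring, zpow_mul,
      zpow_natCast, ← hj, pow_orderOf_eq_one, one_zpow]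
  refine ⟨c ^ k * g, mul_mem (zpow_mem (M.mem_of_commute M.c_comm) k) hg, ?_, ?_⟩
  · show c ^ k * g * s = s * (c ^ k * g)
    refine (mul_inv_eq_iff_eq_mul.1 ?_).symm
    calc s * (c ^ k * g) * s⁻¹ = (s * c ^ k * s⁻¹) * (s * g * s⁻¹ * g⁻¹) * g := by group
      _ = c ^ (-k) * c ^ m * g := by rw [← conj_zpow, hsc, _root_.inv_zpow, zpow_neg, hm]
      _ = c ^ k * g := by
        congr 1
        rw [← zpow_add]
        refine mul_inv_eq_one.1 ?_
        rw [← zpow_neg, ← zpow_add, ← hk]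
        congr 1
        ring
  · have h1 : M.φ ⟨c ^ k, zpow_mem (M.mem_of_commute M.c_comm) k⟩ = 1 :=
      (M.ker _ _).2 (zpow_mem_zpowers c k)
    calc M.φ ⟨c ^ k * g, _⟩ = M.φ ⟨c ^ k, zpow_mem (M.mem_of_commute M.c_comm) k⟩ * M.φ ⟨g, hg⟩ := by
          rw [← map_mul]; rfl
      _ = M.φ ⟨g, hg⟩ := by rw [h1, one_mul]

/-- A lift of the identity commuting with such an involution is trivial. -/
theorem lift_one {s g : G} (hsc : s * c * s⁻¹ = c⁻¹) (hc : Odd (orderOf c))
    (hg : g ∈ centralizer ({z} : Set G)) (hgs : Commute g s) (h : M.φ ⟨g, hg⟩ = 1) : g = 1 := by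
  obtain ⟨k, rfl⟩ := mem_zpowers_iff.1 ((M.ker g hg).1 h)
  have h1 : c ^ k = (c ^ k)⁻¹ := by
    rw [← _root_.inv_zpow, ← hsc, conj_zpow, hgs.symm.eq, mul_inv_cancel_right]
  refine eq_one_of_odd (hc.of_dvd_nat ?_) (eq_inv_iff_mul_eq_one.1 h1)
  rw [← Nat.card_zpowers, ← Nat.card_zpowers]
  exact card_dvd_of_le (zpowers_le.2 (zpow_mem_zpowers c k))

/-- What commutes with an element of order three of the quotient lies in the torus times its powers. -/
theorem commute_three {x g : G} (hx : x ∈ centralizer ({z} : Set G))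
    (h3 : orderOf (M.φ ⟨x, hx⟩) = 3) (hg : Commute g z) (hgx : Commute g x) :
    ∃ (i : ℤ), g * x ^ i ∈ zpowers c := by
  obtain ⟨-, -, -, hC⟩ := M.sixty.three_spec h3
  have hgC : g ∈ centralizer ({z} : Set G) := mem_centralizer_singleton_iff.2 hg.eq
  have hc' : Commute (⟨g, hgC⟩ : centralizer ({z} : Set G)) ⟨x, hx⟩ := Subtype.ext hgx.eq
  obtain ⟨i, hi⟩ := mem_zpowers_iff.1 (hC _ (hc'.map M.φ))
  refine ⟨-i, (M.ker _ (mul_mem hgC (zpow_mem hx (-i)))).1 ?_⟩
  rw [show (⟨g * x ^ (-i), mul_mem hgC (zpow_mem hx (-i))⟩ : centralizer ({z} : Set G)) =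
    ⟨g, hgC⟩ * ⟨x, hx⟩ ^ (-i) from Subtype.ext (by simp), map_mul, map_zpow, ← hi, zpow_neg,
    mul_inv_cancel]

end Five

end CfsgLib.ReeOrder.Conf
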