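import Mathlib

/-!
Elementary facts about involutions acting on groups of odd order.
-/

set_option autoImplicit false

namespace CfsgLib.ReeOrder.Local

open Subgroup

variable {G : Type*} [Group G]

/-- An involution without non-trivial fixed elements inverts a finite group it normalizes. -/
theorem inverts_of_fpf [Finite G] {N : Subgroup G} {s : G} (hs : s * s = 1)
    (hN : ∀ x ∈ N, s * x * s⁻¹ ∈ N) (hfix : ∀ x ∈ N, Commute x s → x = 1) :
    (∀ x ∈ N, s * x * s⁻¹ = x⁻¹) ∧ ∀ x ∈ N, ∀ y ∈ N, Commute x y := by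
  let φ : N →* N :=
    { toFun := fun x => ⟨s * x * s⁻¹, hN x x.2⟩
      map_one' := Subtype.ext (by simp)
      map_mul' := fun a b => Subtype.ext (by simp [mul_assoc]) }
  have hfpf : MonoidHom.FixedPointFree φ := fun x hx => by
    have h : s * (x : G) * s⁻¹ = x := congrArg Subtype.val hx
    exact Subtype.ext (hfix x x.2 (mul_inv_eq_iff_eq_mul.1 h).symm)
  have hinv : Function.Involutive φ := fun x => Subtype.ext (by
    show s * (s * (x : G) * s⁻¹) * s⁻¹ = x
    rw [show s⁻¹ = s from inv_eq_of_mul_eq_one_right hs]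
    calc s * (s * (x : G) * s) * s = (s * s) * x * (s * s) := by group
      _ = x := by rw [hs, one_mul, mul_one])
  refine ⟨fun x hx => ?_, fun x hx y hy => ?_⟩
  · exact congrArg Subtype.val (congrFun (hfpf.coe_eq_inv_of_involutive hinv) ⟨x, hx⟩)
  · exact congrArg Subtype.val (hfpf.commute_all_of_involutive hinv ⟨x, hx⟩ ⟨y, hy⟩).eq

/-- An element inverted by `v` commutes with a subgroup it normalizes on which `v` acts as a scalar. -/
theorem commute_of_scalar {N : Subgroup G} {v β : G} (hβ : Odd (orderOf β))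
    (hinv : v * β * v⁻¹ = β⁻¹) (hN : ∀ y ∈ N, β * y * β⁻¹ ∈ N)
    (hsc : (∀ y ∈ N, v * y * v⁻¹ = y) ∨ (∀ y ∈ N, v * y * v⁻¹ = y⁻¹)) {y : G} (hy : y ∈ N) :
    Commute β y := by
  have h1 : v * (β * y * β⁻¹) * v⁻¹ = β⁻¹ * (v * y * v⁻¹) * β := by
    calc v * (β * y * β⁻¹) * v⁻¹ = (v * β * v⁻¹) * (v * y * v⁻¹) * (v * β * v⁻¹)⁻¹ := by group
      _ = β⁻¹ * (v * y * v⁻¹) * β := by rw [hinv, inv_inv]
  obtain ⟨k, hk⟩ := hβ
  have key : Commute (β * β) y := by
    rcases hsc with h | h
    · rw [h _ (hN y hy), h y hy] at h1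
      calc β * β * y = β * (β * y * β⁻¹) * β := by group
        _ = β * (β⁻¹ * y * β) * β := by rw [h1]
        _ = y * (β * β) := by group
    · rw [h _ (hN y hy), h y hy] at h1
      have h1' : β * y * β⁻¹ = β⁻¹ * y * β := by
        calc β * y * β⁻¹ = ((β * y * β⁻¹)⁻¹)⁻¹ := (inv_inv _).symm
          _ = (β⁻¹ * y⁻¹ * β)⁻¹ := by rw [h1]
          _ = β⁻¹ * y * β := by group
      calc β * β * y = β * (β * y * β⁻¹) * β := by group
        _ = β * (β⁻¹ * y * β) * β := by rw [h1']
        _ = y * (β * β) := by group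
  have hb : β = (β * β) ^ (k + 1) := by
    rw [← pow_two, ← pow_mul, show 2 * (k + 1) = orderOf β + 1 by omega, pow_succ, pow_orderOf_eq_one,
      one_mul]
  rw [hb]
  exact key.pow_left _

/-- The normalizer of a subgroup normalizes its characteristic subgroups. -/
theorem conj_mem_of_characteristic {H : Subgroup G} (R : Subgroup H) [hR : R.Characteristic] {a : G}
    (ha : a ∈ normalizer (H : Set G)) {y : G} (hy : y ∈ R.map H.subtype) :
    a * y * a⁻¹ ∈ R.map H.subtype := by
  obtain ⟨x, hx, rfl⟩ := hy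
  refine ⟨Subgroup.normalizerMonoidHom H ⟨a, ha⟩ x, ?_, rfl⟩
  have := hR.fixed (Subgroup.normalizerMonoidHom H ⟨a, ha⟩)
  rw [SetLike.mem_coe, ← this] at hx
  exact hx

end CfsgLib.ReeOrder.Local
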