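import Cfsg.Agent.Lib.ReeOrder.Frames
import Cfsg.Agent.Lib.ReeOrder.Local.Five
import Cfsg.Agent.Lib.ReeOrder.Local.Parts
import Cfsg.Agent.Lib.Solvable.Fitting
import Cfsg.Agent.Lib.Solvable.CoprimeGeneration
import Cfsg.Agent.Lib.PF.OddOrder

/-!
Centralizers of elements of the second torus normalize their four group.

Otherwise such a centralizer is a central extension of the group of order sixty, and a complement to the
torus `A` contains an element `f` of order three that is an odd torus element for some involution `t''`.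
In the odd core `O` of the centralizer of `f` every primary part of the Fitting subgroup lies in one of
the three parts of `⟨t'', u⟩`, so the torus `B` of `t''` and the element `z` both centralize it and hence
each other, which forces `b = 3`.
-/

set_option autoImplicit false
set_option linter.unusedSectionVars false
set_option linter.style.haveILetI false

namespace CfsgLib.ReeOrder.Conf

open Cfsg CfsgLib.ReeType CfsgLib.ReeOrder.Local Subgroup

universe u

variable {G : Type u} [Group G] [Fintype G]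
variable {F : Type} [Field F] [Fintype F] [DecidableEq F]
variable {t : G} (K : Conf t F)

/-- The statement provided by the analysis of good primes. -/
def NoBOfGood : Prop :=
  ∀ (t' w x : G), K.IsBFrame t' w x → (orderOf x).Prime → K.Good (orderOf x) → K.NoB t' w x

include K

/-- The frame attached to the case of the group of order sixty. -/
theorem five_frame (h3 : K.ThreeFree) {v w c r z : G} (P : K.Pair v w c r) (hz : z ∈ zpowers c)
    (z1 : z ≠ 1) (M : Five v w c z) :
    ∃ (s u f : G), K.IsBFrame s u f ∧ orderOf f = 3 ∧ s * c * s⁻¹ = c⁻¹ ∧ Commute u c ∧ Commute f c ∧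
      (∀ x ∈ zpowers c, x ≠ 1 → ∀ g, Commute g x → Commute g f → ∃ i : ℤ, g * f ^ i ∈ zpowers c) := by
  classical
  obtain ⟨hv2, hw2⟩ := P.isFour.sq
  have hvw := P.isFour.2.2.1
  have hr2 : r * r = 1 := Psl.involution_mul_self P.ord_r
  obtain ⟨e, he, htw⟩ := M.exists_twist hr2 P.rv P.rw' P.inv hz hv2 hw2 hvw
  have he2 : e * e = 1 ∧ Commute r e ∧ Commute e c := by
    rcases he with rfl | rfl | rfl | rfl
    · exact ⟨one_mul 1, Commute.one_right r, Commute.one_left c⟩
    · exact ⟨hv2, P.rv, P.cv.symm⟩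
    · exact ⟨hw2, P.rw', P.cw.symm⟩
    · exact ⟨by rw [hvw.symm.mul_mul_mul_comm, hv2, hw2, one_mul], P.rv.mul_right P.rw',
        P.cv.symm.mul_left P.cw.symm⟩
  obtain ⟨s, hs_def⟩ : ∃ s, s = r * e := ⟨_, rfl⟩
  have hs2 : s * s = 1 := by rw [hs_def, he2.2.1.symm.mul_mul_mul_comm, hr2, he2.1, one_mul]
  have hsc : s * c * s⁻¹ = c⁻¹ := by
    calc s * c * s⁻¹ = r * (e * c * e⁻¹) * r⁻¹ := by rw [hs_def]; group
      _ = c⁻¹ := by rw [he2.2.2.eq, mul_inv_cancel_right, P.inv]
  have hs1 : s ≠ 1 := fun e1 => by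
    rw [e1, one_mul, inv_one, mul_one] at hsc
    have := eq_one_of_odd P.odd_c (eq_inv_iff_mul_eq_one.1 hsc)
    have ho := P.ord_c
    rw [this, orderOf_one] at ho
    have := K.three_le_a
    omega
  have hso : orderOf s = 2 := orderOf_eq_prime (by rw [pow_two]; exact hs2) hs1
  rw [← hs_def] at htw
  obtain ⟨f₀, u₀, hf₀, hu₀, huf, -⟩ := M.sixty.exists_three
  obtain ⟨f, hfC, hfs, hff⟩ := M.exists_lift hsc P.odd_c htw f₀
  obtain ⟨u, huC, hus, huu⟩ := M.exists_lift hsc P.odd_c htw u₀
  have hfc : Commute f c := M.central f (mem_centralizer_singleton_iff.1 hfC)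
  have huc : Commute u c := M.central u (mem_centralizer_singleton_iff.1 huC)
  have hf3 : f ^ 3 = 1 := M.lift_one hsc P.odd_c (pow_mem hfC 3) (hfs.pow_left 3) (by
    rw [show (⟨f ^ 3, pow_mem hfC 3⟩ : centralizer ({z} : Set G)) = ⟨f, hfC⟩ ^ 3 from rfl, map_pow, hff,
      ← hf₀, pow_orderOf_eq_one])
  have hf1 : f ≠ 1 := fun e1 => by
    subst e1
    rw [show (⟨1, hfC⟩ : centralizer ({z} : Set G)) = 1 from rfl, map_one] at hff
    rw [← hff, orderOf_one] at hf₀
    omega
  have hfo : orderOf f = 3 := orderOf_eq_prime hf3 hf1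
  have hu2 : u * u = 1 := M.lift_one hsc P.odd_c (mul_mem huC huC) (hus.mul_left hus) (by
    rw [show (⟨u * u, mul_mem huC huC⟩ : centralizer ({z} : Set G)) = ⟨u, huC⟩ * ⟨u, huC⟩ from rfl,
      map_mul, huu, Psl.involution_mul_self hu₀])
  have hu1 : u ≠ 1 := fun e1 => by
    subst e1
    rw [show (⟨1, huC⟩ : centralizer ({z} : Set G)) = 1 from rfl, map_one] at huu
    rw [← huu, orderOf_one] at hu₀
    omega
  have huo : orderOf u = 2 := orderOf_eq_prime (by rw [pow_two]; exact hu2) hu1
  have hufi : u * f * u⁻¹ = f⁻¹ := by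
    refine eq_inv_of_mul_eq_one_left ?_
    refine M.lift_one hsc P.odd_c (mul_mem (mul_mem (mul_mem huC hfC) (inv_mem huC)) hfC)
      (((hus.mul_left hfs).mul_left hus.inv_left).mul_left hfs) ?_
    rw [show (⟨u * f * u⁻¹ * f, mul_mem (mul_mem (mul_mem huC hfC) (inv_mem huC)) hfC⟩ :
      centralizer ({z} : Set G)) = ⟨u, huC⟩ * ⟨f, hfC⟩ * ⟨u, huC⟩⁻¹ * ⟨f, hfC⟩ from rfl, map_mul, map_mul,
      map_mul, map_inv, huu, hff, huf, inv_mul_cancel]
  have hufu : u * f * u = f⁻¹ := by rwa [inv_eq_of_mul_eq_one_right hu2] at hufi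
  have hne : s ≠ u := fun e1 => by
    subst e1
    rw [huc.eq, mul_inv_cancel_right] at hsc
    have := eq_one_of_odd P.odd_c (eq_inv_iff_mul_eq_one.1 hsc)
    have ho := P.ord_c
    rw [this, orderOf_one] at ho
    have := K.three_le_a
    omega
  -- `f` is an odd torus element
  have hfb : orderOf f ∣ oddTorus K.q := by
    obtain ⟨K'⟩ := K.conf_of_involution hso
    obtain ⟨p, _⟩ := CharP.exists F
    haveI : Fact p.Prime := ⟨CharP.char_is_prime F p⟩
    rcases K'.odd_cases p hfs (by rw [hfo]; decide) with h | h | h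
    · exfalso
      have hp : p = 3 := by
        have h1 := orderOf_dvd_of_pow_eq_one h
        rw [hfo] at h1
        exact ((Nat.prime_dvd_prime_iff_eq Nat.prime_three Fact.out).1 h1).symm
      subst hp
      have hq3 : K'.q % 8 = 3 := by
        obtain ⟨n, -, hn⟩ := FiniteField.card F 3
        have hpow : ∀ m : ℕ, 3 ^ m % 8 = 1 ∨ 3 ^ m % 8 = 3 := by
          intro m
          induction m with
          | zero => exact Or.inl rfl
          | succ m ih => rw [pow_succ, Nat.mul_mod]; rcases ih with e | e <;> rw [e] <;> simp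
        have hm := K'.q_mod
        have := hpow n
        show Fintype.card F % 8 = 3
        omega
      exact K'.uni_not_inverted 3 hq3 hf1 hfs h hus huo hufu
    · exact h
    · rw [hfo] at h
      exact absurd h h3
  refine ⟨s, u, f, ⟨⟨hso, huo, hus.symm, hne⟩, hfs, hufu, hf1, hfb⟩, hfo, hsc, huc, hfc, ?_⟩
  -- the centralizers of `x` and `f`
  intro x hx hx1 g hgx hgf
  rcases P.cases hx hx1 with hN | ⟨⟨M'⟩⟩
  · exfalso
    -- the four group would be normal in the simple quotient
    haveI := M.sixty.simple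
    have hnorm : M.E.Normal := ⟨fun d hd a => by
      obtain ⟨⟨g', hg'⟩, rfl⟩ := M.surj a
      obtain ⟨e', he', hee, rfl⟩ := M.image d hd
      have hgc : Commute g' c := M.central g' (mem_centralizer_singleton_iff.1 hg')
      obtain ⟨k, hk⟩ := mem_zpowers_iff.1 hx
      have hgx' : Commute g' x := hk ▸ hgc.zpow_right k
      have h1 := hN g' hgx' e' hee
      rw [← map_inv, ← map_mul, ← map_mul]
      exact M.mem_E _ _ h1⟩
    rcases hnorm.eq_bot_or_eq_top with e1 | e1
    · have := M.sixty.four; rw [e1, card_bot] at this; omega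
    · have := M.sixty.four; rw [e1, card_top, M.sixty.card] at this; omega
  · have hfx : Commute f x := by
      obtain ⟨k, hk⟩ := mem_zpowers_iff.1 hx
      exact hk ▸ hfc.zpow_right k
    have hfC' : f ∈ centralizer ({x} : Set G) := mem_centralizer_singleton_iff.2 hfx.eq
    have hfout : f ∉ zpowers c := fun h => by
      have h1 : Commute u f := by
        obtain ⟨k, hk⟩ := mem_zpowers_iff.1 h
        exact hk ▸ huc.zpow_right k
      rw [h1.eq, mul_inv_cancel_right] at hufi
      exact hf1 (eq_one_of_odd (by rw [hfo]; decide) (eq_inv_iff_mul_eq_one.1 hufi))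
    have himg : orderOf (M'.φ ⟨f, hfC'⟩) = 3 := orderOf_eq_prime
      (by rw [← map_pow, show (⟨f, hfC'⟩ : centralizer ({x} : Set G)) ^ 3 = 1 from Subtype.ext hf3, map_one])
      (fun e1 => hfout ((M'.ker f hfC').1 e1))
    exact M'.commute_three hfC' himg hgx hgf

/-- The frame of the case of the group of order sixty is contradictory. -/
theorem frame_false (g3 : 3 ∣ oddTorus K.q → K.Good 3) (hNB : K.NoBOfGood) {v w c r z : G}
    (P : K.Pair v w c r) (hz : z ∈ zpowers c) (z1 : z ≠ 1) {s u f : G} (hfr : K.IsBFrame s u f)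
    (hfo : orderOf f = 3) (hsc : s * c * s⁻¹ = c⁻¹) (huc : Commute u c) (hfc : Commute f c)
    (hcent : ∀ x ∈ zpowers c, x ≠ 1 → ∀ g, Commute g x → Commute g f → ∃ i : ℤ, g * f ^ i ∈ zpowers c) :
    False := by
  classical
  obtain ⟨⟨hso, huo, hsu, hne⟩, hfs, hufu, hf1, hfb⟩ := hfr
  have hs2 : s * s = 1 := Psl.involution_mul_self hso
  have hu2 : u * u = 1 := Psl.involution_mul_self huo
  have hufi : u * f * u⁻¹ = f⁻¹ := by rw [inv_eq_of_mul_eq_one_right hu2]; exact hufu
  obtain ⟨K'⟩ := K.conf_of_involution hso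
  have hfr' : K'.IsBFrame s u f := ⟨⟨hso, huo, hsu, hne⟩, hfs, hufu, hf1, hfb⟩
  have hfr2 := K'.frame_swap hfr'
  have hB : K'.IsBElt f := K'.isBElt_of_frame hfr'
  have hnob : K.NoB s u f := hNB s u f ⟨⟨hso, huo, hsu, hne⟩, hfs, hufu, hf1, hfb⟩
    (by rw [hfo]; exact Nat.prime_three) (by rw [hfo]; exact g3 (hfo ▸ hfb))
  obtain ⟨O, hOcard, hOmem, -⟩ := K'.bElt_core hB
  have hco : ∀ x ∈ zpowers c, x ∈ O ∧ Commute x u ∧ s * x * s⁻¹ = x⁻¹ := by
    intro x hx
    obtain ⟨-, -, -, hxo, -⟩ := P.commute_zpow hx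
    obtain ⟨k, rfl⟩ := mem_zpowers_iff.1 hx
    exact ⟨(hOmem _).2 ⟨hfc.symm.zpow_left k, hxo⟩, huc.symm.zpow_left k,
      by rw [← conj_zpow, hsc, _root_.inv_zpow]⟩
  have hconjO : ∀ a, (a * f * a⁻¹ = f ∨ a * f * a⁻¹ = f⁻¹) → ∀ x ∈ O, a * x * a⁻¹ ∈ O := by
    intro a ha x hx
    obtain ⟨hxf, hxo⟩ := (hOmem x).1 hx
    refine (hOmem _).2 ⟨?_, ?_⟩
    · have h1 : Commute (a * x * a⁻¹) (a * f * a⁻¹) := hxf.map (MulAut.conj a).toMonoidHom
      rcases ha with e | e <;> rw [e] at h1
      · exact h1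
      · simpa using h1.inv_right
    · rw [show a * x * a⁻¹ = (MulAut.conj a).toMonoidHom x from rfl,
        orderOf_injective _ (MulEquiv.injective _)]
      exact hxo
  have hsf : s * f * s⁻¹ = f := by rw [hfs.symm.eq, mul_inv_cancel_right]
  have hsO := hconjO s (Or.inl hsf)
  have huO := hconjO u (Or.inr hufi)
  -- the part of `u` is the torus of `z`
  have hA : ∀ x ∈ O, Commute x u → x ∈ zpowers c := by
    intro x hx hxu
    obtain ⟨-, hRc⟩ := inverts_of_fpf (N := O ⊓ centralizer ({u} : Set G)) hs2 (fun y hy => by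
        refine ⟨hsO y hy.1, mem_centralizer_singleton_iff.2 ?_⟩
        have h1 : Commute y u := mem_centralizer_singleton_iff.1 hy.2
        exact (hsu.mul_left h1).mul_left hsu.inv_left)
      (fun y hy hys => K'.frame_fpf hfr' ((hOmem y).1 hy.1).1 hys
        (mem_centralizer_singleton_iff.1 hy.2) ((hOmem y).1 hy.1).2)
    have hzR : z ∈ O ⊓ centralizer ({u} : Set G) :=
      ⟨(hco z hz).1, mem_centralizer_singleton_iff.2 (hco z hz).2.1.eq⟩
    have hxz : Commute x z := hRc x ⟨hx, mem_centralizer_singleton_iff.2 hxu.eq⟩ z hzR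
    obtain ⟨i, hi⟩ := hcent z hz z1 x hxz ((hOmem x).1 hx).1
    have h2 : Commute (f ^ i) u := by
      have := hxu.inv_left.mul_left (hco _ hi).2.1
      rwa [inv_mul_cancel_left] at this
    have h3 : f ^ i = (f ^ i)⁻¹ := by
      rw [← _root_.inv_zpow, ← hufi, conj_zpow (a := u), h2.symm.eq, mul_inv_cancel_right]
    have h4 : f ^ i = 1 := eq_one_of_odd ((show Odd (orderOf f) by rw [hfo]; decide).of_dvd_nat (by
      rw [← Nat.card_zpowers, ← Nat.card_zpowers]
      exact card_dvd_of_le (zpowers_le.2 (zpow_mem_zpowers f i)))) (eq_inv_iff_mul_eq_one.1 h3)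
    rwa [h4, mul_one] at hi
  -- the part of `s * u`
  have hR' : ∀ x ∈ O, Commute x (s * u) → s * x * s⁻¹ = x⁻¹ := by
    intro x hx hxsu
    obtain ⟨hinv, -⟩ := inverts_of_fpf (N := O ⊓ centralizer ({s * u} : Set G)) hs2 (fun y hy => by
        refine ⟨hsO y hy.1, mem_centralizer_singleton_iff.2 ?_⟩
        have h1 : Commute y (s * u) := mem_centralizer_singleton_iff.1 hy.2
        have h2 : Commute s (s * u) := (Commute.refl s).mul_right hsu
        exact (h2.mul_left h1).mul_left h2.inv_left)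
      (fun y hy hys => K'.frame_fpf hfr2 ((hOmem y).1 hy.1).1 hys
        (mem_centralizer_singleton_iff.1 hy.2) ((hOmem y).1 hy.1).2)
    exact hinv x ⟨hx, mem_centralizer_singleton_iff.2 hxsu.eq⟩
  -- the torus of `s`
  obtain ⟨β, w', hβo, hβs, hfβ, -, -, -⟩ := K'.bElt_torus hB
  have hβf : Commute β f := by
    obtain ⟨j, hj⟩ := mem_zpowers_iff.1 hfβ
    exact hj ▸ (Commute.refl β).zpow_right j
  have hβodd : Odd (orderOf β) := hβo ▸ K'.odd_b
  have hβO : β ∈ O := (hOmem β).2 ⟨hβf, hβodd⟩
  have huβ : u * β * u⁻¹ = β⁻¹ := K'.inverts_torus hB hβo hβs hfβ hsu.symm hufi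
  have hBord : ∀ x ∈ O, Commute x s → orderOf x ∣ oddTorus K.q := fun x hx hxs =>
    (Nat.coprime_two_right.2 ((hOmem x).1 hx).2).dvd_of_dvd_mul_left
      (orderOf_dvd_of_pow_eq_one (K'.bElt_pow hB hxs ((hOmem x).1 hx).1))
  -- the primary parts of the Fitting subgroup
  have hsN : s ∈ normalizer (O : Set G) := mem_normalizer_fintype hsO
  have huN : u ∈ normalizer (O : Set G) := mem_normalizer_fintype huO
  have hprim : ∀ l : ℕ, l.Prime → ∀ y ∈ (Cfsg.pCore l ↥O).map O.subtype,
      Commute β y ∧ Commute z y := by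
    intro l hl
    haveI : Fact l.Prime := ⟨hl⟩
    haveI := CfsgLib.Fitting.pCore_characteristic (G := ↥O) l
    obtain ⟨N, hN_def⟩ : ∃ N, N = (Cfsg.pCore l ↥O).map O.subtype := ⟨_, rfl⟩
    rw [← hN_def]
    have hNO : N ≤ O := hN_def ▸ map_subtype_le _
    have hNp : IsPGroup l N := hN_def ▸ (CfsgLib.Fitting.pCore_isPGroup l).map O.subtype
    have hNnorm : ∀ a ∈ normalizer (O : Set G), ∀ y ∈ N, a * y * a⁻¹ ∈ N := by
      intro a ha y hy
      rw [hN_def] at hy ⊢
      exact conj_mem_of_characteristic _ ha hy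
    have hNs := hNnorm s hsN
    have hNu := hNnorm u huN
    have hNβ := hNnorm β (Subgroup.le_normalizer hβO)
    have hNz := hNnorm z (Subgroup.le_normalizer (hco z hz).1)
    have hlpow : ∀ x ∈ N, ∃ k, orderOf x = l ^ k := fun x hx => by
      obtain ⟨k, hk⟩ := hNp ⟨x, hx⟩
      obtain ⟨j, -, hj⟩ := (Nat.dvd_prime_pow hl).1
        (orderOf_dvd_of_pow_eq_one (congrArg Subtype.val hk : x ^ l ^ k = 1))
      exact ⟨j, hj⟩
    have hsmall : ∀ n, ¬ l ∣ n → ∀ x ∈ N, orderOf x ∣ n → x = 1 := by
      intro n hn x hx hd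
      obtain ⟨k, hk⟩ := hlpow x hx
      rcases Nat.eq_zero_or_pos k with rfl | hk0
      · exact orderOf_eq_one_iff.1 (by rw [hk, pow_zero])
      · exact absurd ((dvd_pow_self l hk0.ne').trans (hk ▸ hd)) hn
    -- generation by the three parts
    have hgen : ∀ M : Subgroup G, (∀ y ∈ N, Commute y s → y ∈ M) → (∀ y ∈ N, Commute y u → y ∈ M) →
        (∀ y ∈ N, Commute y (s * u) → y ∈ M) → N ≤ M := by
      intro M h1 h2 h3 
      set E := fourGroup s u hs2 hu2 hsu with hE
      haveI : IsMulCommutative E := ⟨⟨fun a b => Subtype.ext (by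
        show (a : G) * b = b * a
        have key : ∀ x ∈ E, Commute x s ∧ Commute x u := by
          rintro x (rfl | rfl | rfl | rfl)
          · exact ⟨Commute.one_left _, Commute.one_left _⟩
          · exact ⟨Commute.refl _, hsu⟩
          · exact ⟨hsu.symm, Commute.refl _⟩
          · exact ⟨(Commute.refl s).mul_left hsu.symm, hsu.mul_left (Commute.refl u)⟩
        rcases b.2 with e | e | e | e <;> rw [e]
        · simp
        · exact (key a a.2).1.eq
        · exact (key a a.2).2.eq
        · exact ((key a a.2).1.mul_right (key a a.2).2).eq)⟩⟩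
      have hsq : ∀ x ∈ E, x * x = 1 := by
        rintro x (rfl | rfl | rfl | rfl)
        exacts [one_mul 1, hs2, hu2, by rw [hsu.symm.mul_mul_mul_comm, hs2, hu2, one_mul]]
      have hnc : ¬ IsCyclic E := by
        intro hc
        obtain ⟨g, hg⟩ := hc.exists_generator
        have hs : (⟨s, Or.inr (Or.inl rfl)⟩ : E) ∈ zpowers g := hg _
        have hu : (⟨u, Or.inr (Or.inr (Or.inl rfl))⟩ : E) ∈ zpowers g := hg _
        obtain ⟨i, hi⟩ := (isOfFinOrder_of_finite g).mem_powers_iff_mem_zpowers.2 hs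
        obtain ⟨j, hj⟩ := (isOfFinOrder_of_finite g).mem_powers_iff_mem_zpowers.2 hu
        simp only at hi hj
        have hgg : g ^ 2 = 1 := Subtype.ext (by rw [pow_two]; exact hsq _ g.2)
        have hpar : ∀ k : ℕ, g ^ k = 1 ∨ g ^ k = g := fun k => by
          rcases Nat.even_or_odd k with ⟨m, rfl⟩ | ⟨m, rfl⟩
          · exact Or.inl (by rw [← two_mul, pow_mul, hgg, one_pow])
          · exact Or.inr (by rw [pow_succ, pow_mul, hgg, one_pow, one_mul])
        have hs1 : (⟨s, Or.inr (Or.inl rfl)⟩ : E) ≠ 1 := fun e => by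
          have := congrArg Subtype.val e
          change s = 1 at this
          rw [this, orderOf_one] at hso; omega
        have hu1 : (⟨u, Or.inr (Or.inr (Or.inl rfl))⟩ : E) ≠ 1 := fun e => by
          have := congrArg Subtype.val e
          change u = 1 at this
          rw [this, orderOf_one] at huo; omega
        have e1 := (hpar i).resolve_left fun e => hs1 (hi ▸ e)
        have e2 := (hpar j).resolve_left fun e => hu1 (hj ▸ e)
        exact hne (congrArg Subtype.val ((hi.symm.trans e1).trans (e2.symm.trans hj)))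
      have hEn : E ≤ normalizer (N : Set G) := by
        intro x hx
        refine mem_normalizer_fintype fun y hy => ?_
        rcases hx with rfl | rfl | rfl | rfl
        · simpa using hy
        · exact hNs y hy
        · exact hNu y hy
        · have := hNs _ (hNu y hy)
          rwa [show s * (u * y * u⁻¹) * s⁻¹ = s * u * y * (s * u)⁻¹ by group] at this
      have hcop : (Nat.card E).Coprime (Nat.card N) := by
        obtain ⟨k, hk⟩ := IsPGroup.iff_card.1 hNp
        have hNodd : Odd (Nat.card N) := hOcard.of_dvd_nat (card_dvd_of_le hNO)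
        have hE2 : IsPGroup 2 E := fun x => ⟨1, Subtype.ext (by rw [pow_one, pow_two]; exact hsq _ x.2)⟩
        obtain ⟨m, hm⟩ := IsPGroup.iff_card.1 hE2
        rw [hm]
        exact (Nat.coprime_two_left.2 hNodd).pow_left m
      rw [← CfsgLib.CoprimeGeneration.iSup_centralizer_eq E N hnc hEn hcop]
      refine iSup₂_le fun x hx y hy => ?_
      have hyx : Commute y x := mem_centralizer_singleton_iff.1 hy.2
      rcases hx.1 with e | e | e | e
      · exact absurd e hx.2
      · exact h1 y hy.1 (e ▸ hyx)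
      · exact h2 y hy.1 (e ▸ hyx)
      · exact h3 y hy.1 (e ▸ hyx)
    by_cases hlb : l ∣ oddTorus K.q
    · -- centralized by `s`
      have hla : ¬ l ∣ coTorus K.q := fun h => hl.ne_one (Nat.eq_one_of_dvd_coprimes
        (coprime_oddTorus_coTorus K.q_mod) hlb h)
      have hNs' : N ≤ centralizer ({s} : Set G) := by
        refine hgen _ (fun y _ h => mem_centralizer_singleton_iff.2 h.eq) (fun y hy h => ?_) (fun y hy h => ?_)
        · rw [hsmall _ hla y hy (P.commute_zpow (hA y (hNO hy) h)).2.2.2.2]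
          exact one_mem _
        · by_cases hy1 : y = 1
          · rw [hy1]; exact one_mem _
          exfalso
          obtain ⟨k, hk⟩ := hlpow y hy
          have hk0 : k ≠ 0 := fun e => hy1 (orderOf_eq_one_iff.1 (by rw [hk, e, pow_zero]))
          obtain ⟨y', hy'_def⟩ : ∃ y', y' = y ^ l ^ (k - 1) := ⟨_, rfl⟩
          have hy'o : orderOf y' = l := by
            rw [hy'_def, orderOf_pow' _ (pow_ne_zero _ hl.ne_zero), hk,
              Nat.gcd_eq_right (pow_dvd_pow l (Nat.sub_le k 1)), Nat.pow_div (Nat.sub_le k 1) hl.pos,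
              show k - (k - 1) = 1 by omega, pow_one]
          have hyO := (hOmem y).1 (hNO hy)
          have hinv : s * y' * s = y'⁻¹ := by
            have := hR' y (hNO hy) h
            rw [hy'_def, ← inv_pow, ← this, conj_pow, inv_eq_of_mul_eq_one_right hs2]
          refine hnob y' (fun e => hl.ne_one (by rw [← hy'o, e, orderOf_one]))
            (Or.inr ⟨hy'_def ▸ hyO.1.pow_left _, hy'_def ▸ h.pow_left _, hinv, ?_⟩) (hy'o ▸ hlb)
          rw [hy'o]
          exact K.odd_b.of_dvd_nat hlb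
      intro y hy
      have hys : Commute y s := mem_centralizer_singleton_iff.1 (hNs' hy)
      refine ⟨(K'.bElt_comm hB hys ((hOmem y).1 (hNO hy)).1 hβs hβf).symm, ?_⟩
      refine commute_of_scalar (v := s) (P.commute_zpow hz).2.2.2.1 (hco z hz).2.2 hNz (Or.inl fun x hx => ?_) hy
      rw [(show Commute x s from mem_centralizer_singleton_iff.1 (hNs' hx)).symm.eq, mul_inv_cancel_right]
    · -- inverted by `s`
      obtain ⟨hinv, hab⟩ := inverts_of_fpf hs2 hNs (fun x hx hxs => hsmall _ hlb x hx (hBord x (hNO hx) hxs))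
      have hone : (∀ y ∈ N, Commute y u → y = 1) ∨ (∀ y ∈ N, Commute y (s * u) → y = 1) := by
        by_contra hcon
        push Not at hcon
        obtain ⟨⟨x, hx, hxu, hx1⟩, ⟨y, hy, hysu, hy1⟩⟩ := hcon
        have hxc := hA x (hNO hx) hxu
        obtain ⟨i, hi⟩ := hcent x hxc hx1 y (hab y hy x hx) ((hOmem y).1 (hNO hy)).1
        obtain ⟨-, hk1, hk2⟩ := hco _ hi
        have hsu_y : s * u * y * (s * u)⁻¹ = y := by rw [hysu.symm.eq, mul_inv_cancel_right]
        have hsu_f : s * u * f * (s * u)⁻¹ = f⁻¹ := by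
          calc s * u * f * (s * u)⁻¹ = s * (u * f * u⁻¹) * s⁻¹ := by group
            _ = (s * f * s⁻¹)⁻¹ := by rw [hufi]; group
            _ = f⁻¹ := by rw [hsf]
        have e1 : s * u * (y * f ^ i) * (s * u)⁻¹ = y * (f ^ i)⁻¹ := by
          rw [show s * u * (y * f ^ i) * (s * u)⁻¹ = s * u * y * (s * u)⁻¹ * (s * u * f ^ i * (s * u)⁻¹) by group,
            ← conj_zpow, hsu_y, hsu_f, _root_.inv_zpow]
        have e2 : s * u * (y * f ^ i) * (s * u)⁻¹ = (y * f ^ i)⁻¹ := by
          calc s * u * (y * f ^ i) * (s * u)⁻¹ = s * (u * (y * f ^ i) * u⁻¹) * s⁻¹ := by group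
            _ = s * (y * f ^ i) * s⁻¹ := by rw [hk1.symm.eq, mul_inv_cancel_right]
            _ = _ := hk2
        have hyf : Commute y (f ^ i) := ((hOmem y).1 (hNO hy)).1.zpow_right i
        rw [e1, _root_.mul_inv_rev, ← (hyf.inv_inv).eq] at e2
        exact hy1 (eq_one_of_odd ((hOmem y).1 (hNO hy)).2
          (eq_inv_iff_mul_eq_one.1 (mul_right_cancel e2)))
      intro y hy
      rcases hone with h | h
      · have hNsu : N ≤ centralizer ({s * u} : Set G) := by
          refine hgen _ (fun x hx hxs => ?_) (fun x hx hxu => ?_) (fun x _ hx' => mem_centralizer_singleton_iff.2 hx'.eq)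
          · rw [hsmall _ hlb x hx (hBord x (hNO hx) hxs)]; exact one_mem _
          · rw [h x hx hxu]; exact one_mem _
        have hfix : ∀ x ∈ N, s * u * x * (s * u)⁻¹ = x := fun x hx => by
          rw [(show Commute x (s * u) from mem_centralizer_singleton_iff.1 (hNsu hx)).symm.eq, mul_inv_cancel_right]
        refine ⟨commute_of_scalar (v := u) hβodd huβ hNβ (Or.inr fun x hx => ?_) hy,
          commute_of_scalar (v := s * u) (P.commute_zpow hz).2.2.2.1 ?_ hNz (Or.inl hfix) hy⟩
        · calc u * x * u⁻¹ = s⁻¹ * (s * u * x * (s * u)⁻¹) * s := by group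
            _ = s⁻¹ * x * s := by rw [hfix x hx]
            _ = x⁻¹ := by rw [inv_eq_of_mul_eq_one_right hs2]; rw [← hinv x hx, inv_eq_of_mul_eq_one_right hs2]
        · calc s * u * z * (s * u)⁻¹ = s * (u * z * u⁻¹) * s⁻¹ := by group
            _ = z⁻¹ := by rw [(hco z hz).2.1.symm.eq, mul_inv_cancel_right, (hco z hz).2.2]
      · have hNu' : N ≤ centralizer ({u} : Set G) := by
          refine hgen _ (fun x hx hxs => ?_) (fun x _ hxu => mem_centralizer_singleton_iff.2 hxu.eq) (fun x hx hx' => ?_)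
          · rw [hsmall _ hlb x hx (hBord x (hNO hx) hxs)]; exact one_mem _
          · rw [h x hx hx']; exact one_mem _
        have hfix : ∀ x ∈ N, Commute x u := fun x hx => mem_centralizer_singleton_iff.1 (hNu' hx)
        refine ⟨commute_of_scalar (v := u) hβodd huβ hNβ
          (Or.inl fun x hx => by rw [(hfix x hx).symm.eq, mul_inv_cancel_right]) hy, ?_⟩
        obtain ⟨k, hk⟩ := mem_zpowers_iff.1 hz
        obtain ⟨m, hm⟩ := mem_zpowers_iff.1 (hA y (hNO hy) (hfix y hy))
        rw [← hk, ← hm]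
        exact Commute.zpow_zpow_self c k m
  -- both lie in the Fitting subgroup
  haveI : Group.IsSolvable ↥O := CfsgLib.PF.oddSolvable ↥O hOcard
  have hF : ∀ y ∈ Cfsg.fittingSubgroup ↥O, Commute β (y : G) ∧ Commute z (y : G) := by
    have hle : Cfsg.fittingSubgroup ↥O ≤
        (centralizer ({β} : Set G) ⊓ centralizer ({z} : Set G)).comap O.subtype := by
      rw [CfsgLib.Fitting.fitting_eq_iSup_pCore]
      refine iSup_le fun p y hy => ?_
      obtain ⟨h1, h2⟩ := hprim p (Nat.prime_of_mem_primeFactors p.2) y (mem_map_of_mem _ hy)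
      exact ⟨mem_centralizer_singleton_iff.2 h1.symm.eq, mem_centralizer_singleton_iff.2 h2.symm.eq⟩
    intro y hy
    exact ⟨(show Commute (y : G) β from mem_centralizer_singleton_iff.1 (hle hy).1).symm,
      (show Commute (y : G) z from mem_centralizer_singleton_iff.1 (hle hy).2).symm⟩
  have hβF : (⟨β, hβO⟩ : ↥O) ∈ Cfsg.fittingSubgroup ↥O :=
    CfsgLib.Fitting.centralizer_fitting_le (mem_centralizer_iff.2 fun y hy =>
      Subtype.ext (hF y hy).1.symm.eq)
  have hzβ : Commute z β := (hF _ hβF).2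
  obtain ⟨i, hi⟩ := hcent z hz z1 β hzβ.symm hβf
  have hk : β * f ^ i = 1 := by
    have h1 : Commute (β * f ^ i) s := hβs.mul_left (hfs.zpow_left i)
    have h2 := (hco _ hi).2.2
    rw [h1.symm.eq, mul_inv_cancel_right] at h2
    exact eq_one_of_odd (P.commute_zpow hi).2.2.2.1 (eq_inv_iff_mul_eq_one.1 h2)
  have hle : zpowers β ≤ zpowers f := zpowers_le.2 (by
    rw [eq_inv_of_mul_eq_one_left hk]; exact inv_mem (zpow_mem_zpowers f i))
  have hd := card_dvd_of_le hle
  rw [Nat.card_zpowers, Nat.card_zpowers, hfo, hβo] at hd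
  have h5 := K'.five_le_b
  have := Nat.le_of_dvd (by norm_num) hd
  omega

/-- Centralizers of elements of the second torus normalize the four group. -/
theorem aTypeData_of (h3 : K.ThreeFree) (g3 : 3 ∣ oddTorus K.q → K.Good 3) (hNB : K.NoBOfGood) :
    K.ATypeData := by
  intro t' w z hfour hz1 hzt hzw hzo g hg
  obtain ⟨c, r, P⟩ := K.exists_pair hfour
  have hz : z ∈ zpowers c := P.odd_mem hzt hzw (K.odd_a.of_dvd_nat hzo)
  rcases P.cases hz hz1 with hN | ⟨⟨M⟩⟩
  · have hne : ∀ e, (orderOf e = 2) → g * e * g⁻¹ ≠ 1 := fun e he h => by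
      rw [conj_eq_one_iff.1 h, orderOf_one] at he; omega
    have h1 := (hN g hg t' (Or.inr (Or.inl rfl))).resolve_left (hne t' hfour.1)
    have h2 := (hN g hg w (Or.inr (Or.inr (Or.inl rfl)))).resolve_left (hne w hfour.2.1)
    exact ⟨by simpa using h1, by simpa using h2⟩
  · exfalso
    obtain ⟨s, u, f, hfr, hfo, hsc, huc, hfc, hcent⟩ := K.five_frame h3 P hz hz1 M
    exact K.frame_false g3 hNB P hz hz1 hfr hfo hsc huc hfc hcent

end CfsgLib.ReeOrder.Conf
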