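import Cfsg.Agent.Lib.ReeOrder.PslFacts
import Cfsg.Agent.Lib.InvChar.KleinCentralizer
import Cfsg.Agent.Lib.PF.OddOrder

/-!
Facts about `PSL₂(q)`, `q ≡ 5 (mod 8)`, for the centralizers of the torus elements: the point of a
unipotent element, the elements of the second torus normalizing a unipotent centralizer, and subgroups
of odd order.
-/

set_option autoImplicit false
set_option linter.unusedSectionVars false

open Matrix Subgroup

namespace CfsgLib.ReeOrder.Psl

open CfsgLib.PSL2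

universe u

/-- The derived subgroup of a nontrivial subgroup of odd order is smaller. -/
theorem odd_commutator_lt {G : Type u} [Group G] [Finite G] {A : Subgroup G}
    (hodd : Odd (Nat.card A)) (hne : A ≠ ⊥) : ⁅A, A⁆ < A := by
  have := CfsgLib.PF.oddSolvable A hodd
  have : Nontrivial A := (Subgroup.nontrivial_iff_ne_bot A).2 hne
  have h := Group.IsSolvable.commutator_lt_top_of_nontrivial (G := A)
  rw [commutator_def] at h
  have h' := Subgroup.map_subtype_lt_map_subtype.2 h
  rwa [Subgroup.map_commutator, ← MonoidHom.range_eq_map, Subgroup.range_subtype] at h'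

/-- Conjugation by a normalizing element preserves the derived subgroup. -/
theorem conj_mem_commutator {G : Type u} [Group G] {A : Subgroup G} {x : G}
    (hx : ∀ a ∈ A, x * a * x⁻¹ ∈ A) {a : G} (ha : a ∈ ⁅A, A⁆) : x * a * x⁻¹ ∈ ⁅A, A⁆ := by
  have hle : A.map (MulAut.conj x).toMonoidHom ≤ A := by
    rintro _ ⟨b, hb, rfl⟩
    exact hx b hb
  have h : (⁅A, A⁆).map (MulAut.conj x).toMonoidHom ≤ ⁅A, A⁆ := by
    rw [Subgroup.map_commutator]
    exact Subgroup.commutator_mono hle hle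
  exact h ⟨a, ha, rfl⟩

variable {F : Type u} [Field F] [Fintype F] [DecidableEq F]

local notation "PSL" => ProjectiveSpecialLinearGroup (Fin 2) F

variable (h8 : (Fintype.card F) % 8 = 3 ∨ (Fintype.card F) % 8 = 5) (hq : 11 ≤ (Fintype.card F))
include h8 hq

/-- The point of a unipotent element. -/
theorem unipotent_point (p : ℕ) [Fact p.Prime] [CharP F p] {k : PSL} (k1 : k ≠ 1) (hk : k ^ p = 1) :
    ∃ w : OnePoint F, ∀ n : PSL, Commute (n * k * n⁻¹) k → n ∈ pslPointStab w := by
  classical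
  let ι : F →+* AlgebraicClosure F := algebraMap F _
  have : CharP (AlgebraicClosure F) p := charP_of_injective_ringHom ι.injective p
  obtain ⟨Φ, hΦ⟩ := exists_frob (F := F) (L := AlgebraicClosure F) p
  have hne := (map_ne_one_iff _ (pslLineHom_injective ι)).2 k1
  obtain ⟨x, hx⟩ := exists_fix_of_isAlgClosed (pslLineHom_mem_range ι k)
  have huniq : ∀ z, pslLineHom ι k z = z → z = x := by
    refine (pow_eq_one_iff_perm p (pslLineHom_mem_range ι k) hne hx).1 ?_
    rw [← map_pow, hk, map_one]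
  obtain ⟨w, hw⟩ := rational_of_unique_fix ι hΦ (g := ProjectiveSpecialLinearGroup.toPGL k) hx huniq
  refine ⟨w, fun n hn => ?_⟩
  set m := n * k * n⁻¹ with hm
  have hmx : pslLineHom ι m x = x := huniq _ (by
    rw [← Equiv.Perm.mul_apply, ← map_mul, ← hn.eq, map_mul, Equiv.Perm.mul_apply, hx])
  have hn' : pslLineHom ι n⁻¹ x = x := huniq _ (by
    rw [← Equiv.Perm.mul_apply, ← map_mul, show k * n⁻¹ = n⁻¹ * m by rw [hm]; group, map_mul,
      Equiv.Perm.mul_apply, hmx])
  have hnx : pslLineHom ι n x = x := by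
    conv_lhs => rw [← hn', ← Equiv.Perm.mul_apply, ← map_mul, mul_inv_cancel, map_one]
    rfl
  rw [mem_pslPointStab]
  apply map_onePoint_injective ι
  rw [hw]
  calc (pslPerm F n w).map ι = lineHom ι (ProjectiveSpecialLinearGroup.toPGL n) (w.map ι) :=
        (lineHom_apply_map ι _ w).symm
    _ = x := by rw [hw]; exact hnx

/-- The order of a point stabilizer. -/
theorem card_stab_five (h5 : (Fintype.card F) % 8 = 5) (w : OnePoint F) :
    Nat.card (pslPointStab w) = 2 * coTorus (Fintype.card F) * Fintype.card F := by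
  have h := card_pslPointStab (F := F) w
  rw [gcd_eq_two (q_odd h8 hq)] at h
  rcases sq_cases h8 with ⟨e, -, -, -⟩ | ⟨-, -, -, e2⟩
  · omega
  · rw [show Fintype.card F - 1 = 4 * coTorus (Fintype.card F) by omega] at h
    have : Fintype.card F * (4 * coTorus (Fintype.card F)) =
        2 * (2 * coTorus (Fintype.card F) * Fintype.card F) := by ring
    omega

omit hq in
theorem coprime_card (p : ℕ) [Fact p.Prime] [CharP F p] :
    Nat.Coprime (Fintype.card F) (oddTorus (Fintype.card F)) ∧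
      Nat.Coprime (Fintype.card F) (coTorus (Fintype.card F)) := by
  obtain ⟨n, hp, hn⟩ := FiniteField.card F p
  obtain ⟨h1, h2, -⟩ := coprime_p h8 (F := F) p
  have e1 := h1.pow_left (n : ℕ)
  have e2 := h2.pow_left (n : ℕ)
  rw [← hn] at e1 e2
  exact ⟨e1, e2⟩

omit hq in
theorem sq_ne_one {g : PSL} (g1 : g ≠ 1) (hg : Odd (orderOf g)) : g * g ≠ 1 := fun e =>
  g1 (orderOf_eq_one_iff.1 (Nat.eq_one_of_dvd_coprimes (Nat.coprime_two_right.2 hg) dvd_rfl
    (orderOf_dvd_of_pow_eq_one (by rw [pow_two, e]))))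

omit hq in
theorem eq_one_of_torus {g : PSL} (h1 : orderOf g ∣ oddTorus (Fintype.card F))
    (h2 : orderOf g ∣ coTorus (Fintype.card F)) : g = 1 :=
  orderOf_eq_one_iff.1 (Nat.eq_one_of_dvd_coprimes (coprime_oddTorus_coTorus h8) h1 h2)

/-- Elements of the second torus do not move odd torus elements inside their torus. -/
theorem odd_normalized {y z : PSL} (y1 : y ≠ 1) (hy : orderOf y ∣ oddTorus (Fintype.card F))
    (hz : orderOf z ∣ coTorus (Fintype.card F)) (hc : Commute (z * y * z⁻¹) y) : z = 1 := by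
  obtain ⟨C, hC, hyC, hcard, hcent⟩ := exists_torus_odd h8 hq y1 hy
  haveI := hC.cyclic
  have hyo := (odd_oddTorus h8).of_dvd_nat hy
  have hm : z * y * z⁻¹ ∈ C := hcent _ hc
  have hm2 : z * y * z⁻¹ * (z * y * z⁻¹) ≠ 1 := fun e => sq_ne_one h8 y1 hyo (by
    calc y * y = z⁻¹ * (z * y * z⁻¹ * (z * y * z⁻¹)) * z := by group
      _ = 1 := by rw [e]; group)
  have hnorm : ∀ c ∈ C, z * c * z⁻¹ ∈ C := fun c hc' => hC.cent _ hm hm2 _
    ((show Commute c y from congrArg Subtype.val (mul_comm' (⟨c, hc'⟩ : C) ⟨y, hyC⟩)).map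
      (MulAut.conj z).toMonoidHom)
  have hb := five_le_oddTorus h8 hq
  rcases hC.normalizer z hnorm (by omega) with h | h
  · exact eq_one_of_torus h8 (hcard ▸ Subgroup.orderOf_dvd_natCard C h) hz
  · by_contra z1
    exact sq_ne_one h8 z1 ((odd_coTorus h8).of_dvd_nat hz) h

/-- Odd torus elements do not move elements of the second torus inside their torus. -/
theorem co_normalized {y x : PSL} (y1 : y ≠ 1) (hy : orderOf y ∣ coTorus (Fintype.card F))
    (hx : orderOf x ∣ oddTorus (Fintype.card F)) (hc : Commute (x * y * x⁻¹) y) : x = 1 := by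
  obtain ⟨C, hC, hyC, hcard, hcent⟩ := exists_torus_co h8 hq y1 hy
  haveI := hC.cyclic
  have hyo := (odd_coTorus h8).of_dvd_nat hy
  have hm : x * y * x⁻¹ ∈ C := hcent _ hc
  have hm2 : x * y * x⁻¹ * (x * y * x⁻¹) ≠ 1 := fun e => sq_ne_one h8 y1 hyo (by
    calc y * y = x⁻¹ * (x * y * x⁻¹ * (x * y * x⁻¹)) * x := by group
      _ = 1 := by rw [e]; group)
  have hnorm : ∀ c ∈ C, x * c * x⁻¹ ∈ C := fun c hc' => hC.cent _ hm hm2 _
    ((show Commute c y from congrArg Subtype.val (mul_comm' (⟨c, hc'⟩ : C) ⟨y, hyC⟩)).map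
      (MulAut.conj x).toMonoidHom)
  have ha := three_le_coTorus h8 hq
  rcases hC.normalizer x hnorm (by omega) with h | h
  · have h1 : orderOf x ∣ 2 * coTorus (Fintype.card F) := hcard ▸ Subgroup.orderOf_dvd_natCard C h
    exact eq_one_of_torus h8 hx
      ((Nat.coprime_two_right.2 ((odd_oddTorus h8).of_dvd_nat hx)).dvd_of_dvd_mul_left h1)
  · by_contra x1
    exact sq_ne_one h8 x1 ((odd_oddTorus h8).of_dvd_nat hx) h

/-- An element of the second torus normalizing the centralizer of an inverted unipotent element. -/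
theorem borel_element (p : ℕ) [Fact p.Prime] [CharP F p] (h5 : (Fintype.card F) % 8 = 5) {k j : PSL}
    (k1 : k ≠ 1) (hk : k ^ p = 1) (hj : orderOf j = 2) (hjk : j * k * j⁻¹ = k⁻¹) :
    ∃ c : PSL, c ≠ 1 ∧ orderOf c ∣ coTorus (Fintype.card F) ∧ Commute c j ∧
      ∀ h, Commute h k → Commute (c * h * c⁻¹) k ∧ Commute (c⁻¹ * h * c) k := by
  classical
  obtain ⟨w, hmem⟩ := unipotent_point h8 hq p k1 hk
  set S := pslPointStab w
  have hjS : j ∈ S := hmem j (by rw [hjk]; exact (Commute.refl k).inv_left)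
  have hcentS : ∀ h, Commute h k → h ∈ S := fun h hh => hmem h (by
    rw [hh.eq, mul_inv_cancel_right])
  have hS := card_stab_five h8 hq h5 w
  -- an element of prime order in the stabilizer
  have ha := three_le_coTorus h8 hq
  obtain ⟨l, hl, hla⟩ := Nat.exists_prime_and_dvd (n := coTorus (Fintype.card F)) (by omega)
  haveI := Fact.mk hl
  haveI := Fact.mk Nat.prime_two
  obtain ⟨⟨z, hzS⟩, hzo⟩ := exists_prime_orderOf_dvd_card' (G := S) l
    (by rw [hS]; exact ((hla.mul_left 2).mul_right _))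
  rw [Subgroup.orderOf_mk] at hzo
  have z1 : z ≠ 1 := fun e => hl.ne_one (by rw [← hzo, e, orderOf_one])
  obtain ⟨-, hpa, -⟩ := coprime_p h8 (F := F) p
  have hzp : z ^ p ≠ 1 := fun e => z1 (orderOf_eq_one_iff.1
    (Nat.eq_one_of_dvd_coprimes hpa (orderOf_dvd_of_pow_eq_one e) (hzo ▸ hla)))
  -- its torus, through the point
  let ι : F →+* AlgebraicClosure F := algebraMap F _
  have : CharP (AlgebraicClosure F) p := charP_of_injective_ringHom ι.injective p
  obtain ⟨Φ, hΦ⟩ := exists_frob (F := F) (L := AlgebraicClosure F) p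
  have hne := (map_ne_one_iff _ (pslLineHom_injective ι)).2 z1
  have hback : ∀ (g : PSL) v, pslLineHom ι g (v.map ι) = (pslPerm F g v).map ι := fun g v =>
    lineHom_apply_map ι _ v
  have hzx : pslLineHom ι z (w.map ι) = w.map ι := by
    rw [hback, mem_pslPointStab.1 hzS]
  obtain ⟨y, hy, hyx⟩ : ∃ y, pslLineHom ι z y = y ∧ y ≠ w.map ι := by
    by_contra! hall
    exact hzp (pslLineHom_injective ι (by
      rw [map_pow, map_one, pow_eq_one_iff_perm p (pslLineHom_mem_range ι z) hne hzx]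
      exact hall))
  obtain ⟨e, he⟩ := isPair_of_fix hΦ
    ((map_ne_one_iff _ ProjectiveSpecialLinearGroup.toPGL_injective).2 z1) hyx.symm hzx hy
  have hT := isTorus_pslFix (q_odd h8 hq) hΦ he
  set T := pslFix ι (w.map ι) y
  have hzT : z ∈ T := ⟨hzx, hy⟩
  have hTS : ∀ g ∈ T, g ∈ S := fun g hg => mem_pslPointStab.2 (map_onePoint_injective ι (by
    rw [← hback]; exact hg.1))
  have hTcard : 2 ∣ Nat.card T := by
    rcases torus_card h8 hq hT with e' | e'
    · exfalso
      exact hl.ne_one (Nat.eq_one_of_dvd_coprimes (coprime_oddTorus_coTorus h8)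
        (e' ▸ hzo ▸ Subgroup.orderOf_dvd_natCard T hzT) hla)
    · exact e' ▸ dvd_mul_right 2 _
  obtain ⟨⟨i, hiT⟩, hio⟩ := exists_prime_orderOf_dvd_card' (G := T) 2 hTcard
  rw [Subgroup.orderOf_mk] at hio
  haveI := hT.cyclic
  have hzi : Commute z i := congrArg Subtype.val (mul_comm' (⟨z, hzT⟩ : T) ⟨i, hiT⟩)
  -- the involutions of the stabilizer are conjugate
  have hSyl : ∀ g : S, orderOf g = 2 → ∃ P : Sylow 2 S, g ∈ P ∧ ∀ h ∈ P, h = 1 ∨ h = g := by
    intro g hg
    obtain ⟨P, hP⟩ := (IsPGroup.of_card (n := 1)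
      (show Nat.card (Subgroup.zpowers g) = 2 ^ 1 by rw [Nat.card_zpowers, hg, pow_one])).exists_le_sylow
    have hPc : Nat.card (P : Subgroup S) = 2 := by
      rw [P.card_eq_multiplicity, hS]
      have hodd : Odd (coTorus (Fintype.card F) * Fintype.card F) :=
        (odd_coTorus h8).mul (q_odd h8 hq)
      rw [mul_assoc, Nat.factorization_mul two_ne_zero (fun e0 => by rw [e0] at hodd; simp at hodd),
        Finsupp.add_apply, Nat.Prime.factorization_self Nat.prime_two,
        Nat.factorization_eq_zero_of_not_dvd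
          (fun hd => Nat.not_even_iff_odd.2 hodd (even_iff_two_dvd.2 hd)), add_zero, pow_one]
    have heq : Subgroup.zpowers g = (P : Subgroup S) :=
      Subgroup.eq_of_le_of_card_ge hP (by rw [hPc, Nat.card_zpowers, hg])
    refine ⟨P, hP (Subgroup.mem_zpowers g), fun h hh => ?_⟩
    rw [← SetLike.mem_coe] at hh
    have hh' : h ∈ Subgroup.zpowers g := heq.symm ▸ hh
    exact CfsgLib.InvChar.KleinCentralizer.cases_of_mem_zpowers hg hh'
  have hjo : orderOf (⟨j, hjS⟩ : S) = 2 := by rw [Subgroup.orderOf_mk, hj]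
  obtain ⟨P, hjP, -⟩ := hSyl ⟨j, hjS⟩ hjo
  obtain ⟨P', -, hP'⟩ := hSyl ⟨i, hTS i hiT⟩ (by rw [Subgroup.orderOf_mk, hio])
  obtain ⟨s, hs⟩ := MulAction.exists_smul_eq S P P'
  have hsj : s * ⟨j, hjS⟩ * s⁻¹ ∈ P' := by rw [← hs]; exact ⟨_, hjP, rfl⟩
  have hsji : (s : PSL) * j * (s : PSL)⁻¹ = i := by
    rcases hP' _ hsj with h | h
    · rw [conj_eq_one_iff.1 h, orderOf_one] at hjo
      omega
    · exact congrArg Subtype.val h
  set c := (s : PSL)⁻¹ * z * (s : PSL) with hc
  have hco : orderOf c = l := by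
    rw [← hzo, ← orderOf_injective (MulAut.conj (s : PSL)⁻¹).toMonoidHom (MulEquiv.injective _) z]
    simp [c]
  have hcS : c ∈ S := S.mul_mem (S.mul_mem (S.inv_mem s.2) hzS) s.2
  refine ⟨c, fun e => hl.ne_one (by rw [← hco, e, orderOf_one]), hco ▸ hla, ?_, ?_⟩
  · have hjs : j = (s : PSL)⁻¹ * i * (s : PSL) := by rw [← hsji]; group
    rw [hc, hjs]
    show (s : PSL)⁻¹ * z * s * ((s : PSL)⁻¹ * i * s) = (s : PSL)⁻¹ * i * s * ((s : PSL)⁻¹ * z * s)
    calc _ = (s : PSL)⁻¹ * (z * i) * s := by group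
      _ = (s : PSL)⁻¹ * (i * z) * s := by rw [hzi.eq]
      _ = _ := by group
  -- the Sylow subgroup at the point is commutative
  obtain ⟨P0, hP0⟩ := exists_sylow_normalizer p w
  have hmemP : ∀ m ∈ S, m ^ p = 1 → m ∈ P0 := by
    intro m hm hmp
    have hz' : IsPGroup p (Subgroup.zpowers m) := by
      obtain ⟨d, -, hd⟩ := (Nat.dvd_prime_pow (Fact.out : p.Prime)).1
        (show orderOf m ∣ p ^ 1 by rw [pow_one]; exact orderOf_dvd_of_pow_eq_one hmp)
      exact IsPGroup.of_card (n := d) (by rw [Nat.card_zpowers, hd])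
    have hle : Subgroup.zpowers m ≤ Subgroup.normalizer ((P0 : Subgroup PSL) : Set PSL) :=
      Subgroup.zpowers_le.2 (hP0 m (mem_pslPointStab.1 hm))
    have := P0.is_maximal' (hz'.to_sup_of_normal_right' P0.isPGroup' hle) le_sup_right
    exact this.le ((le_sup_left : Subgroup.zpowers m ≤ _) (Subgroup.mem_zpowers m))
  have hkP : k ∈ P0 := hmemP k (hcentS k (Commute.refl k)) hk
  have : Nontrivial (P0 : Subgroup PSL) :=
    ⟨⟨⟨k, hkP⟩, 1, fun e => k1 (congrArg Subtype.val e)⟩⟩
  haveI := P0.isPGroup'.center_nontrivial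
  obtain ⟨⟨z0, hz0⟩, hz01⟩ := exists_ne (1 : Subgroup.center (P0 : Subgroup PSL))
  have hz0c : ∀ m ∈ P0, Commute m (z0 : PSL) := fun m hm =>
    congrArg Subtype.val (Subgroup.mem_center_iff.1 hz0 ⟨m, hm⟩)
  have hz0o : Odd (orderOf (z0 : PSL)) := by
    obtain ⟨d, hd⟩ := IsPGroup.iff_orderOf.1 P0.isPGroup' z0
    rw [Subgroup.orderOf_coe, hd]
    exact ((Fact.out : p.Prime).odd_of_ne_two (coprime_p h8 (F := F) p).2.2).pow
  have hcomm : ∀ m ∈ P0, Commute m k := fun m hm =>
    cent_comm h8 hq (fun e => hz01 (Subtype.ext (Subtype.ext e))) hz0o (hz0c m hm) (hz0c k hkP)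
  intro h hh
  have hhS := hcentS h hh
  have hhp := pow_p_of_commute h8 hq p k1 hk hh
  refine ⟨hcomm _ (hmemP _ (S.mul_mem (S.mul_mem hcS hhS) (S.inv_mem hcS)) ?_),
    hcomm _ (hmemP _ (S.mul_mem (S.mul_mem (S.inv_mem hcS) hhS) hcS) ?_)⟩
  · rw [conj_pow, hhp, mul_one, mul_inv_cancel]
  · have e0 : c⁻¹ * h * c = c⁻¹ * h * (c⁻¹)⁻¹ := by rw [inv_inv]
    rw [e0, conj_pow, hhp, mul_one, mul_inv_cancel]

/-- No subgroup of odd order contains elements of both tori. -/
theorem no_odd_pair (h5 : (Fintype.card F) % 8 = 5) {M : Subgroup PSL} (hM : Odd (Nat.card M))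
    {x z : PSL} (hxM : x ∈ M) (hzM : z ∈ M) (x1 : x ≠ 1)
    (hx : orderOf x ∣ oddTorus (Fintype.card F)) (z1 : z ≠ 1)
    (hz : orderOf z ∣ coTorus (Fintype.card F)) : False := by
  classical
  obtain ⟨p, _⟩ := CharP.exists F
  haveI : Fact p.Prime := ⟨CharP.char_is_prime F p⟩
  have key : ∀ A : Subgroup PSL, A ≤ M → (∀ a ∈ A, x * a * x⁻¹ ∈ A) → (∀ a ∈ A, z * a * z⁻¹ ∈ A) →
      A = ⊥ := by
    intro A
    induction A using WellFoundedLT.induction with
    | ind A ih =>
      intro hAM hAx hAz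
      by_contra hne
      have hodd : Odd (Nat.card A) := hM.of_dvd_nat (Subgroup.card_dvd_of_le hAM)
      have hlt := odd_commutator_lt hodd hne
      have hbot := ih _ hlt (hlt.le.trans hAM) (fun a ha => conj_mem_commutator hAx ha)
        (fun a ha => conj_mem_commutator hAz ha)
      have hab : ∀ a ∈ A, ∀ b ∈ A, Commute a b := fun a ha b hb =>
        (Subgroup.mem_centralizer_iff.1 (Subgroup.commutator_eq_bot_iff_le_centralizer.1 hbot ha) b hb).symm
      obtain ⟨y, hyA, y1⟩ : ∃ y ∈ A, y ≠ 1 := by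
        by_contra! hcon
        exact hne ((Subgroup.eq_bot_iff_forall A).2 hcon)
      have hyo : Odd (orderOf y) := hodd.of_dvd_nat (Subgroup.orderOf_dvd_natCard A hyA)
      have hcx := hab _ (hAx y hyA) y hyA
      have hcz := hab _ (hAz y hyA) y hyA
      rcases odd_order_cases h8 hq p hyo with h | h | h
      · obtain ⟨w, hw⟩ := unipotent_point h8 hq p y1 h
        have hd := Subgroup.orderOf_dvd_natCard _ (hw x hcx)
        rw [card_stab_five h8 hq h5 w] at hd
        obtain ⟨hqb, -⟩ := coprime_card h8 (F := F) p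
        refine x1 (orderOf_eq_one_iff.1 (Nat.eq_one_of_dvd_coprimes ?_ hx hd))
        exact ((Nat.coprime_two_right.2 (odd_oddTorus h8)).mul_right
          (coprime_oddTorus_coTorus h8)).mul_right hqb.symm
      · exact z1 (odd_normalized h8 hq y1 h hz hcz)
      · exact x1 (co_normalized h8 hq y1 h hx hcx)
  have h := key M le_rfl (fun a ha => M.mul_mem (M.mul_mem hxM ha) (M.inv_mem hxM))
    (fun a ha => M.mul_mem (M.mul_mem hzM ha) (M.inv_mem hzM))
  rw [h, Subgroup.mem_bot] at hxM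
  exact x1 hxM

end CfsgLib.ReeOrder.Psl
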