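import Cfsg.Agent.Lib.ReeOrder.Local.NoUBasic
import Cfsg.Agent.Lib.ReeOrder.Local.NoUPsl

/-!
Without odd torus elements outside the torus, the centralizer of an odd torus element `x` is
`⟨t'⟩ × B`.

For the four group `{1, t', w, t'w}` of a frame, an element of the odd part of `C(x)` centralizing `w`
is inverted by `t'`; it is not of the second torus, so it is unipotent in `C(w)`, say `u`. Then
`q ≡ 5 (mod 8)`, and the largest normal `p`-subgroup `Q` of the odd part of `C(u)` consists of the
odd elements centralizing all of `C(u, w)`; so `x` and an element of the second torus of `C(t', w)`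
normalize `Q` and lie in a subgroup of odd order of `PSL₂(q)`, which does not exist.
-/

set_option autoImplicit false
set_option linter.unusedSectionVars false

namespace CfsgLib.ReeOrder.Conf

open Cfsg CfsgLib.ReeType

universe u

variable {G : Type u} [Group G] [Fintype G]
variable {F : Type} [Field F] [Fintype F] [DecidableEq F]
variable {t : G} (K : Conf t F)

local notation "PSL2" => Matrix.ProjectiveSpecialLinearGroup (Fin 2) F

include K

set_option maxHeartbeats 1000000 in
/-- There is no unipotent element of `C(w)` in the centralizer of `x`. -/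
theorem uni_absurd (hA : K.ATypeData) (p : ℕ) [Fact p.Prime] [CharP F p] {w x u : G}
    (hF : K.IsBFrame t w x) (hN : K.NoB t w x) (u1 : u ≠ 1) (hup : u ^ p = 1) (hux : Commute u x)
    (huw : Commute u w) (hut : t * u * t = u⁻¹) : False := by
  classical
  obtain ⟨⟨-, hw2, htw, hne⟩, hxt, hxinv, x1, hxb⟩ := id hF
  have htt := K.t_mul_self
  have hww := Psl.involution_mul_self hw2
  have hwinv : w⁻¹ = w := inv_eq_of_mul_eq_one_right hww
  have htinv : t⁻¹ = t := inv_eq_of_mul_eq_one_right htt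
  obtain ⟨hpb, hpa, hp2⟩ := Psl.coprime_p K.q_mod (F := F) p
  have hpodd : Odd p := Nat.Prime.odd_of_ne_two Fact.out hp2
  obtain ⟨Kw⟩ := K.conf_of_involution hw2
  rcases K.q_mod with h3 | h5
  · exact Kw.uni_not_inverted p h3 u1 huw hup htw K.orderOf_t hut
  set s := t * w with hs
  have hs2 : orderOf s = 2 := (K.frame_swap hF).1.2.1
  have hss := Psl.involution_mul_self hs2
  have hs' : s = w * t := htw.eq
  obtain ⟨Ks⟩ := K.conf_of_involution hs2
  have huo : Odd (orderOf u) := hpodd.of_dvd_nat (orderOf_dvd_of_pow_eq_one hup)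
  have hxo : Odd (orderOf x) := K.odd_b.of_dvd_nat hxb
  obtain ⟨O, hOodd, hO⟩ := Kw.uni_core p u1 huw hup
  have huO : u ∈ O := (hO u).2 ⟨Commute.refl u, huo⟩
  have hxO : x ∈ O := (hO x).2 ⟨hux.symm, hxo⟩
  have hOord : ∀ g ∈ O, Odd (orderOf g) := fun g hg => ((hO g).1 hg).2
  have huinvt : ∀ g, Commute g u → Commute (t * g * t) u := fun g hg => by
    have h := commute_conj_involution htt hg
    rw [hut] at h
    exact inv_inv u ▸ h.inv_right
  have hOt : ∀ g ∈ O, t * g * t ∈ O := fun g hg => (hO _).2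
    ⟨huinvt g ((hO g).1 hg).1, by rw [orderOf_conj_involution htt]; exact hOord g hg⟩
  have hOw : ∀ g ∈ O, w * g * w ∈ O := fun g hg => (hO _).2
    ⟨by
      have h := commute_conj_involution hww ((hO g).1 hg).1
      rwa [show w * u * w = u by rw [← huw.eq, mul_assoc, hww, mul_one]] at h,
     by rw [orderOf_conj_involution hww]; exact hOord g hg⟩
  have hsconj : ∀ g : G, s * g * s = t * (w * g * w) * t := fun g => by
    conv_lhs => arg 2; rw [hs']
    rw [hs]; group
  have hsu : s * u * s = u⁻¹ := by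
    rw [hsconj, show w * u * w = u by rw [← huw.eq, mul_assoc, hww, mul_one], hut]
  -- the elements centralizing `w`
  have hUp : ∀ h ∈ O, Commute h w → h ^ p = 1 := fun h hh hhw =>
    orderOf_dvd_iff_pow_eq_one.1 (K.odd_pow_of_double (hOord h hh)
      (Kw.uni_pow p u1 huw hup hhw ((hO h).1 hh).1))
  have hUone : ∀ h ∈ O, Commute h w → Commute h t → h = 1 := fun h hh hhw hht =>
    orderOf_eq_one_iff.1 (Nat.eq_one_of_dvd_coprimes hpa (orderOf_dvd_of_pow_eq_one (hUp h hh hhw))
      (K.four_odd_dvd hF.1 hht hhw (hOord h hh)))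
  have hUinv : ∀ h ∈ O, Commute h w → t * h * t = h⁻¹ := fun h hh hhw =>
    (inverts_of_fpf (S := O ⊓ Subgroup.centralizer ({w} : Set G)) htt
      (fun a ha => ⟨hOt a ha.1, Subgroup.mem_centralizer_singleton_iff.2 (by
        have h := commute_conj_involution htt
          (show Commute a w from Subgroup.mem_centralizer_singleton_iff.1 ha.2)
        rwa [show t * w * t = w by rw [htw.eq, mul_assoc, htt, mul_one]] at h)⟩)
      (fun a ha hat => hUone a ha.1 (Subgroup.mem_centralizer_singleton_iff.1 ha.2) hat)).1 h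
      ⟨hh, Subgroup.mem_centralizer_singleton_iff.2 hhw⟩
  -- the elements centralizing `t`
  have hBdata := inverts_of_fpf (S := O ⊓ Subgroup.centralizer ({t} : Set G)) hww
      (fun a ha => ⟨hOw a ha.1, Subgroup.mem_centralizer_singleton_iff.2 (by
        have h := commute_conj_involution hww
          (show Commute a t from Subgroup.mem_centralizer_singleton_iff.1 ha.2)
        rwa [show w * t * w = t by rw [← htw.eq, mul_assoc, hww, mul_one]] at h)⟩)
      (fun a ha haw => hUone a ha.1 haw (Subgroup.mem_centralizer_singleton_iff.1 ha.2))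
  have hBcomm : ∀ y ∈ O, Commute y t → ∀ z ∈ O, Commute z t → Commute y z := fun y hy hyt z hz hzt =>
    hBdata.2 y ⟨hy, Subgroup.mem_centralizer_singleton_iff.2 hyt⟩ z
      ⟨hz, Subgroup.mem_centralizer_singleton_iff.2 hzt⟩
  have hBord : ∀ y ∈ O, Commute y t → orderOf y ∣ oddTorus K.q := fun y hy hyt =>
    K.odd_pow_of_double (hOord y hy)
      (K.bElt_pow (K.isBElt_of_frame hF) hyt (hBcomm y hy hyt x hxO hxt))
  -- an element of the second torus normalizing `C(u, w)`
  obtain ⟨k, hk, hko⟩ := Kw.odd_up huw huo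
  have k1 : k ≠ 1 := fun e => u1 (by rw [hk, e, map_one])
  have hkp : k ^ p = 1 := Kw.cent.up_injective (by rw [map_pow, ← hk, hup, map_one])
  obtain ⟨j, hj2, hj⟩ := Kw.involution_cases htw K.orderOf_t hne
  have hjinv : (Kw.cent.up j)⁻¹ = Kw.cent.up j := inv_eq_of_mul_eq_one_right (by
    rw [← map_mul, Psl.involution_mul_self hj2, map_one])
  have hjk : j * k * j⁻¹ = k⁻¹ := Kw.cent.up_injective (by
    rw [map_mul, map_mul, map_inv, map_inv, hjinv, ← hk, ← hut]
    rcases hj with e | e
    · rw [← e]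
    · rw [e]
      calc Kw.cent.up j * u * Kw.cent.up j
          = w * w * (Kw.cent.up j * u * Kw.cent.up j) := by rw [hww, one_mul]
        _ = w * (Kw.cent.up j * u * w) * Kw.cent.up j := by
          rw [((Kw.mul_t_comm j).mul_left huw).eq]; group
        _ = _ := by group)
  obtain ⟨c, c1, hca, hcj, hcnorm⟩ := Psl.borel_element K.q_mod K.q_ge p h5 k1 hkp hj2 hjk
  set α := Kw.cent.up c with hα
  have hαw : Commute α w := Kw.mul_t_comm c
  have hαt : Commute α t := (Kw.commute_iff (Or.inl rfl) hj).2 hcj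
  have hαord : orderOf α ∣ coTorus K.q :=
    (orderOf_injective Kw.cent.up Kw.cent.up_injective c).symm ▸ hca
  have hα1 : α ≠ 1 := fun e => c1 (Kw.cent.up_injective (by rw [← hα, e, map_one]))
  have hαU : ∀ h ∈ O, Commute h w → (α * h * α⁻¹ ∈ O ∧ Commute (α * h * α⁻¹) w) ∧
      (α⁻¹ * h * α ∈ O ∧ Commute (α⁻¹ * h * α) w) := by
    intro h hh hhw
    obtain ⟨l, rfl, -⟩ := Kw.odd_up hhw (hOord h hh)
    have hlk : Commute l k := Kw.up_commute_iff.1 (hk ▸ ((hO _).1 hh).1)
    obtain ⟨g1, g2⟩ := hcnorm l hlk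
    refine ⟨⟨(hO _).2 ⟨?_, by rw [orderOf_conj_mul]; exact hOord _ hh⟩,
      (hαw.mul_left hhw).mul_left hαw.inv_left⟩, (hO _).2 ⟨?_, ?_⟩,
      (hαw.inv_left.mul_left hhw).mul_left hαw⟩
    · rw [hk, hα, ← map_inv, ← map_mul, ← map_mul]
      exact g1.map Kw.cent.up
    · rw [hk, hα, ← map_inv, ← map_mul, ← map_mul]
      exact g2.map Kw.cent.up
    · have := orderOf_conj_mul α⁻¹ (Kw.cent.up l)
      rw [inv_inv] at this
      rw [this]
      exact hOord _ hh
  -- no element of `C(t)` centralizes all of `C(u, w)`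
  have hnoB : ∀ y ∈ O, Commute y t → (∀ h ∈ O, Commute h w → Commute y h) → y = 1 := by
    intro y hy hyt hyU
    by_contra y1
    have hy' : ∀ h ∈ O, Commute h w → Commute (α * y * α⁻¹) h := fun h hh hhw => by
      have h' := (hyU _ (hαU h hh hhw).2.1 (hαU h hh hhw).2.2).map (MulAut.conj α).toMonoidHom
      simp only [MulEquiv.coe_toMonoidHom, MulAut.conj_apply] at h'
      rwa [show α * (α⁻¹ * h * α) * α⁻¹ = h by group] at h'
    have hy'O : α * y * α⁻¹ ∈ O :=
      (hO _).2 ⟨hy' u huO huw, by rw [orderOf_conj_mul]; exact hOord y hy⟩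
    have hy't : Commute (α * y * α⁻¹) t := (hαt.mul_left hyt).mul_left hαt.inv_left
    have hcc := hBcomm _ hy'O hy't y hy hyt
    obtain ⟨ky, hky, hkyo⟩ := K.odd_up hyt (hOord y hy)
    obtain ⟨ka, hka, hkao⟩ := K.odd_up hαt (K.odd_a.of_dvd_nat hαord)
    rw [hky, hka, ← map_inv, ← map_mul, ← map_mul] at hcc
    have := Psl.odd_normalized K.q_mod K.q_ge (fun e => y1 (by rw [hky, e, map_one]))
      (show orderOf ky ∣ oddTorus (Fintype.card F) from hkyo.symm ▸ hBord y hy hyt)
      (show orderOf ka ∣ coTorus (Fintype.card F) from hkao.symm ▸ hαord)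
      (K.up_commute_iff.1 hcc)
    exact hα1 (by rw [hka, this, map_one])
  -- no invariant normal subgroup of order prime to `p`
  have hD : ∀ D : Subgroup G, D ≤ O → (∀ g ∈ O, ∀ d ∈ D, g * d * g⁻¹ ∈ D) →
      (∀ d ∈ D, t * d * t ∈ D) → (∀ d ∈ D, w * d * w ∈ D) →
      (∀ d ∈ D, Nat.Coprime (orderOf d) p) → D = ⊥ := by
    intro D hDO hDn hDt hDw hDp
    have hone : ∀ d ∈ D, d ^ p = 1 → d = 1 := fun d hd h => orderOf_eq_one_iff.1
      (Nat.eq_one_of_dvd_coprimes (hDp d hd) dvd_rfl (orderOf_dvd_of_pow_eq_one h))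
    have hDs : ∀ d ∈ D, s * d * s ∈ D := fun d hd => by rw [hsconj]; exact hDt _ (hDw d hd)
    obtain ⟨hwD, -⟩ := inverts_of_fpf hww hDw (fun d hd hdw => hone d hd (hUp d (hDO hd) hdw))
    -- `x` centralizes `D`
    have hxD : ∀ d ∈ D, Commute x d := by
      intro d hd
      have h := hwD _ (hDn x hxO d hd)
      have hwd : w * d * w = d⁻¹ := hwD d hd
      have e : x⁻¹ * d⁻¹ * x = x * d⁻¹ * x⁻¹ := by
        calc x⁻¹ * d⁻¹ * x = w * x * w * (w * d * w) * (w * x * w)⁻¹ := by
              rw [hxinv, hwd, inv_inv]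
          _ = w * x * (w * w) * d * (w * w) * x⁻¹ * w := by
              rw [_root_.mul_inv_rev, _root_.mul_inv_rev, hwinv]; group
          _ = w * (x * d * x⁻¹) * w := by rw [hww, mul_one, mul_one]; group
          _ = _ := by rw [h]; group
      refine odd_sq_commute hxo ?_
      have h2 : Commute (x * x) d⁻¹ := by
        show x * x * d⁻¹ = d⁻¹ * (x * x)
        calc x * x * d⁻¹ = x * (x * d⁻¹ * x⁻¹) * x := by group
          _ = d⁻¹ * (x * x) := by rw [← e]; group
      exact inv_inv d ▸ h2.inv_right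
    obtain ⟨hsD, -⟩ := inverts_of_fpf hss hDs (fun d hd hds => by
      by_contra d1
      have hdt : t * d * t = d⁻¹ := by
        have hsd : s * d⁻¹ * s = d⁻¹ := by rw [← hds.inv_left.eq, mul_assoc, hss, mul_one]
        have h1 : t = s * w := by rw [hs, mul_assoc, hww, mul_one]
        have h2 : t = w * s := by rw [hs', ← mul_assoc, hww, one_mul]
        calc t * d * t = s * w * d * (w * s) := by rw [← h1, ← h2]
          _ = s * (w * d * w) * s := by group
          _ = d⁻¹ := by rw [hwD d hd, hsd]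
      have hdo : Odd (orderOf d) := hOord d (hDO hd)
      have hpart : K.InPart t (t * w) x d := ⟨(hxD d hd).symm, hds, hdt, hdo⟩
      rcases Ks.odd_cases p hds hdo with h | h | h
      · exact d1 (hone d hd h)
      · exact hN d d1 (Or.inr hpart) h
      · exact u1 (K.no_inverted hA hs2 d1 hds h ((hO d).1 (hDO hd)).1.symm hsu huo))
    -- so `t` centralizes `D`
    have htD : ∀ d ∈ D, Commute d t := by
      intro d hd
      have h1 : t = s * w := by rw [hs, mul_assoc, hww, mul_one]
      have h2 : t = w * s := by rw [hs', ← mul_assoc, hww, one_mul]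
      have e : t * d * t = d := by
        calc t * d * t = s * w * d * (w * s) := by rw [← h1, ← h2]
          _ = s * (w * d * w) * s := by group
          _ = d := by rw [hwD d hd, hsD _ (D.inv_mem hd), inv_inv]
      show d * t = t * d
      conv_lhs => rw [← e]
      rw [mul_assoc, htt, mul_one]
    rw [Subgroup.eq_bot_iff_forall]
    intro d hd
    refine hnoB d (hDO hd) (htD d hd) fun h hh hhw => (odd_sq_commute (hOord h hh) ?_).symm
    have hd' := hDn h hh d hd
    have e := htD _ hd'
    have e2 : h⁻¹ * d * h = h * d * h⁻¹ := by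
      calc h⁻¹ * d * h = t * h * t * d * (t * h * t)⁻¹ := by rw [hUinv h hh hhw, inv_inv]
        _ = t * h * (t * d * t) * h⁻¹ * t := by rw [_root_.mul_inv_rev, _root_.mul_inv_rev, htinv]; group
        _ = t * (h * d * h⁻¹) * t := by
          rw [show t * d * t = d by rw [← (htD d hd).eq, mul_assoc, htt, mul_one]]; group
        _ = _ := by rw [← e.eq, mul_assoc, htt, mul_one]
    show h * h * d = d * (h * h)
    calc h * h * d = h * (h * d * h⁻¹) * h := by group
      _ = d * (h * h) := by rw [← e2]; group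
  -- the largest normal `p`-subgroup
  let Good : Subgroup G → Prop := fun R =>
    R ≤ O ∧ IsPGroup p R ∧ ∀ g ∈ O, ∀ r ∈ R, g * r * g⁻¹ ∈ R
  haveI : Nonempty {R : Subgroup G // Good R} := ⟨⟨⊥, bot_le, IsPGroup.of_bot, fun g _ r hr => by
    rw [Subgroup.mem_bot] at hr ⊢
    rw [hr, mul_one, mul_inv_cancel]⟩⟩
  obtain ⟨⟨Q, hQO, hQp, hQn⟩, hQmax⟩ :=
    Finite.exists_max (fun R : {R : Subgroup G // Good R} => Nat.card R.1)
  have hmax : ∀ R : Subgroup G, Good R → R ≤ Q := by
    rintro R ⟨hRO, hRp, hRn⟩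
    have hG : Good (R ⊔ Q) := by
      refine ⟨sup_le hRO hQO, hRp.to_sup_of_normal_right' hQp
        (fun r hr => Subgroup.mem_normalizer_fintype (hQn r (hRO hr))), fun g hg r hr => ?_⟩
      have hle : (R ⊔ Q).map (MulAut.conj g).toMonoidHom ≤ R ⊔ Q := by
        rw [Subgroup.map_sup]
        refine sup_le_sup ?_ ?_
        · rintro _ ⟨y, hy, rfl⟩; exact hRn g hg y hy
        · rintro _ ⟨y, hy, rfl⟩; exact hQn g hg y hy
      exact hle ⟨r, hr, rfl⟩
    have he := Subgroup.eq_of_le_of_card_ge (le_sup_right : Q ≤ R ⊔ Q) (hQmax ⟨_, hG⟩)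
    exact he.symm ▸ le_sup_left
  have hQinvol : ∀ i : G, i * i = 1 → (∀ g ∈ O, i * g * i ∈ O) → ∀ y ∈ Q, i * y * i ∈ Q := by
    intro i hii hiO y hy
    have hiinv : i⁻¹ = i := inv_eq_of_mul_eq_one_right hii
    refine hmax (Q.map (MulAut.conj i).toMonoidHom) ⟨?_, hQp.map _, ?_⟩ ⟨y, hy, ?_⟩
    · rintro _ ⟨z, hz, rfl⟩
      simp only [MulEquiv.coe_toMonoidHom, MulAut.conj_apply, hiinv]
      exact hiO z (hQO hz)
    · rintro g hg _ ⟨z, hz, rfl⟩
      refine ⟨i * g * i * z * (i * g * i)⁻¹, hQn _ (hiO g hg) z hz, ?_⟩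
      simp only [MulEquiv.coe_toMonoidHom, MulAut.conj_apply, hiinv, _root_.mul_inv_rev]
      calc i * (i * g * i * z * (i * (g⁻¹ * i))) * i
          = i * i * g * (i * z * i) * g⁻¹ * (i * i) := by group
        _ = g * (i * z * i) * g⁻¹ := by rw [hii, one_mul, mul_one]
    · simp only [MulEquiv.coe_toMonoidHom, MulAut.conj_apply, hiinv]
  have hQt := hQinvol t htt hOt
  have hQw := hQinvol w hww hOw
  obtain ⟨htQ, hQcomm⟩ := inverts_of_fpf htt hQt (fun y hy hyt => by
    obtain ⟨i, hi⟩ := IsPGroup.iff_orderOf.1 hQp ⟨y, hy⟩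
    rw [Subgroup.orderOf_mk] at hi
    exact orderOf_eq_one_iff.1
      (Nat.eq_one_of_dvd_coprimes (hpb.pow_left i) (dvd_of_eq hi) (hBord y (hQO hy) hyt)))
  -- it contains its centralizer
  have hC : ∀ A : Subgroup G, A ≤ O → A ≤ Subgroup.centralizer (Q : Set G) →
      (∀ g ∈ O, ∀ a ∈ A, g * a * g⁻¹ ∈ A) → (∀ a ∈ A, t * a * t ∈ A) → (∀ a ∈ A, w * a * w ∈ A) →
      A ≤ Q := by
    intro A
    induction A using WellFoundedLT.induction with
    | ind A ih =>
      intro hAO hAC hAn hAt hAw
      by_cases hne : A = ⊥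
      · exact hne ▸ bot_le
      have hlt := Psl.odd_commutator_lt (hOodd.of_dvd_nat (Subgroup.card_dvd_of_le hAO)) hne
      have hinvA : ∀ i : G, i * i = 1 → (∀ a ∈ A, i * a * i ∈ A) →
          ∀ a ∈ ⁅A, A⁆, i * a * i ∈ ⁅A, A⁆ := fun i hii hiA a ha => by
        have hiinv : i⁻¹ = i := inv_eq_of_mul_eq_one_right hii
        have h := Psl.conj_mem_commutator (x := i) (fun b hb => by rw [hiinv]; exact hiA b hb) ha
        rwa [hiinv] at h
      have hBQ : ⁅A, A⁆ ≤ Q := ih _ hlt (hlt.le.trans hAO) (hlt.le.trans hAC)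
        (fun g hg a ha => Psl.conj_mem_commutator (hAn g hg) ha) (hinvA t htt hAt) (hinvA w hww hAw)
      have hcentral : ∀ d ∈ A, Nat.Coprime (orderOf d) p → ∀ m ∈ A, Commute d m := by
        intro d hd hdp m hm
        set z := m * d * m⁻¹ * d⁻¹ with hz
        have hzQ : z ∈ Q := hBQ (Subgroup.commutator_mem_commutator hm hd)
        have hzd : Commute z d := Subgroup.mem_centralizer_iff.1 (hAC hd) z hzQ
        have hpow : (z * d) ^ orderOf d = 1 := by
          rw [hz, inv_mul_cancel_right, conj_pow, pow_orderOf_eq_one, mul_one, mul_inv_cancel]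
        rw [hzd.mul_pow, pow_orderOf_eq_one, mul_one] at hpow
        obtain ⟨i, hi⟩ := IsPGroup.iff_orderOf.1 hQp ⟨z, hzQ⟩
        rw [Subgroup.orderOf_mk] at hi
        have z1 : z = 1 := orderOf_eq_one_iff.1 (Nat.eq_one_of_dvd_coprimes (hdp.pow_right i)
          (orderOf_dvd_of_pow_eq_one hpow) (dvd_of_eq hi))
        rw [hz, mul_inv_eq_one, mul_inv_eq_iff_eq_mul] at z1
        exact z1.symm
      let D : Subgroup G :=
        { carrier := {d | d ∈ A ∧ Nat.Coprime (orderOf d) p}
          mul_mem' := fun {a b} ha hb => ⟨A.mul_mem ha.1 hb.1, Nat.Coprime.coprime_dvd_left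
            (hcentral a ha.1 ha.2 b hb.1).orderOf_mul_dvd_mul_orderOf (ha.2.mul_left hb.2)⟩
          one_mem' := ⟨A.one_mem, by rw [orderOf_one]; exact Nat.coprime_one_left p⟩
          inv_mem' := fun {a} ha => ⟨A.inv_mem ha.1, by rw [orderOf_inv]; exact ha.2⟩ }
      have hD1 : D = ⊥ := hD D (fun d hd => hAO hd.1)
        (fun g hg d hd => ⟨hAn g hg d hd.1, by rw [orderOf_conj_mul]; exact hd.2⟩)
        (fun d hd => ⟨hAt d hd.1, by rw [orderOf_conj_involution htt]; exact hd.2⟩)
        (fun d hd => ⟨hAw d hd.1, by rw [orderOf_conj_involution hww]; exact hd.2⟩)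
        (fun d hd => hd.2)
      refine hmax A ⟨hAO, ?_, hAn⟩
      rintro ⟨g, hg⟩
      obtain ⟨e, m, hm, hem⟩ :=
        Nat.exists_eq_pow_mul_and_not_dvd (orderOf_pos g).ne' p (Fact.out : p.Prime).ne_one
      refine ⟨e, Subtype.ext ?_⟩
      show g ^ p ^ e = 1
      have hgD : g ^ p ^ e ∈ D := ⟨A.pow_mem hg _, Nat.Coprime.coprime_dvd_left
        (show orderOf (g ^ p ^ e) ∣ m from orderOf_dvd_of_pow_eq_one (by
          rw [← pow_mul, ← hem, pow_orderOf_eq_one]))
        (((Fact.out : p.Prime).coprime_iff_not_dvd.2 hm).symm)⟩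
      rw [hD1] at hgD
      exact Subgroup.mem_bot.1 hgD
  -- elements inverted by `t` lie in it
  have hinvQ : ∀ g ∈ O, t * g * t = g⁻¹ → g ∈ Q := by
    intro g hg hgt
    refine hC (O ⊓ Subgroup.centralizer (Q : Set G)) inf_le_left inf_le_right
      (fun a ha b hb => ⟨O.mul_mem (O.mul_mem ha hb.1) (O.inv_mem ha),
        conj_mem_centralizer (hQn a ha) hb.2⟩)
      (fun a ha => ⟨hOt a ha.1, by
        have := conj_mem_centralizer (n := t) (fun q hq => by rw [htinv]; exact hQt q hq) ha.2
        rwa [htinv] at this⟩)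
      (fun a ha => ⟨hOw a ha.1, by
        have := conj_mem_centralizer (n := w) (fun q hq => by rw [hwinv]; exact hQw q hq) ha.2
        rwa [hwinv] at this⟩)
      ⟨hg, Subgroup.mem_centralizer_iff.2 fun q hq => ?_⟩
    refine (odd_sq_commute (hOord g hg) ?_).eq.symm
    have h1 := htQ _ (hQn g hg q hq)
    have e : g⁻¹ * q⁻¹ * g = g * q⁻¹ * g⁻¹ := by
      calc g⁻¹ * q⁻¹ * g = t * g * t * (t * q * t) * (t * g * t)⁻¹ := by
            rw [hgt, htQ q hq, inv_inv]
        _ = t * g * (t * t) * q * (t * t) * g⁻¹ * t := by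
            rw [_root_.mul_inv_rev, _root_.mul_inv_rev, htinv]; group
        _ = t * (g * q * g⁻¹) * t := by rw [htt, mul_one, mul_one]; group
        _ = _ := by rw [h1]; group
    have h2 : Commute (g * g) q⁻¹ := by
      show g * g * q⁻¹ = q⁻¹ * (g * g)
      calc g * g * q⁻¹ = g * (g * q⁻¹ * g⁻¹) * g := by group
        _ = _ := by rw [← e]; group
    exact inv_inv q ▸ h2.inv_right
  have hUQ : ∀ h ∈ O, Commute h w → h ∈ Q := fun h hh hhw => hinvQ h hh (hUinv h hh hhw)
  -- the odd elements centralizing `C(u, w)`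
  have hQchar : ∀ g, g ∈ Q ↔ g ∈ O ∧ ∀ h ∈ O, Commute h w → Commute g h := by
    intro g
    refine ⟨fun hg => ⟨hQO hg, fun h hh hhw => hQcomm g hg h (hUQ h hh hhw)⟩, fun hg => ?_⟩
    let U : Set G := {h | h ∈ O ∧ Commute h w}
    have hUt : ∀ h ∈ U, t * h * t ∈ U := fun h hh => by
      rw [hUinv h hh.1 hh.2]; exact ⟨O.inv_mem hh.1, hh.2.inv_left⟩
    have hX := (inverts_of_fpf (S := O ⊓ Subgroup.centralizer U) htt
      (fun a ha => ⟨hOt a ha.1, Subgroup.mem_centralizer_iff.2 fun h hh => by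
        have e := commute_conj_involution htt
          (show Commute (t * h * t) a from Subgroup.mem_centralizer_iff.1 ha.2 _ (hUt h hh))
        rwa [show t * (t * h * t) * t = h by
          calc t * (t * h * t) * t = t * t * h * (t * t) := by group
            _ = h := by rw [htt, one_mul, mul_one]] at e⟩)
      (fun a ha hat => hnoB a ha.1 hat fun h hh hhw =>
        (Subgroup.mem_centralizer_iff.1 ha.2 h ⟨hh, hhw⟩).symm)).1 g
      ⟨hg.1, Subgroup.mem_centralizer_iff.2 fun h hh => (hg.2 h hh.1 hh.2).eq.symm⟩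
    exact hinvQ g hg.1 hX
  have hαQ : ∀ g ∈ Q, α * g * α⁻¹ ∈ Q := by
    intro g hg
    have hcom : ∀ h ∈ O, Commute h w → Commute (α * g * α⁻¹) h := fun h hh hhw => by
      have h' := (((hQchar g).1 hg).2 _ (hαU h hh hhw).2.1 (hαU h hh hhw).2.2).map
        (MulAut.conj α).toMonoidHom
      simp only [MulEquiv.coe_toMonoidHom, MulAut.conj_apply] at h'
      rwa [show α * (α⁻¹ * h * α) * α⁻¹ = h by group] at h'
    exact (hQchar _).2 ⟨(hO _).2 ⟨hcom u huO huw,
      by rw [orderOf_conj_mul]; exact hOord g (hQO hg)⟩, hcom⟩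
  -- the normalizer of `Q` in the complement of `C(t)`
  haveI := Fact.mk Nat.prime_two
  set N := Subgroup.normalizer (Q : Set G)
  have hxN : x ∈ N := Subgroup.mem_normalizer_fintype (hQn x hxO)
  have hαN : α ∈ N := Subgroup.mem_normalizer_fintype hαQ
  have htN : t ∈ N := Subgroup.mem_normalizer_fintype fun y hy => by rw [htinv]; exact hQt y hy
  have hwN : w ∈ N := Subgroup.mem_normalizer_fintype fun y hy => by rw [hwinv]; exact hQw y hy
  set H := N.comap K.cent.up with hH
  obtain ⟨i, hi2, hi⟩ := K.involution_cases htw.symm hw2 hne.symm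
  have hiH : i ∈ H := by
    show K.cent.up i ∈ N
    rcases hi with e | e
    · exact e ▸ hwN
    · have : K.cent.up i = t * w := by rw [e, ← mul_assoc, htt, one_mul]
      rw [this]
      exact N.mul_mem htN hwN
  set i' : H := ⟨i, hiH⟩
  have hi'2 : orderOf i' = 2 := by rw [Subgroup.orderOf_mk, hi2]
  obtain ⟨P, hP⟩ := (IsPGroup.of_card (n := 1)
    (show Nat.card (Subgroup.zpowers i') = 2 ^ 1 by rw [Nat.card_zpowers, hi'2, pow_one])).exists_le_sylow
  have hPi : (P : Subgroup H) = Subgroup.zpowers i' := by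
    refine le_antisymm (fun y hy => ?_) hP
    obtain ⟨R, hR⟩ := ((P.isPGroup'.map H.subtype).map K.cent.up).exists_le_sylow
    have hyR : K.cent.up y ∈ R := hR ⟨_, ⟨y, hy, rfl⟩, rfl⟩
    have hiR : K.cent.up i ∈ R := hR ⟨_, ⟨i', hP (Subgroup.mem_zpowers i'), rfl⟩, rfl⟩
    set v := K.cent.up (y : PSL2) with hv
    have hvv : v * v = 1 := K.sylow_sq R hyR
    have hvinv : v⁻¹ = v := inv_eq_of_mul_eq_one_right hvv
    have hvt : Commute v t := K.mul_t_comm _
    have hvi : Commute v (K.cent.up i) := congrArg Subtype.val (K.comm R ⟨_, hyR⟩ ⟨_, hiR⟩)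
    have hvw : Commute v w := by
      rcases hi with e | e
      · exact e ▸ hvi
      · exact e ▸ hvt.mul_right hvi
    have huQ : u ∈ Q := hUQ u huO huw
    have hvu : v * u * v ∈ Q := by
      have := (Subgroup.mem_normalizer_iff.1 (show v ∈ N from y.2) u).1 huQ
      rwa [hvinv] at this
    have hcuv : Commute u (v * u * v) := hQcomm u huQ _ hvu
    have hcw : Commute (u * (v * u * v)) w := huw.mul_left ((hvw.mul_left huw).mul_left hvw)
    have hcv : Commute v (u * (v * u * v)) := by
      show v * (u * (v * u * v)) = u * (v * u * v) * v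
      calc v * (u * (v * u * v)) = v * u * v * (u * v) := by group
        _ = v * u * v * u * v := by group
        _ = _ := by rw [← hcuv.eq]
    have hcp : (u * (v * u * v)) ^ p = 1 := by
      have e : v * u * v = v * u * v⁻¹ := by rw [hvinv]
      rw [hcuv.mul_pow, hup, one_mul, e, conj_pow, hup, mul_one, mul_inv_cancel]
    have hv4 : v = 1 ∨ v = w ∨ v = t ∨ v = t * w := by
      by_cases h0 : u * (v * u * v) = 1
      · have hvu' : v * u * v = u⁻¹ := eq_inv_of_mul_eq_one_right h0
        have hvt2 : v * t * (v * t) = 1 := by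
          calc v * t * (v * t) = v * (t * v) * t := by group
            _ = v * v * (t * t) := by rw [← hvt.eq]; group
            _ = 1 := by rw [hvv, htt, one_mul]
        have hvtu : Commute (v * t) u := by
          show v * t * u = u * (v * t)
          calc v * t * u = v * (t * u * t) * t := by
                calc v * t * u = v * (t * u) * (t * t) := by rw [htt, mul_one]; group
                  _ = _ := by group
            _ = v * u⁻¹ * (v * v) * t := by rw [hut, hvv, mul_one]
            _ = (v * u * v)⁻¹ * (v * t) := by rw [_root_.mul_inv_rev, _root_.mul_inv_rev, hvinv]; group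
            _ = u * (v * t) := by rw [hvu', inv_inv]
        rcases Kw.uni_invol p u1 huw hup (hvw.mul_left htw) hvtu hvt2 with e | e
        · exact Or.inr (Or.inr (Or.inl (by rw [mul_eq_one_iff_eq_inv, htinv] at e; exact e)))
        · refine Or.inr (Or.inr (Or.inr ?_))
          rw [eq_mul_inv_iff_mul_eq.2 e, htinv, ← htw.eq]
      · rcases Kw.uni_invol p h0 hcw hcp hvw hcv hvv with e | e
        · exact Or.inl e
        · exact Or.inr (Or.inl e)
    have h1 : (y : PSL2) = 1 ∨ (y : PSL2) = i := by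
      rcases hv4 with e | e | e | e
      · exact Or.inl (K.up_inj (by rw [← hv, e, map_one]))
      · rcases hi with e' | e'
        · exact Or.inr (K.up_inj (by rw [← hv, e, e']))
        · exact absurd (e'.symm.trans e.symm) (K.up_ne_t_mul _ _)
      · exact absurd e.symm (K.t_ne_up _)
      · rcases hi with e' | e'
        · exact absurd (by rw [← e', ← e]) (K.up_ne_t_mul i (y : PSL2))
        · exact Or.inr (K.up_inj (by rw [← hv, e, e', ← mul_assoc, htt, one_mul]))
    rcases h1 with e | e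
    · rw [show y = 1 from Subtype.ext e]; exact one_mem _
    · rw [show y = i' from Subtype.ext e]; exact Subgroup.mem_zpowers i'
  obtain ⟨M, -, -, hM⟩ := exists_odd_kernel P (by rw [hPi, Nat.card_zpowers, hi'2])
    (hP (Subgroup.mem_zpowers i')) (fun e => by rw [e, orderOf_one] at hi'2; omega)
  have hModd : Odd (Nat.card (M.map H.subtype)) := by
    rw [Subgroup.card_map_of_injective H.subtype_injective]
    refine Nat.not_even_iff_odd.1 fun he => ?_
    obtain ⟨⟨z, hz⟩, hzo⟩ := exists_prime_orderOf_dvd_card' (G := M) 2 (even_iff_two_dvd.1 he)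
    rw [Subgroup.orderOf_mk] at hzo
    have := (hM z).1 hz
    rw [hzo] at this
    simp [Nat.odd_iff] at this
  obtain ⟨kx, hkx, hkxo⟩ := K.odd_up hxt hxo
  obtain ⟨ka, hka, hkao⟩ := K.odd_up hαt (K.odd_a.of_dvd_nat hαord)
  have hkxH : kx ∈ H := by
    show K.cent.up kx ∈ N
    exact hkx ▸ hxN
  have hkaH : ka ∈ H := by
    show K.cent.up ka ∈ N
    exact hka ▸ hαN
  have hkxM : (⟨kx, hkxH⟩ : H) ∈ M := (hM _).2 (by rw [Subgroup.orderOf_mk, hkxo]; exact hxo)
  have hkaM : (⟨ka, hkaH⟩ : H) ∈ M := (hM _).2 (by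
    rw [Subgroup.orderOf_mk, hkao]; exact K.odd_a.of_dvd_nat hαord)
  exact Psl.no_odd_pair K.q_mod K.q_ge h5 hModd (x := kx) (z := ka) ⟨_, hkxM, rfl⟩ ⟨_, hkaM, rfl⟩
    (fun e => x1 (by rw [hkx, e, map_one])) (hkxo.symm ▸ hxb)
    (fun e => hα1 (by rw [hka, e, map_one])) (hkao.symm ▸ hαord)

/-- The part belonging to `w` is trivial. -/
theorem part_eq_one (hA : K.ATypeData) {w x g : G} (hF : K.IsBFrame t w x) (hN : K.NoB t w x)
    (hg : K.InPart t w x g) : g = 1 := by
  by_contra g1
  obtain ⟨hgx, hgw, hgt, hgo⟩ := id hg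
  obtain ⟨p, hp⟩ := CharP.exists F
  haveI : Fact p.Prime := ⟨CharP.char_is_prime F p⟩
  obtain ⟨Kw⟩ := K.conf_of_involution hF.1.2.1
  rcases Kw.odd_cases p hgw hgo with h | h | h
  · exact K.uni_absurd hA p hF hN g1 h hgx hgw hgt
  · exact hN g g1 (Or.inl hg) h
  · exact hF.2.2.2.1 (K.no_inverted hA hF.1.2.1 g1 hgw h hgx.symm hF.2.2.1
      (K.odd_b.of_dvd_nat hF.2.2.2.2))

/-- Without odd torus elements outside the torus, `C(x)` centralizes `t`. -/
theorem commute_t_of_noB (hA : K.ATypeData) {w x : G} (hF : K.IsBFrame t w x) (hN : K.NoB t w x)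
    {g : G} (hg : Commute g x) : Commute g t := by
  have htt := K.t_mul_self
  obtain ⟨O, -, hO, hcases⟩ := K.bElt_core (K.isBElt_of_frame hF)
  have hsw : t * (t * w) = w := by rw [← mul_assoc, htt, one_mul]
  -- an inverting involution inverts `O`
  have key : ∀ v, K.IsBFrame t v x → K.NoB t v x → ∀ g ∈ O, v * g * v = g⁻¹ := by
    intro v hv hnv
    have hvv := Psl.involution_mul_self hv.1.2.1
    have hvO : ∀ a ∈ O, v * a * v ∈ O := fun a ha => (hO _).2
      ⟨by
        have h := commute_conj_involution hvv ((hO a).1 ha).1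
        rw [hv.2.2.1] at h
        exact inv_inv x ▸ h.inv_right,
      by rw [orderOf_conj_involution hvv]; exact ((hO a).1 ha).2⟩
    refine (inverts_of_fpf hvv hvO fun a ha hav => K.part_eq_one hA hv hnv
      ⟨((hO a).1 ha).1, hav, ?_, ((hO a).1 ha).2⟩).1
    refine (inverts_of_fpf (S := O ⊓ Subgroup.centralizer ({v} : Set G)) htt
      (fun b hb => ⟨(hO _).2 ⟨?_, by rw [orderOf_conj_involution htt]; exact ((hO b).1 hb.1).2⟩,
        Subgroup.mem_centralizer_singleton_iff.2 ?_⟩)
      (fun b hb hbt => K.frame_fpf hv ((hO b).1 hb.1).1 hbt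
        (Subgroup.mem_centralizer_singleton_iff.1 hb.2) ((hO b).1 hb.1).2)).1 a
      ⟨ha, Subgroup.mem_centralizer_singleton_iff.2 hav⟩
    · have h := commute_conj_involution htt ((hO b).1 hb.1).1
      rwa [show t * x * t = x by rw [← hv.2.1.eq, mul_assoc, htt, mul_one]] at h
    · have h := commute_conj_involution htt
        (show Commute b v from Subgroup.mem_centralizer_singleton_iff.1 hb.2)
      rwa [show t * v * t = v by rw [hv.1.2.2.1.eq, mul_assoc, htt, mul_one]] at h
  have hN' : K.NoB t (t * w) x := fun y y1 hy => hN y y1 (by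
    rw [hsw] at hy
    exact hy.symm)
  have hw := key w hF hN
  have hs := key (t * w) (K.frame_swap hF) hN'
  have hcent : ∀ y ∈ O, Commute y t := fun y hy => by
    have e : t * y * t = y := by
      calc t * y * t = t * w * (w * y * w) * (t * w) := by
            have hww := Psl.involution_mul_self hF.1.2.1
            calc t * y * t = t * (w * w) * y * (w * w) * t := by rw [hww, mul_one, mul_one]
              _ = t * w * (w * y * w) * (w * t) := by group
              _ = _ := by rw [← hF.1.2.2.1.eq]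
        _ = y := by rw [hw y hy, hs _ (O.inv_mem hy), inv_inv]
    show y * t = t * y
    conv_lhs => rw [← e]
    rw [mul_assoc, htt, mul_one]
  rcases hcases g hg with h | h
  · exact hcent g h
  · have := (hcent _ h).mul_left (Commute.refl t).inv_left
    rwa [mul_inv_cancel_right] at this

omit K in
/-- The stage `NoUData` of the local analysis. -/
theorem noUData (K : Conf t F) (hA : K.ATypeData) : K.NoUData := by
  intro t' w x hF hN g hg
  obtain ⟨K'⟩ := K.conf_of_involution hF.1.1
  have hgt := K'.commute_t_of_noB hA hF hN hg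
  exact ⟨hgt, K'.bElt_pow (K'.isBElt_of_frame hF) hgt hg⟩

end CfsgLib.ReeOrder.Conf
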