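import Cfsg.Agent.Lib.ReeOrder.Local.Frame

/-!
Elements of odd order of the centralizer of an involution: the tori they lie in.
-/

set_option autoImplicit false
set_option linter.unusedSectionVars false
set_option linter.style.haveILetI false

open Matrix

namespace CfsgLib.ReeOrder.Local

/-- In a cyclic group the elements of exponent three are powers of one element. -/
theorem mem_three_part {G : Type*} [Group G] [Finite G] {c x : G} (h3 : 3 ∣ orderOf c)
    (hx : x ∈ Subgroup.zpowers c) (hx3 : x ^ 3 = 1) :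
    x ∈ Subgroup.zpowers (c ^ (orderOf c / 3)) := by
  obtain ⟨i, rfl⟩ := (isOfFinOrder_of_finite c).mem_powers_iff_mem_zpowers.2 hx
  simp only at hx3 ⊢
  obtain ⟨m, hm⟩ := h3
  rw [← pow_mul] at hx3
  have h1 := orderOf_dvd_of_pow_eq_one hx3
  rw [hm, mul_comm i 3] at h1
  obtain ⟨l, hl⟩ := Nat.dvd_of_mul_dvd_mul_left (by norm_num) h1
  rw [hm, Nat.mul_div_cancel_left _ (by norm_num), hl, pow_mul]
  exact Subgroup.npow_mem_zpowers _ _

/-- A non-trivial element of a group of prime order generates it. -/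
theorem zpowers_eq_of_prime {G : Type*} [Group G] {p : ℕ} (hp : p.Prime) {x y : G}
    (hy : orderOf y = p) (hx : x ∈ Subgroup.zpowers y) (hx1 : x ≠ 1) :
    Subgroup.zpowers x = Subgroup.zpowers y := by
  have : Finite (Subgroup.zpowers y) :=
    Nat.finite_of_card_ne_zero (by rw [Nat.card_zpowers, hy]; exact hp.ne_zero)
  refine Subgroup.eq_of_le_of_card_ge (Subgroup.zpowers_le.2 hx) ?_
  rw [Nat.card_zpowers, Nat.card_zpowers, hy]
  obtain ⟨i, rfl⟩ := Subgroup.mem_zpowers_iff.1 hx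
  have hd : orderOf (y ^ i) ∣ p := hy ▸ (Subgroup.orderOf_mk (H := Subgroup.zpowers y) _ hx ▸
    (Nat.card_zpowers y ▸ orderOf_dvd_natCard _))
  rcases (Nat.dvd_prime hp).1 hd with e | e
  · exact absurd (orderOf_eq_one_iff.1 e) hx1
  · exact e.ge

end CfsgLib.ReeOrder.Local

namespace CfsgLib.ReeOrder.Conf

open Cfsg CfsgLib.ReeType CfsgLib.ReeOrder.Local

universe u

variable {G : Type u} [Group G] [Fintype G]
variable {F : Type} [Field F] [Fintype F] [DecidableEq F]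
variable {t : G} (K : Conf t F)

local notation "PSL2" => Matrix.ProjectiveSpecialLinearGroup (Fin 2) F

include K

/-- An element of the second torus lies in the centralizer of a four group through `t`. -/
theorem exists_four {x : G} (hx : Commute x t) (x1 : x ≠ 1) (hd : orderOf x ∣ coTorus K.q) :
    ∃ w, K.IsFour t w ∧ Commute x w := by
  obtain ⟨k, rfl, hk⟩ := K.odd_up hx (K.odd_a.of_dvd_nat hd)
  have k1 : k ≠ 1 := fun e => x1 (by rw [e, map_one])
  obtain ⟨C, hC, hkC, hcard, -⟩ := Psl.exists_torus_co K.q_mod K.q_ge k1 (hk ▸ hd)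
  haveI : Fact (Nat.Prime 2) := ⟨Nat.prime_two⟩
  obtain ⟨⟨i, hi⟩, hio⟩ := exists_prime_orderOf_dvd_card' (G := C) 2 (hcard ▸ Dvd.intro _ rfl)
  rw [Subgroup.orderOf_mk] at hio
  haveI := hC.cyclic
  refine ⟨K.cent.up i, ⟨K.orderOf_t, ?_, (K.mul_t_comm i).symm, K.t_ne_up i⟩, ?_⟩
  · rw [orderOf_injective _ K.cent.up_injective, hio]
  · exact Commute.map (congrArg Subtype.val (mul_comm' (⟨k, hkC⟩ : C) ⟨i, hi⟩)) K.cent.up

/-- Any two elements of order three of the second torus are conjugate up to inversion. -/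
theorem conj_three {x y : G} (h3 : 3 ∣ coTorus K.q) (hx : Commute x t) (hy : Commute y t)
    (hx3 : orderOf x = 3) (hy3 : orderOf y = 3) :
    ∃ g : G, g * x * g⁻¹ ∈ Subgroup.zpowers y := by
  obtain ⟨k, rfl, hk⟩ := K.odd_up hx (by rw [hx3]; decide)
  obtain ⟨l, rfl, hl⟩ := K.odd_up hy (by rw [hy3]; decide)
  rw [hx3] at hk
  rw [hy3] at hl
  obtain ⟨p, _⟩ := CharP.exists F
  haveI : Fact p.Prime := ⟨CharP.char_is_prime F p⟩
  obtain ⟨-, hpa, -⟩ := Psl.coprime_p (F := F) K.q_mod p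
  have aux : ∀ {u : PSL2}, orderOf u = 3 → u ≠ 1 ∧ u ^ p ≠ 1 ∧ u * u ≠ 1 := by
    intro u hu
    refine ⟨fun e => ?_, fun e => ?_, fun e => ?_⟩
    · rw [e, orderOf_one] at hu; omega
    · have h1 := orderOf_dvd_of_pow_eq_one e
      rw [hu] at h1
      have : 3 ∣ 1 := hpa ▸ Nat.dvd_gcd h1 h3
      omega
    · have h1 := orderOf_dvd_of_pow_eq_one (show u ^ 2 = 1 by rw [pow_two, e])
      rw [hu] at h1
      omega
  obtain ⟨C, hC, hkC, hc, -⟩ := Psl.exists_torus_co K.q_mod K.q_ge (aux hk).1 (by rw [hk]; exact h3)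
  obtain ⟨C', hC', hlC, hc', -⟩ := Psl.exists_torus_co K.q_mod K.q_ge (aux hl).1 (by rw [hl]; exact h3)
  obtain ⟨g, hg⟩ := Psl.exists_conj_torus p (Psl.q_odd K.q_mod K.q_ge) (aux hk).2.1 (aux hl).2.1
    (aux hk).2.2 (aux hl).2.2 hC hkC hC' hlC (hc.trans hc'.symm)
  refine ⟨K.cent.up g, ?_⟩
  rw [← map_inv, ← map_mul, ← map_mul]
  obtain ⟨z, hz⟩ := hC'.cyclic.exists_generator
  have hmem : ∀ u ∈ C', u ∈ Subgroup.zpowers (z : PSL2) := by
    intro u hu
    obtain ⟨i, hi⟩ := Subgroup.mem_zpowers_iff.1 (hz ⟨u, hu⟩)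
    exact Subgroup.mem_zpowers_iff.2 ⟨i, by simpa using congrArg Subtype.val hi⟩
  have hzo : orderOf (z : PSL2) = Nat.card C' := by
    rw [Subgroup.orderOf_coe, orderOf_eq_card_of_forall_mem_zpowers hz]
  have h3z : 3 ∣ orderOf (z : PSL2) := by rw [hzo, hc']; exact h3.mul_left 2
  have h1 := mem_three_part h3z (hmem _ ((hg k).1 hkC)) (by
    rw [conj_pow, show k ^ 3 = 1 by rw [← hk, pow_orderOf_eq_one]]; group)
  have h2 := mem_three_part h3z (hmem _ hlC) (by rw [← hl, pow_orderOf_eq_one])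
  have hzo3 : orderOf ((z : PSL2) ^ (orderOf (z : PSL2) / 3)) = 3 := by
    obtain ⟨m, hm⟩ := h3z
    have hpos := orderOf_pos (z : PSL2)
    rw [hm] at hpos ⊢
    rw [Nat.mul_div_cancel_left _ (by norm_num), orderOf_pow' _ (by omega), hm, Nat.gcd_comm,
      Nat.gcd_eq_left (dvd_mul_left m 3), Nat.mul_div_cancel _ (by omega)]
  rw [← zpowers_eq_of_prime Nat.prime_three hzo3 h2 (aux hl).1] at h1
  obtain ⟨i, hi⟩ := Subgroup.mem_zpowers_iff.1 h1
  exact Subgroup.mem_zpowers_iff.2 ⟨i, by rw [← map_zpow, hi]⟩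

end CfsgLib.ReeOrder.Conf
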