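import Cfsg.Agent.Lib.ReeOrder.Local.Five
import Cfsg.Agent.Lib.ReeOrder.Local.Torus

/-!
The second torus has order prime to three.

Otherwise an element `f` of order three cycling a four group `⟨s, s'⟩` and centralizing `t` lies in a
second torus, and so does an element `y` of order three centralizing `⟨s, s'⟩`.  Both centralizers
involve the group of order sixty, `⟨f, y⟩` is a Sylow subgroup and no element of its normalizer carries
`f` to a power of `y`, against Burnside.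
-/

set_option autoImplicit false
set_option linter.unusedSectionVars false
set_option linter.style.haveILetI false

namespace CfsgLib.ReeOrder.Conf

open Cfsg CfsgLib.ReeType CfsgLib.ReeOrder.Local Subgroup

universe u

variable {G : Type u} [Group G] [Fintype G]
/-- The configuration to be excluded. -/
structure ThreeConf (G : Type u) [Group G] where
  t : G
  f : G
  y : G
  r : G
  t_two : t * t = 1
  f_three : orderOf f = 3
  y_three : orderOf y = 3
  r_two : r * r = 1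
  t_f : t * f * t⁻¹ = f
  t_y : t * y * t⁻¹ = y⁻¹
  r_f : r * f * r⁻¹ = f⁻¹
  r_y : r * y * r⁻¹ = y
  f_y : Commute f y
  comm2 : ∀ P : Subgroup G, IsPGroup 2 P → ∀ a ∈ P, ∀ b ∈ P, Commute a b
  cent : ∀ g, Commute g f → Commute g y → ∃ i j : ℤ, g = f ^ i * y ^ j
  norm_f : ∀ g, Commute g f → (∃ i j : ℤ, g * y * g⁻¹ = f ^ i * y ^ j) → Odd (orderOf g) → Commute g y
  norm_y : ∀ g, Commute g y → (∃ i j : ℤ, g * f * g⁻¹ = f ^ i * y ^ j) → Odd (orderOf g) → Commute g f
  norm_y' : ∀ g, Commute g y → (∃ i j : ℤ, g * f * g⁻¹ = f ^ i * y ^ j) →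
    (Commute g f ∨ Commute (g * r) f)
  conj : ∃ g, g * f * g⁻¹ ∈ zpowers y

namespace ThreeConf

theorem false (M : ThreeConf G) : False := by
  classical
  haveI : Fact (Nat.Prime 3) := ⟨Nat.prime_three⟩
  haveI : Fact (Nat.Prime 2) := ⟨Nat.prime_two⟩
  obtain ⟨t, f, y, r, ht2, hf, hy, hr2, htf, hty, hrf, hry, hfy, hcomm, hcent, hnf, hny, hny', hconj⟩ := M
  have hf3 : f ^ 3 = 1 := by rw [← hf, pow_orderOf_eq_one]
  have hy3 : y ^ 3 = 1 := by rw [← hy, pow_orderOf_eq_one]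
  have hf1 : f ≠ 1 := fun e => by rw [e, orderOf_one] at hf; omega
  have hy1 : y ≠ 1 := fun e => by rw [e, orderOf_one] at hy; omega
  have hfi : ∀ i : ℤ, (f ^ i) ^ 3 = 1 := fun i => by
    rw [← zpow_natCast, ← zpow_mul, mul_comm, zpow_mul, zpow_natCast, hf3, one_zpow]
  have hyi : ∀ i : ℤ, (y ^ i) ^ 3 = 1 := fun i => by
    rw [← zpow_natCast, ← zpow_mul, mul_comm, zpow_mul, zpow_natCast, hy3, one_zpow]
  have hcube_sq : ∀ x : G, x ^ 3 = 1 → x * x = 1 → x = 1 := fun x h3 h2 => by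
    rw [pow_succ, pow_two, h2, one_mul] at h3
    exact h3
  have huniq : ∀ i j : ℤ, f ^ i * y ^ j = 1 → f ^ i = 1 ∧ y ^ j = 1 := by
    intro i j h
    have h' : f ^ i * (y ^ j)⁻¹ = 1 := by
      have := congrArg (fun x => t * x * t⁻¹) h
      simp only [mul_one, mul_inv_cancel] at this
      rwa [show t * (f ^ i * y ^ j) * t⁻¹ = t * f ^ i * t⁻¹ * (t * y ^ j * t⁻¹) by group, ← conj_zpow,
        ← conj_zpow, htf, hty, _root_.inv_zpow] at this
    have hj : y ^ j = 1 := hcube_sq _ (hyi j) (by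
      rw [← eq_inv_iff_mul_eq_one]
      exact mul_left_cancel (h.trans h'.symm))
    rw [hj, mul_one] at h
    exact ⟨h, hj⟩
  -- the elementary group of order nine
  obtain ⟨T, hTdef⟩ : ∃ T : Subgroup G, T = centralizer ({f, y} : Set G) := ⟨_, rfl⟩
  have hTiff : ∀ g, g ∈ T ↔ Commute g f ∧ Commute g y := fun g => by
    rw [hTdef, mem_centralizer_iff]
    constructor
    · exact fun h => ⟨(h f (Or.inl rfl)).symm, (h y (Or.inr rfl)).symm⟩
    · rintro ⟨h1, h2⟩ z (rfl | rfl)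
      · exact h1.eq.symm
      · exact h2.eq.symm
  have hfT : f ∈ T := (hTiff f).2 ⟨Commute.refl f, hfy⟩
  have hyT : y ∈ T := (hTiff y).2 ⟨hfy.symm, Commute.refl y⟩
  have hTel : ∀ g ∈ T, ∃ i j : ℤ, g = f ^ i * y ^ j := fun g hg => hcent g ((hTiff g).1 hg).1 ((hTiff g).1 hg).2
  have hmk : ∀ i j : ℤ, f ^ i * y ^ j ∈ T := fun i j => mul_mem (zpow_mem hfT i) (zpow_mem hyT j)
  have hT3 : ∀ g ∈ T, g ^ 3 = 1 := fun g hg => by
    obtain ⟨i, j, rfl⟩ := hTel g hg
    rw [(hfy.zpow_zpow i j).mul_pow, hfi, hyi, one_mul]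
  have hTcomm : ∀ a ∈ T, ∀ b ∈ T, Commute a b := fun a ha b hb => by
    obtain ⟨i, j, rfl⟩ := hTel b hb
    exact (((hTiff a).1 ha).1.zpow_right i).mul_right (((hTiff a).1 ha).2.zpow_right j)
  set N := normalizer (T : Set G) with hN
  have hNmem : ∀ g, g * f * g⁻¹ ∈ T → g * y * g⁻¹ ∈ T → g ∈ N := fun g h1 h2 =>
    mem_normalizer_fintype fun x hx => by
      obtain ⟨i, j, rfl⟩ := hTel x hx
      rw [show g * (f ^ i * y ^ j) * g⁻¹ = g * f ^ i * g⁻¹ * (g * y ^ j * g⁻¹) by group, ← conj_zpow,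
        ← conj_zpow]
      exact mul_mem (zpow_mem h1 i) (zpow_mem h2 j)
  have htN : t ∈ N := hNmem t (by rw [htf]; exact hfT) (by rw [hty]; exact inv_mem hyT)
  have hNconj : ∀ g ∈ N, ∀ x ∈ T, g * x * g⁻¹ ∈ T := fun g hg x hx => (mem_normalizer_iff.1 hg x).1 hx
  -- an element of the normalizer carrying `f` into `⟨y⟩` carries `y` into `⟨f⟩`
  have hgen : ∀ {x z : G}, orderOf z = 3 → x ∈ zpowers z → x ≠ 1 → z ∈ zpowers x := fun hz hx hx1 => by
    rw [zpowers_eq_of_prime Nat.prime_three hz hx hx1]; exact mem_zpowers _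
  have hswap : ∀ n ∈ N, n * f * n⁻¹ ∈ zpowers y → n * y * n⁻¹ ∈ zpowers f := by
    intro n hn hnf
    have hnf1 : n * f * n⁻¹ ≠ 1 := fun e => hf1 (conj_eq_one_iff.1 e)
    have h2y : Commute (n * t * n⁻¹) y := by
      obtain ⟨i, hi⟩ := mem_zpowers_iff.1 (hgen hy hnf hnf1)
      have h1 : Commute (n * t * n⁻¹) (n * f * n⁻¹) :=
        Commute.map (show Commute t f from mul_inv_eq_iff_eq_mul.1 htf) (MulAut.conj n).toMonoidHom
      exact hi ▸ h1.zpow_right i
    have h2N : n * t * n⁻¹ ∈ N := mul_mem (mul_mem hn htN) (inv_mem hn)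
    have h2f := hTel _ (hNconj _ h2N f hfT)
    obtain ⟨i, j, hij⟩ := hTel _ (hNconj n hn y hyT)
    have hinv : n * t * n⁻¹ * (f ^ i * y ^ j) * (n * t * n⁻¹)⁻¹ = (f ^ i * y ^ j)⁻¹ := by
      rw [← hij, show n * t * n⁻¹ * (n * y * n⁻¹) * (n * t * n⁻¹)⁻¹ = n * (t * y * t⁻¹) * n⁻¹ by group,
        hty]
      group
    rcases hny' _ h2y h2f with hc | hc
    · exfalso
      have hmem : n * t * n⁻¹ ∈ T := (hTiff _).2 ⟨hc, h2y⟩
      have h1 : n * t * n⁻¹ = 1 := hcube_sq _ (hT3 _ hmem) (by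
        calc n * t * n⁻¹ * (n * t * n⁻¹) = n * (t * t) * n⁻¹ := by group
          _ = 1 := by rw [ht2]; group)
      rw [conj_eq_one_iff] at h1
      rw [h1, one_mul, inv_one, mul_one] at hty
      exact hy1 (hcube_sq _ hy3 (by conv_lhs => arg 2; rw [hty]
                                    exact mul_inv_cancel y))
    · have hmem : n * t * n⁻¹ * r ∈ T :=
        (hTiff _).2 ⟨hc, h2y.mul_left (mul_inv_eq_iff_eq_mul.1 hry)⟩
      have hrx : r * (f ^ i * y ^ j) * r⁻¹ = (f ^ i)⁻¹ * y ^ j := by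
        rw [show r * (f ^ i * y ^ j) * r⁻¹ = r * f ^ i * r⁻¹ * (r * y ^ j * r⁻¹) by group, ← conj_zpow,
          ← conj_zpow, hrf, hry, _root_.inv_zpow]
      have hact : n * t * n⁻¹ * (f ^ i * y ^ j) * (n * t * n⁻¹)⁻¹ = r * (f ^ i * y ^ j) * r⁻¹ := by
        have hx : r * (f ^ i * y ^ j) * r⁻¹ ∈ T := by
          rw [hrx]; exact mul_mem (inv_mem (zpow_mem hfT i)) (zpow_mem hyT j)
        calc _ = n * t * n⁻¹ * r * (r⁻¹ * (f ^ i * y ^ j) * r) * (n * t * n⁻¹ * r)⁻¹ := by group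
          _ = r⁻¹ * (f ^ i * y ^ j) * r := by
            rw [inv_eq_of_mul_eq_one_right hr2] at hx ⊢
            rw [(hTcomm _ hmem _ hx).eq, mul_inv_cancel_right]
          _ = _ := by rw [inv_eq_of_mul_eq_one_right hr2]
      rw [hinv, hrx, mul_inv_rev, ← ((hfy.zpow_zpow i j).inv_inv).eq] at hact
      have hj : y ^ j = 1 := hcube_sq _ (hyi j) (by
        rw [← eq_inv_iff_mul_eq_one]
        exact (mul_left_cancel hact).symm)
      rw [hj, mul_one] at hij
      exact hij ▸ zpow_mem_zpowers f i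
  have hswap' : ∀ n ∈ N, n * y * n⁻¹ ∈ zpowers f → n * f * n⁻¹ ∈ zpowers y := by
    intro n hn hny0
    obtain ⟨i, hi⟩ := mem_zpowers_iff.1 (hgen hf hny0 fun e => hy1 (conj_eq_one_iff.1 e))
    have h1 : n⁻¹ * f * (n⁻¹)⁻¹ ∈ zpowers y := by
      rw [inv_inv, ← hi, conj_zpow]
      exact mem_zpowers_iff.2 ⟨i, by group⟩
    obtain ⟨j, hj⟩ := mem_zpowers_iff.1 (hgen hf (hswap n⁻¹ (inv_mem hn) h1)
      fun e => hy1 (conj_eq_one_iff.1 e))
    rw [← hj, ← conj_zpow]
    exact mem_zpowers_iff.2 ⟨j, by group⟩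
  -- no element of the normalizer carries `f` into `⟨y⟩`
  have hno : ∀ n ∈ N, n * f * n⁻¹ ∉ zpowers y := by
    intro n hn hnf
    have hny0 := hswap n hn hnf
    let S : Set G := {x | x ≠ 1 ∧ (x ∈ zpowers f ∨ x ∈ zpowers y)}
    set H := normalizer S
    have hmap : ∀ g z z' : G, g * z * g⁻¹ ∈ zpowers z' → ∀ x ∈ zpowers z, g * x * g⁻¹ ∈ zpowers z' := by
      intro g z z' h x hx
      obtain ⟨i, rfl⟩ := mem_zpowers_iff.1 hx
      rw [← conj_zpow]; exact zpow_mem h i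
    have hnH : n ∈ H := mem_normalizer_fintype fun x hx => by
      refine ⟨fun e => hx.1 (conj_eq_one_iff.1 e), ?_⟩
      rcases hx.2 with h | h
      · exact Or.inr (hmap n f y hnf x h)
      · exact Or.inl (hmap n y f hny0 x h)
    have htH : t ∈ H := mem_normalizer_fintype fun x hx => by
      refine ⟨fun e => hx.1 (conj_eq_one_iff.1 e), ?_⟩
      rcases hx.2 with h | h
      · exact Or.inl (hmap t f f (htf.symm ▸ mem_zpowers f) x h)
      · exact Or.inr (hmap t y y (hty.symm ▸ inv_mem (mem_zpowers y)) x h)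
    obtain ⟨k, m, hm, hkm⟩ := Nat.exists_eq_two_pow_mul_odd (orderOf_pos n).ne'
    have hodd : ∀ j : ℕ, n ^ (2 * j + 1) * f * (n ^ (2 * j + 1))⁻¹ ∈ zpowers y ∧
        n ^ (2 * j + 1) * y * (n ^ (2 * j + 1))⁻¹ ∈ zpowers f := by
      intro j
      induction j with
      | zero => simpa using ⟨hnf, hny0⟩
      | succ j ih =>
        rw [show 2 * (j + 1) + 1 = 1 + (1 + (2 * j + 1)) by ring, pow_add, pow_add, pow_one]
        constructor
        · rw [show n * (n * n ^ (2 * j + 1)) * f * (n * (n * n ^ (2 * j + 1)))⁻¹ =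
            n * (n * (n ^ (2 * j + 1) * f * (n ^ (2 * j + 1))⁻¹) * n⁻¹) * n⁻¹ by group]
          exact hmap n f y hnf _ (hmap n y f hny0 _ ih.1)
        · rw [show n * (n * n ^ (2 * j + 1)) * y * (n * (n * n ^ (2 * j + 1)))⁻¹ =
            n * (n * (n ^ (2 * j + 1) * y * (n ^ (2 * j + 1))⁻¹) * n⁻¹) * n⁻¹ by group]
          exact hmap n y f hny0 _ (hmap n f y hnf _ ih.2)
    have hnm : n ^ m * f * (n ^ m)⁻¹ ∈ zpowers y ∧ n ^ m * y * (n ^ m)⁻¹ ∈ zpowers f := by
      obtain ⟨j, rfl⟩ := hm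
      exact hodd j
    have hp2 : IsPGroup 2 (zpowers (⟨n ^ m, pow_mem hnH m⟩ : H)) := IsPGroup.of_card (n := k) (by
      rw [Nat.card_zpowers, orderOf_mk, orderOf_pow' _ (by rintro rfl; simp at hm), hkm,
        Nat.gcd_eq_right (dvd_mul_left _ _), Nat.mul_div_cancel _ hm.pos])
    obtain ⟨P, hP⟩ := hp2.exists_le_sylow
    have ht' : IsPGroup 2 (zpowers (⟨t, htH⟩ : H)) := by
      rintro ⟨x, hx⟩
      obtain ⟨i, rfl⟩ := mem_zpowers_iff.1 hx
      refine ⟨1, Subtype.ext (Subtype.ext ?_)⟩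
      show (t ^ i) ^ 2 ^ 1 = 1
      rw [pow_one, ← zpow_natCast, ← zpow_mul, mul_comm, zpow_mul, zpow_natCast, pow_two, ht2, one_zpow]
    obtain ⟨Q, hQ⟩ := ht'.exists_le_sylow
    obtain ⟨h, hh⟩ := MulAction.exists_smul_eq H Q P
    have hpP : h * ⟨t, htH⟩ * h⁻¹ ∈ (P : Subgroup H) := by
      rw [← hh, Sylow.coe_subgroup_smul, pointwise_smul_def]
      exact ⟨_, hQ (mem_zpowers _), rfl⟩
    have hpn : Commute ((h : G) * t * (h : G)⁻¹) (n ^ m) :=
      hcomm _ (P.isPGroup'.map H.subtype) _ (mem_map_of_mem H.subtype hpP) _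
        (mem_map_of_mem H.subtype (hP (mem_zpowers _)))
    have hxS : (h : G) * f * (h : G)⁻¹ ∈ S := (mem_set_normalizer_iff.1 h.2 f).1 ⟨hf1, Or.inl (mem_zpowers f)⟩
    have hx'S : (h : G) * y * (h : G)⁻¹ ∈ S := (mem_set_normalizer_iff.1 h.2 y).1 ⟨hy1, Or.inr (mem_zpowers y)⟩
    have hdiff : ∀ z, orderOf z = 3 → ¬ ((h : G) * f * (h : G)⁻¹ ∈ zpowers z ∧
        (h : G) * y * (h : G)⁻¹ ∈ zpowers z) := by
      rintro z hz ⟨h1, h2⟩
      rw [← zpowers_eq_of_prime Nat.prime_three hz h1 hxS.1] at h2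
      obtain ⟨i, hi⟩ := mem_zpowers_iff.1 h2
      rw [conj_zpow] at hi
      have hye : y = f ^ i := (mul_left_cancel (mul_right_cancel hi)).symm
      refine hy1 (hcube_sq _ hy3 (eq_inv_iff_mul_eq_one.1 ?_))
      rw [← hty, hye, ← conj_zpow, htf]
    have hfix : ∀ z, orderOf z = 3 → (h : G) * y * (h : G)⁻¹ ∈ zpowers z →
        n ^ m * ((h : G) * f * (h : G)⁻¹) * (n ^ m)⁻¹ ∈ zpowers z → False := by
      intro z hz h1 h2
      obtain ⟨i, hi⟩ := mem_zpowers_iff.1
        (zpowers_eq_of_prime Nat.prime_three hz h1 hx'S.1 ▸ h2 :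
          n ^ m * ((h : G) * f * (h : G)⁻¹) * (n ^ m)⁻¹ ∈ zpowers ((h : G) * y * (h : G)⁻¹))
      set p := (h : G) * t * (h : G)⁻¹ with hp
      have e1 : p * ((h : G) * y * (h : G)⁻¹) * p⁻¹ = ((h : G) * y * (h : G)⁻¹)⁻¹ := by
        calc _ = (h : G) * (t * y * t⁻¹) * (h : G)⁻¹ := by rw [hp]; group
          _ = _ := by rw [hty]; group
      have e2 : Commute p ((h : G) * f * (h : G)⁻¹) :=
        Commute.map (show Commute t f from mul_inv_eq_iff_eq_mul.1 htf) (MulAut.conj (h : G)).toMonoidHom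
      have e3 : Commute p (n ^ m * ((h : G) * f * (h : G)⁻¹) * (n ^ m)⁻¹) :=
        (hpn.mul_right e2).mul_right hpn.inv_right
      rw [← hi] at e3
      have e4 : ((h : G) * y * (h : G)⁻¹) ^ i = (((h : G) * y * (h : G)⁻¹) ^ i)⁻¹ := by
        rw [← _root_.inv_zpow, ← e1, conj_zpow (a := p), e3.eq, mul_inv_cancel_right]
      refine hxS.1 ?_
      have e5 := hcube_sq _ (by rw [conj_zpow, conj_pow, hyi]; group) (eq_inv_iff_mul_eq_one.1 e4)
      rw [hi, conj_eq_one_iff] at e5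
      exact e5
    rcases hxS.2 with h1 | h1
    · rcases hx'S.2 with h2 | h2
      · exact hdiff f hf ⟨h1, h2⟩
      · exact hfix y hy h2 (hmap _ f y hnm.1 _ h1)
    · rcases hx'S.2 with h2 | h2
      · exact hfix f hf h2 (hmap _ y f hnm.2 _ h1)
      · exact hdiff y hy ⟨h1, h2⟩
  -- the group is a Sylow subgroup
  have hTp : IsPGroup 3 T := fun x => ⟨1, Subtype.ext (by rw [pow_one]; exact hT3 x x.2)⟩
  obtain ⟨P, hP⟩ := hTp.exists_le_sylow
  have hfixf : ∀ h ∈ N, Odd (orderOf h) → h * f * h⁻¹ ∈ zpowers f → h ∈ T := by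
    intro h hh ho hm
    have hfc : Commute h f := by
      obtain ⟨i, hi⟩ := mem_zpowers_iff.1 hm
      have h2 : f ^ i = f ∨ f ^ i = f⁻¹ ∨ f ^ i = 1 := by
        have := Int.emod_emod_of_dvd i (dvd_refl (3 : ℤ))
        rw [← zpow_mod_orderOf, hf]
        have h0 := Int.emod_nonneg i (show (3 : ℤ) ≠ 0 by norm_num)
        have h1 := Int.emod_lt_of_pos i (show (0 : ℤ) < 3 by norm_num)
        rcases (show i % 3 = 0 ∨ i % 3 = 1 ∨ i % 3 = 2 by omega) with e | e | e <;> push_cast <;> rw [e]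
        · exact Or.inr (Or.inr (zpow_zero f))
        · exact Or.inl (zpow_one f)
        · exact Or.inr (Or.inl (eq_inv_of_mul_eq_one_left (by
            rw [show (2 : ℤ) = ((2 : ℕ) : ℤ) from rfl, zpow_natCast, ← pow_succ, hf3])))
      rcases h2 with e | e | e
      · exact mul_inv_eq_iff_eq_mul.1 (hi.symm.trans e)
      · have e' : h * f * h⁻¹ = f⁻¹ := hi.symm.trans e
        refine commute_of_sq ho (mul_inv_eq_iff_eq_mul.1 ?_)
        calc h * h * f * (h * h)⁻¹ = h * (h * f * h⁻¹) * h⁻¹ := by group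
          _ = h * f⁻¹ * h⁻¹ := by rw [e']
          _ = (h * f * h⁻¹)⁻¹ := by group
          _ = f := by rw [e', inv_inv]
      · exact absurd (conj_eq_one_iff.1 (hi.symm.trans e)) hf1
    exact (hTiff h).2 ⟨hfc, hnf h hfc (hTel _ (hNconj h hh y hyT)) ho⟩
  have hPT : (P : Subgroup G) = T := by
    refine le_antisymm ?_ hP
    by_contra hle
    haveI : Group.IsNilpotent (P : Subgroup G) := P.isPGroup'.isNilpotent
    have hlt : T.subgroupOf P < ⊤ :=
      lt_top_iff_ne_top.2 fun e => hle (subgroupOf_eq_top.1 e)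
    obtain ⟨⟨h, hhP⟩, hhN, hhT⟩ := SetLike.exists_of_lt (Group.normalizerCondition_of_isNilpotent _ hlt)
    rw [mem_subgroupOf] at hhT
    have hhN' : h ∈ N := mem_normalizer_fintype fun x hx => by
      have := (mem_normalizer_iff.1 hhN ⟨x, hP hx⟩).1 (mem_subgroupOf.2 hx)
      exact mem_subgroupOf.1 this
    have ho : Odd (orderOf h) := by
      obtain ⟨k, hk⟩ := P.isPGroup' ⟨h, hhP⟩
      exact (show Odd (3 ^ k) from Odd.pow (by decide)).of_dvd_nat
        (orderOf_dvd_of_pow_eq_one (congrArg Subtype.val hk))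
    have hnat : ∀ {z : G}, z ^ 3 = 1 → ∀ i : ℤ, ∃ a : ℕ, a < 3 ∧ z ^ i = z ^ a := by
      intro z hz i
      refine ⟨(i % 3).toNat, by omega, ?_⟩
      conv_lhs => rw [← Int.emod_add_mul_ediv i 3]
      rw [zpow_add, zpow_mul, show z ^ (3 : ℤ) = 1 from (zpow_natCast z 3).trans hz, one_zpow, mul_one, ← zpow_natCast,
        Int.toNat_of_nonneg (Int.emod_nonneg i (by norm_num))]
    obtain ⟨i, j, hij⟩ := hTel _ (hNconj h hhN' f hfT)
    obtain ⟨i', j', hij'⟩ := hTel _ (hNconj h hhN' y hyT)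
    obtain ⟨a, ha, hae⟩ := hnat hf3 i
    obtain ⟨b, hb, hbe⟩ := hnat hy3 j
    obtain ⟨c, hc, hce⟩ := hnat hf3 i'
    obtain ⟨d, hd, hde⟩ := hnat hy3 j'
    rw [hae, hbe] at hij
    rw [hce, hde] at hij'
    have hb0 : b ≠ 0 := fun e => hhT (hfixf h hhN' ho (by
      rw [hij, e, pow_zero, mul_one]; exact npow_mem_zpowers f a))
    have ha0 : a ≠ 0 := fun e => hno h hhN' (by
      rw [hij, e, pow_zero, one_mul]; exact npow_mem_zpowers y b)
    have hc0 : c ≠ 0 := fun e => by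
      have hm : h * y * h⁻¹ ∈ zpowers y := by
        rw [hij', e, pow_zero, one_mul]; exact npow_mem_zpowers y d
      refine hhT ((hTiff h).2 ?_)
      have hyc : Commute h y := by
        obtain ⟨i, hi⟩ := mem_zpowers_iff.1 hm
        obtain ⟨m, hm, hme⟩ := hnat hy3 i
        rw [hme] at hi
        interval_cases m
        · rw [pow_zero] at hi
          exact absurd (conj_eq_one_iff.1 hi.symm) hy1
        · rw [pow_one] at hi
          exact mul_inv_eq_iff_eq_mul.1 hi.symm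
        · refine commute_of_sq ho (mul_inv_eq_iff_eq_mul.1 ?_)
          calc h * h * y * (h * h)⁻¹ = h * (h * y * h⁻¹) * h⁻¹ := by group
            _ = h * y ^ 2 * h⁻¹ := by rw [hi]
            _ = (h * y * h⁻¹) ^ 2 := conj_pow.symm
            _ = y := by rw [← hi, ← pow_mul, show 2 * 2 = 3 + 1 by norm_num, pow_add, hy3, one_mul, pow_one]
      exact ⟨hny h hyc (hTel _ (hNconj h hhN' f hfT)) ho, hyc⟩
    have hd0 : d ≠ 0 := fun e => hno h hhN' (hswap' h hhN' (by
      rw [hij', e, pow_zero, mul_one]; exact npow_mem_zpowers f c))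
    have hgen' : ∀ u v : ℕ, h * (f ^ u * y ^ v) * h⁻¹ = f ^ (a * u + c * v) * y ^ (b * u + d * v) := by
      intro u v
      rw [show h * (f ^ u * y ^ v) * h⁻¹ = h * f ^ u * h⁻¹ * (h * y ^ v * h⁻¹) by group, ← conj_pow,
        ← conj_pow, hij, hij', (hfy.pow_pow a b).mul_pow, (hfy.pow_pow c d).mul_pow, ← pow_mul,
        ← pow_mul, ← pow_mul, ← pow_mul, ((hfy.pow_pow (c * v) (b * u)).symm).mul_mul_mul_comm,
        ← pow_add, ← pow_add]
    have hzero : ∀ u : ℕ, u % 3 = 0 → f ^ u = 1 ∧ y ^ u = 1 := fun u hu => by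
      obtain ⟨k, rfl⟩ := Nat.dvd_of_mod_eq_zero hu
      rw [pow_mul, pow_mul, hf3, hy3, one_pow]; exact ⟨rfl, rfl⟩
    have h2 : h * h * f * (h * h)⁻¹ = f ^ (a * a + c * b) * y ^ (b * a + d * b) := by
      rw [← hgen' a b, ← hij]; group
    have hmod : (a * a + c * b) % 3 = 0 ∨ (b * a + d * b) % 3 = 0 ∨
        ((a * d + c * (2 * b)) % 3 = 0 ∧ (b * d + d * (2 * b)) % 3 = 0) := by
      interval_cases a <;> interval_cases b <;> interval_cases c <;> interval_cases d <;> omega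
    rcases hmod with e | e | ⟨e, e'⟩
    · exact hno _ (mul_mem hhN' hhN') (by
        rw [h2, (hzero _ e).1, one_mul]; exact npow_mem_zpowers y _)
    · have hho : Odd (orderOf (h * h)) := by
        rw [← pow_two]; exact ho.of_dvd_nat (orderOf_pow_dvd 2)
      have hm := hfixf _ (mul_mem hhN' hhN') hho (by
        rw [h2, (hzero _ e).2, mul_one]; exact npow_mem_zpowers f _)
      exact hhT (zpowers_le.2 hm (mem_zpowers_sq ho))
    · have h0 := hgen' d (2 * b)
      rw [(hzero _ e).1, (hzero _ e').2, one_mul, conj_eq_one_iff] at h0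
      have := (huniq (d : ℤ) ((2 * b : ℕ) : ℤ) (by rw [zpow_natCast, zpow_natCast]; exact h0)).1
      rw [zpow_natCast] at this
      have := orderOf_dvd_of_pow_eq_one this
      rw [hf] at this
      omega
  -- Burnside
  obtain ⟨g, hg⟩ := hconj
  have hgP : g * f * g⁻¹ ∈ (P : Subgroup G) := hPT ▸ (zpowers_le.2 hyT hg)
  have hc : ∀ z ∈ (P : Subgroup G), z ∈ centralizer ((P : Subgroup G) : Set G) := fun z hz =>
    mem_centralizer_iff.2 fun w hw => (hTcomm w (hPT ▸ hw) z (hPT ▸ hz)).eq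
  obtain ⟨n, hn, hne⟩ := P.conj_eq_normalizer_conj_of_mem_centralizer f g⁻¹
    (hc f (hPT ▸ hfT)) (by rw [inv_inv]; exact hc _ hgP)
  rw [inv_inv] at hne
  have hnN : n⁻¹ ∈ N := inv_mem (by rw [hN, ← hPT]; exact hn)
  exact hno _ hnN (by rw [inv_inv, ← hne]; exact hg)

end ThreeConf

variable {F : Type} [Field F] [Fintype F] [DecidableEq F]
variable {t : G} (K : Conf t F)

include K

/-- A four group cycled by an element of order three gives the configuration. -/
theorem exists_threeConf (h3 : 3 ∣ coTorus K.q) : Nonempty (ThreeConf G) := by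
  classical
  haveI := K.simple
  haveI : Fact (Nat.Prime 3) := ⟨Nat.prime_three⟩
  have hno : ∀ M : Subgroup G, M.Normal → M.index ≠ 2 := by
    intro M hM h
    rcases hM.eq_bot_or_eq_top with rfl | rfl
    · rw [Subgroup.index_bot] at h
      have hd := Subgroup.card_subgroup_dvd_card (Subgroup.centralizer ({t} : Set G))
      rw [K.card_cent, h] at hd
      have h2 := Nat.le_of_dvd two_pos hd
      have h1 : 0 < K.q * (coTorus K.q * oddTorus K.q) := by
        have := K.three_le_a; have := K.five_le_b; have := K.q_ge; rw [q_eq] at *; positivity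
      omega
    · rw [Subgroup.index_top] at h; omega
  obtain ⟨s, s', f, hcs, hst, hf, hft, hs', hss', e1, e2, -, hne⟩ :=
    exists_local (by have := K.q_ge; omega) K.q_mod K.cent K.odd_index hno
  have hs2 : orderOf s = 2 := by
    obtain ⟨g, rfl⟩ := isConj_iff.1 hcs
    exact (orderOf_injective (MulAut.conj g).toMonoidHom (MulEquiv.injective _) t).trans K.orderOf_t
  have ht2 := K.t_mul_self
  have htf : t * f * t⁻¹ = f := by rw [hft.symm.eq, mul_inv_cancel_right]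
  have hs't : Commute s' t := by
    rw [← e1]
    exact (hft.mul_left hst).mul_left hft.inv_left
  have hfour₀ : K.IsFour s s' := ⟨hs2, hs', hss', hne⟩
  have hmove : ∀ e, (e = s ∨ e = s' ∨ e = s * s') → ¬ Commute f e := by
    rintro e (rfl | rfl | rfl) hc
    · rw [hc.eq, mul_inv_cancel_right] at e1
      exact hne e1
    · rw [hc.eq, mul_inv_cancel_right] at e2
      have : s = 1 := right_eq_mul.1 e2
      rw [this, orderOf_one] at hs2; omega
    · have h1 : f * (s * s') * f⁻¹ = s' * (s * s') := by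
        rw [show f * (s * s') * f⁻¹ = f * s * f⁻¹ * (f * s' * f⁻¹) by group, e1, e2]
      rw [hc.eq, mul_inv_cancel_right] at h1
      have : s' = 1 := right_eq_mul.1 h1
      rw [this, orderOf_one] at hs'; omega
  obtain ⟨c₀, r₀, P₀⟩ := K.exists_pair hfour₀
  have htinv : ∀ z ∈ zpowers c₀, t * z * t⁻¹ = z⁻¹ := by
    obtain ⟨j, x, hx, hg | hg⟩ := P₀.gen t hst.symm hs't.symm
    · exfalso
      have hxc : Commute x c₀ ∧ x * x = 1 := by
        rcases hx with rfl | rfl | rfl | rfl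
        · exact ⟨Commute.one_left _, one_mul 1⟩
        · exact ⟨P₀.cv.symm, Psl.involution_mul_self hs2⟩
        · exact ⟨P₀.cw.symm, Psl.involution_mul_self hs'⟩
        · exact ⟨P₀.cv.symm.mul_left P₀.cw.symm, by
            rw [hss'.symm.mul_mul_mul_comm, Psl.involution_mul_self hs2, Psl.involution_mul_self hs',
              one_mul]⟩
      have hcj : c₀ ^ j = 1 := by
        refine eq_one_of_odd (P₀.commute_zpow (npow_mem_zpowers c₀ j)).2.2.2.1 ?_
        have := ht2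
        rw [hg, (hxc.1.pow_right j).mul_mul_mul_comm, hxc.2, mul_one] at this
        exact this
      rw [hcj, one_mul] at hg
      rcases hx with rfl | rfl | rfl | rfl
      · exact K.t_ne_one hg
      · exact hmove _ (Or.inl rfl) (hg ▸ hft)
      · exact hmove _ (Or.inr (Or.inl rfl)) (hg ▸ hft)
      · exact hmove _ (Or.inr (Or.inr rfl)) (hg ▸ hft)
    · exact fun z hz => (P₀.cross hz hx hg).2
  -- the element of order three of the torus of `⟨s, s'⟩`
  have h3c : 3 ∣ orderOf c₀ := P₀.ord_c ▸ h3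
  obtain ⟨y, hy_def⟩ : ∃ y, y = c₀ ^ (orderOf c₀ / 3) := ⟨_, rfl⟩
  have hy : orderOf y = 3 := by
    obtain ⟨m, hm⟩ := h3c
    have hpos := orderOf_pos c₀
    rw [hm] at hpos
    rw [hy_def, hm, Nat.mul_div_cancel_left _ (by norm_num), orderOf_pow' _ (by omega), hm, Nat.gcd_comm,
      Nat.gcd_eq_left (dvd_mul_left m 3), Nat.mul_div_cancel _ (by omega)]
  have hy3 : y ^ 3 = 1 := by rw [← hy, pow_orderOf_eq_one]
  have hy1 : y ≠ 1 := fun e => by rw [e, orderOf_one] at hy; omega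
  have hyA : y ∈ zpowers c₀ := hy_def ▸ npow_mem_zpowers _ _
  obtain ⟨hys, hys', -, hyo, -⟩ := P₀.commute_zpow hyA
  have hty : t * y * t⁻¹ = y⁻¹ := htinv y hyA
  have hfy : Commute f y := by
    have hmem : f * y * f⁻¹ ∈ zpowers c₀ := by
      have hk1 : Commute (f * y * f⁻¹) s' :=
        e1 ▸ (show Commute y s from hys).map (MulAut.conj f).toMonoidHom
      have hk2 : Commute (f * y * f⁻¹) (s * s') :=
        e2 ▸ (show Commute y s' from hys').map (MulAut.conj f).toMonoidHom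
      have hk3 : Commute (f * y * f⁻¹) s := by
        have := hk2.mul_right hk1
        rwa [show s * s' * s' = s by rw [mul_assoc, Psl.involution_mul_self hs', mul_one]] at this
      exact P₀.odd_mem hk3 hk1 (by
        rw [show f * y * f⁻¹ = (MulAut.conj f).toMonoidHom y from rfl,
          orderOf_injective _ (MulEquiv.injective _)]
        exact hyo)
    have h1 := mem_three_part h3c hmem (by rw [conj_pow, hy3]; group)
    rw [← hy_def] at h1
    obtain ⟨i, hi⟩ := (isOfFinOrder_of_finite y).mem_powers_iff_mem_zpowers.2 h1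
    simp only at hi
    rw [← pow_mod_orderOf, hy] at hi
    have hlt := Nat.mod_lt i (show 3 > 0 by norm_num)
    interval_cases hm : i % 3
    · rw [pow_zero] at hi
      exact absurd (conj_eq_one_iff.1 hi.symm) hy1
    · rw [pow_one] at hi
      exact mul_inv_eq_iff_eq_mul.1 hi.symm
    · refine commute_of_sq (by rw [hf]; decide) (mul_inv_eq_iff_eq_mul.1 ?_)
      calc f * f * y * (f * f)⁻¹ = f * (f * y * f⁻¹) * f⁻¹ := by group
        _ = f * y ^ 2 * f⁻¹ := by rw [hi]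
        _ = (f * y * f⁻¹) ^ 2 := conj_pow.symm
        _ = y := by rw [← hi, ← pow_mul, show 2 * 2 = 3 + 1 by norm_num, pow_add, hy3, one_mul, pow_one]
  have hf1 : f ≠ 1 := fun e => by rw [e, orderOf_one] at hf; omega
  have hf3 : f ^ 3 = 1 := by rw [← hf, pow_orderOf_eq_one]
  obtain ⟨w, hw, hfw⟩ := K.exists_four hft hf1 (hf ▸ h3)
  obtain ⟨c₁, r₁, P₁⟩ := K.exists_pair hw
  have hfA : f ∈ zpowers c₁ := P₁.odd_mem hft hfw (by rw [hf]; decide)
  have hye : ∀ i : G, Commute i t → t * (y * t * y⁻¹) ≠ i ∨ i * i ≠ 1 := by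
    intro i hi
    by_contra hcon
    push Not at hcon
    obtain ⟨hie, hii⟩ := hcon
    have hyy : t * (y * t * y⁻¹) = y⁻¹ * y⁻¹ := by
      rw [← hty, inv_eq_of_mul_eq_one_right ht2]; group
    rw [hyy] at hie
    have h1 : i ^ 3 = 1 := by
      rw [← hie, (Commute.refl y⁻¹).mul_pow, inv_pow, hy3, inv_one, one_mul]
    rw [pow_succ, pow_two, hii, one_mul] at h1
    rw [h1] at hie
    exact hy1 (eq_one_of_odd hyo (inv_eq_one.1 (by rw [_root_.mul_inv_rev]; exact hie)))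
  obtain ⟨M₁⟩ : Nonempty (Five t w c₁ f) := by
    refine (P₁.cases hfA hf1).resolve_left fun hN => ?_
    have hE : ∀ e, (e = 1 ∨ e = t ∨ e = w ∨ e = t * w) → e * e = 1 ∧ Commute e t := by
      rintro e (rfl | rfl | rfl | rfl)
      · exact ⟨one_mul 1, Commute.one_left t⟩
      · exact ⟨ht2, Commute.refl _⟩
      · exact ⟨Psl.involution_mul_self hw.2.1, hw.2.2.1.symm⟩
      · exact ⟨by rw [hw.2.2.1.symm.mul_mul_mul_comm, ht2, Psl.involution_mul_self hw.2.1, one_mul],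
          (Commute.refl t).mul_left hw.2.2.1.symm⟩
    obtain ⟨hee, hec⟩ := hE _ (hN y hfy.symm t (Or.inr (Or.inl rfl)))
    rcases hye _ ((Commute.refl t).mul_left hec) with h | h
    · exact h rfl
    · exact h (by rw [hec.mul_mul_mul_comm, ht2, hee, one_mul])
  have hyC₁ : y ∈ centralizer ({f} : Set G) := mem_centralizer_singleton_iff.2 hfy.symm.eq
  have hy_out : y ∉ zpowers c₁ := by
    intro h
    have h1 := (P₁.commute_zpow h).1
    rw [h1.symm.eq, mul_inv_cancel_right] at hty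
    exact hy1 (eq_one_of_odd hyo (eq_inv_iff_mul_eq_one.1 hty))
  have hy_img : orderOf (M₁.φ ⟨y, hyC₁⟩) = 3 := orderOf_eq_prime
    (by rw [← map_pow, show (⟨y, hyC₁⟩ : centralizer ({f} : Set G)) ^ 3 = 1 from Subtype.ext hy3, map_one])
    (fun e => hy_out ((M₁.ker y hyC₁).1 e))
  -- a conjugate of `f` is a power of `y`
  obtain ⟨g, hg⟩ : ∃ g, g * f * g⁻¹ ∈ zpowers y := by
    obtain ⟨g₀, hg₀⟩ := isConj_iff.1 hcs
    obtain ⟨K'⟩ := K.conf_of_involution hs2
    obtain ⟨k, hk⟩ := K'.conj_three (x := g₀ * f * g₀⁻¹) (y := y) h3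
      (hg₀ ▸ (show Commute f t from hft).map (MulAut.conj g₀).toMonoidHom) hys
      ((orderOf_injective (MulAut.conj g₀).toMonoidHom (MulEquiv.injective _) f).trans hf) hy
    exact ⟨k * g₀, by rwa [show k * g₀ * f * (k * g₀)⁻¹ = k * (g₀ * f * g₀⁻¹) * k⁻¹ by group]⟩
  obtain ⟨M₀⟩ : Nonempty (Five s s' c₀ y) := by
    refine (P₀.cases hyA hy1).resolve_left fun hN => ?_
    -- all involutions centralizing `y` would commute
    haveI : Fact (Nat.Prime 2) := ⟨Nat.prime_two⟩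
    have hFA := P₀.fourAbelian hyA hy1
    obtain ⟨Q, hQ⟩ := hFA.exists_sylow
    have hQn : ∀ a : centralizer ({y} : Set G), a • Q = Q := by
      intro a
      refine Sylow.smul_eq_iff_mem_normalizer.2 (mem_normalizer_fintype fun x hx => ?_)
      change x ∈ (Q : Subgroup _) at hx
      show a * x * a⁻¹ ∈ (Q : Subgroup _)
      rw [hQ, mem_subgroupOf] at hx ⊢
      exact hN a (mem_centralizer_singleton_iff.1 a.2) x hx
    have hinQ : ∀ i : G, i * i = 1 → (hi : Commute i y) →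
        i = 1 ∨ i = s ∨ i = s' ∨ i = s * s' := by
      intro i hii hi
      have hp : IsPGroup 2 (zpowers (⟨i, mem_centralizer_singleton_iff.2 hi.eq⟩ :
          centralizer ({y} : Set G))) := by
        rintro ⟨x, hx⟩
        obtain ⟨m, rfl⟩ := mem_zpowers_iff.1 hx
        refine ⟨1, Subtype.ext (Subtype.ext ?_)⟩
        show (i ^ m) ^ 2 ^ 1 = 1
        rw [pow_one, ← zpow_natCast, ← zpow_mul, mul_comm, zpow_mul, zpow_natCast, pow_two, hii, one_zpow]
      obtain ⟨R, hR⟩ := hp.exists_le_sylow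
      obtain ⟨a, ha⟩ := MulAction.exists_smul_eq (centralizer ({y} : Set G)) Q R
      have := hR (mem_zpowers _)
      rw [← ha, hQn, hQ, mem_subgroupOf] at this
      exact this
    have hgt : ∀ i : G, i * i = 1 → Commute i f → g * i * g⁻¹ = 1 ∨ g * i * g⁻¹ = s ∨
        g * i * g⁻¹ = s' ∨ g * i * g⁻¹ = s * s' := by
      intro i hii hif
      refine hinQ _ (by rw [show g * i * g⁻¹ * (g * i * g⁻¹) = g * (i * i) * g⁻¹ by group, hii]; group) ?_
      have h1 : Commute (g * i * g⁻¹) (g * f * g⁻¹) := hif.map (MulAut.conj g).toMonoidHom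
      have hg1 : g * f * g⁻¹ ≠ 1 := fun e => hf1 (conj_eq_one_iff.1 e)
      obtain ⟨j, hj⟩ := mem_zpowers_iff.1
        (zpowers_eq_of_prime Nat.prime_three hy hg hg1 ▸ mem_zpowers y : y ∈ zpowers (g * f * g⁻¹))
      exact hj ▸ h1.zpow_right j
    have hS : ∀ a b, (a = 1 ∨ a = s ∨ a = s' ∨ a = s * s') → (b = 1 ∨ b = s ∨ b = s' ∨ b = s * s') →
        Commute a b := by
      intro a b ha hb
      exact Commute.eq (congrArg Subtype.val (hFA.commE
        ⟨a, by
          rw [mem_centralizer_singleton_iff]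
          rcases ha with rfl | rfl | rfl | rfl
          exacts [by simp, hys.eq.symm, hys'.eq.symm, (hys.mul_right hys').eq.symm]⟩
        (mem_subgroupOf.2 ha)
        ⟨b, by
          rw [mem_centralizer_singleton_iff]
          rcases hb with rfl | rfl | rfl | rfl
          exacts [by simp, hys.eq.symm, hys'.eq.symm, (hys.mul_right hys').eq.symm]⟩
        (mem_subgroupOf.2 hb)))
    have hyt2 : y * t * y⁻¹ * (y * t * y⁻¹) = 1 := by
      rw [show y * t * y⁻¹ * (y * t * y⁻¹) = y * (t * t) * y⁻¹ by group, ht2]; group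
    have hcc := hS _ _ (hgt t ht2 hft.symm)
      (hgt _ hyt2 ((hfy.symm.mul_left hft.symm).mul_left hfy.symm.inv_left))
    have hec : Commute t (y * t * y⁻¹) := by
      have := hcc.map (MulAut.conj g⁻¹).toMonoidHom
      simpa [mul_assoc] using this
    rcases hye _ ((Commute.refl t).mul_left hec.symm) with h | h
    · exact h rfl
    · exact h (by rw [hec.symm.mul_mul_mul_comm, ht2, hyt2, one_mul])
  -- `t` acts trivially on the quotient
  obtain ⟨e, he, htwist⟩ := M₀.exists_twist ht2 hst.symm hs't.symm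
    (htinv c₀ (mem_zpowers c₀)) hyA (Psl.involution_mul_self hs2) (Psl.involution_mul_self hs') hss'
  have he1 : e = 1 := by
    by_contra he1
    refine hmove e (he.resolve_left he1) ?_
    have he2 : e * e = 1 ∧ Commute t e := by
      rcases he with rfl | rfl | rfl | rfl
      · exact absurd rfl he1
      · exact ⟨Psl.involution_mul_self hs2, hst.symm⟩
      · exact ⟨Psl.involution_mul_self hs', hs't.symm⟩
      · exact ⟨by rw [hss'.symm.mul_mul_mul_comm, Psl.involution_mul_self hs2,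
          Psl.involution_mul_self hs', one_mul], hst.symm.mul_right hs't.symm⟩
    have heq : t * e * f * (t * e)⁻¹ * f⁻¹ = e * (f * e * f⁻¹) := by
      calc t * e * f * (t * e)⁻¹ * f⁻¹ = t * (e * f * e⁻¹) * t⁻¹ * f⁻¹ := by group
        _ = (t * e * t⁻¹) * (t * f * t⁻¹) * (t * e * t⁻¹)⁻¹ * f⁻¹ := by group
        _ = e * f * e⁻¹ * f⁻¹ := by rw [he2.2.eq, mul_inv_cancel_right, htf]
        _ = e * (f * e * f⁻¹) := by rw [inv_eq_of_mul_eq_one_right he2.1]; group
    have hk := htwist f hfy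
    rw [heq] at hk
    obtain ⟨-, -, -, hko, -⟩ := P₀.commute_zpow hk
    have hfe : f * e * f⁻¹ = 1 ∨ f * e * f⁻¹ = s ∨ f * e * f⁻¹ = s' ∨ f * e * f⁻¹ = s * s' := by
      rcases he with rfl | rfl | rfl | rfl
      · exact absurd rfl he1
      · exact Or.inr (Or.inr (Or.inl e1))
      · exact Or.inr (Or.inr (Or.inr e2))
      · refine Or.inr (Or.inl ?_)
        rw [show f * (s * s') * f⁻¹ = f * s * f⁻¹ * (f * s' * f⁻¹) by group, e1, e2, ← mul_assoc,
          hss'.symm.eq, mul_assoc, Psl.involution_mul_self hs', mul_one]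
    have hcc : Commute e (f * e * f⁻¹) ∧ (f * e * f⁻¹) * (f * e * f⁻¹) = 1 := by
      refine ⟨?_, by rw [show f * e * f⁻¹ * (f * e * f⁻¹) = f * (e * e) * f⁻¹ by group, he2.1]; group⟩
      have hce : ∀ x, (x = 1 ∨ x = s ∨ x = s' ∨ x = s * s') → Commute x s ∧ Commute x s' := by
        rintro x (rfl | rfl | rfl | rfl)
        · exact ⟨Commute.one_left _, Commute.one_left _⟩
        · exact ⟨Commute.refl _, hss'⟩
        · exact ⟨hss'.symm, Commute.refl _⟩
        · exact ⟨(Commute.refl s).mul_left hss'.symm, hss'.mul_left (Commute.refl s')⟩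
      rcases hfe with h | h | h | h <;> rw [h]
      · exact Commute.one_right e
      · exact (hce e he).1
      · exact (hce e he).2
      · exact (hce e he).1.mul_right (hce e he).2
    have h1 := eq_one_of_odd hko (by rw [hcc.1.symm.mul_mul_mul_comm, he2.1, hcc.2, one_mul])
    have h2 : f * e * f⁻¹ = e :=
      (eq_inv_of_mul_eq_one_right h1).trans (inv_eq_of_mul_eq_one_right he2.1)
    exact mul_inv_eq_iff_eq_mul.1 h2
  subst he1
  rw [mul_one] at htwist
  have hc₀ : t * c₀ * t⁻¹ = c₀⁻¹ := htinv c₀ (mem_zpowers c₀)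
  have hfC₀ : f ∈ centralizer ({y} : Set G) := mem_centralizer_singleton_iff.2 hfy.eq
  have hf_out : f ∉ zpowers c₀ := fun h => hmove s (Or.inl rfl) (P₀.commute_zpow h).1
  have hf_img : orderOf (M₀.φ ⟨f, hfC₀⟩) = 3 := orderOf_eq_prime
    (by rw [← map_pow, show (⟨f, hfC₀⟩ : centralizer ({y} : Set G)) ^ 3 = 1 from Subtype.ext hf3, map_one])
    (fun e => hf_out ((M₀.ker f hfC₀).1 e))
  -- the second torus has order three
  have hc1f : zpowers c₁ = zpowers f := by
    refine le_antisymm (zpowers_le.2 ?_) (zpowers_le.2 hfA)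
    obtain ⟨k, hk⟩ := mem_zpowers_iff.1 hfA
    have hc₁f : Commute c₁ f := hk ▸ (Commute.refl c₁).zpow_right k
    have hc₁y : Commute c₁ y := (M₁.central y hfy.symm).symm
    obtain ⟨i, hi⟩ := M₀.commute_three hfC₀ hf_img hc₁y hc₁f
    have hcom : Commute (c₁ * f ^ i) t := P₁.cv.mul_left (hft.zpow_left i)
    have h1 := htinv _ hi
    rw [hcom.symm.eq, mul_inv_cancel_right] at h1
    have h2 := eq_one_of_odd (P₀.commute_zpow hi).2.2.2.1 (eq_inv_iff_mul_eq_one.1 h1)
    rw [eq_inv_of_mul_eq_one_left h2]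
    exact inv_mem (zpow_mem_zpowers f i)
  have ha : coTorus K.q = 3 := by rw [← P₁.ord_c, ← Nat.card_zpowers, hc1f, Nat.card_zpowers, hf]
  have hc0y : zpowers c₀ = zpowers y :=
    (zpowers_eq_of_prime Nat.prime_three (P₀.ord_c.trans ha) hyA hy1).symm
  -- the inverting involution
  obtain ⟨u, hu2, hu, -⟩ := M₀.sixty.three_spec hf_img
  obtain ⟨r, hr, hrt, hru⟩ := M₀.exists_lift hc₀ P₀.odd_c (fun g hg => htwist g hg) u
  have hry : Commute r y := mem_centralizer_singleton_iff.1 hr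
  have hr2 : r * r = 1 := M₀.lift_one hc₀ P₀.odd_c (mul_mem hr hr) (hrt.mul_left hrt) (by
    rw [show (⟨r * r, mul_mem hr hr⟩ : centralizer ({y} : Set G)) = ⟨r, hr⟩ * ⟨r, hr⟩ from rfl, map_mul,
      hru, Psl.involution_mul_self hu2])
  have hrf : r * f * r⁻¹ = f⁻¹ := by
    refine eq_inv_of_mul_eq_one_left ?_
    refine M₀.lift_one hc₀ P₀.odd_c (mul_mem (mul_mem (mul_mem hr hfC₀) (inv_mem hr)) hfC₀)
      (((hrt.mul_left hft).mul_left hrt.inv_left).mul_left hft) ?_
    rw [show (⟨r * f * r⁻¹ * f, mul_mem (mul_mem (mul_mem hr hfC₀) (inv_mem hr)) hfC₀⟩ :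
      centralizer ({y} : Set G)) = ⟨r, hr⟩ * ⟨f, hfC₀⟩ * ⟨r, hr⟩⁻¹ * ⟨f, hfC₀⟩ from rfl, map_mul, map_mul,
      map_mul, map_inv, hru, hu, inv_mul_cancel]
  -- the images of the elementary group of order nine
  have hnorm_aux : ∀ (g : G) (hgy : Commute g y), (∃ i j : ℤ, g * f * g⁻¹ = f ^ i * y ^ j) →
      M₀.φ ⟨g, mem_centralizer_singleton_iff.2 hgy.eq⟩ * M₀.φ ⟨f, hfC₀⟩ *
        (M₀.φ ⟨g, mem_centralizer_singleton_iff.2 hgy.eq⟩)⁻¹ ∈ zpowers (M₀.φ ⟨f, hfC₀⟩) := by
    intro g hgy ⟨i, j, hij⟩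
    have hyC : y ∈ centralizer ({y} : Set G) := mem_centralizer_singleton_iff.2 rfl
    refine mem_zpowers_iff.2 ⟨i, ?_⟩
    rw [← map_inv, ← map_mul, ← map_mul, ← map_zpow,
      show (⟨g, _⟩ : centralizer ({y} : Set G)) * ⟨f, hfC₀⟩ * ⟨g, mem_centralizer_singleton_iff.2 hgy.eq⟩⁻¹ =
        ⟨f, hfC₀⟩ ^ i * ⟨y, hyC⟩ ^ j from Subtype.ext (by simpa using hij), map_mul, map_zpow M₀.φ ⟨y, hyC⟩,
      (M₀.ker y hyC).2 hyA, one_zpow, mul_one]
  have hcomm_of_img : ∀ (g : G) (hgy : Commute g y),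
      M₀.φ ⟨g, mem_centralizer_singleton_iff.2 hgy.eq⟩ ∈ zpowers (M₀.φ ⟨f, hfC₀⟩) → Commute g f := by
    intro g hgy hg
    obtain ⟨i, hi⟩ := mem_zpowers_iff.1 hg
    have hmem : g * f ^ (-i) ∈ zpowers c₀ := by
      refine (M₀.ker _ (mul_mem (mem_centralizer_singleton_iff.2 hgy.eq) (zpow_mem hfC₀ (-i)))).1 ?_
      rw [show (⟨g * f ^ (-i), _⟩ : centralizer ({y} : Set G)) =
        ⟨g, mem_centralizer_singleton_iff.2 hgy.eq⟩ * ⟨f, hfC₀⟩ ^ (-i) from Subtype.ext (by simp), map_mul,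
        map_zpow, ← hi, _root_.zpow_neg, mul_inv_cancel]
    rw [hc0y] at hmem
    obtain ⟨j, hj⟩ := mem_zpowers_iff.1 hmem
    rw [show g = y ^ j * f ^ i by rw [hj]; group]
    exact (hfy.symm.zpow_left j).mul_left ((Commute.refl f).zpow_left i)
  refine ⟨{ t := t, f := f, y := y, r := r, t_two := ht2, f_three := hf, y_three := hy, r_two := hr2,
            t_f := htf, t_y := hty, r_f := hrf, r_y := by rw [hry.eq, mul_inv_cancel_right],
            f_y := hfy, comm2 := fun Q hQ a ha b hb => K.commute_of_pGroup hQ ha hb,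
            cent := ?_, norm_f := ?_, norm_y := ?_, norm_y' := ?_, conj := ⟨g, hg⟩ }⟩
  · intro x hxf hxy
    obtain ⟨i, hi⟩ := M₁.commute_three hyC₁ hy_img hxf hxy
    rw [hc1f] at hi
    obtain ⟨j, hj⟩ := mem_zpowers_iff.1 hi
    exact ⟨j, -i, by rw [hj]; group⟩
  · intro x hxf ⟨i, j, hij⟩ hxo
    have hfC : f ∈ centralizer ({f} : Set G) := mem_centralizer_singleton_iff.2 rfl
    have hxC : x ∈ centralizer ({f} : Set G) := mem_centralizer_singleton_iff.2 hxf.eq
    have himg : M₁.φ ⟨x, hxC⟩ * M₁.φ ⟨y, hyC₁⟩ * (M₁.φ ⟨x, hxC⟩)⁻¹ ∈ zpowers (M₁.φ ⟨y, hyC₁⟩) := by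
      refine mem_zpowers_iff.2 ⟨j, ?_⟩
      rw [← map_inv, ← map_mul, ← map_mul, ← map_zpow,
        show (⟨x, hxC⟩ : centralizer ({f} : Set G)) * ⟨y, hyC₁⟩ * ⟨x, hxC⟩⁻¹ =
          ⟨f, hfC⟩ ^ i * ⟨y, hyC₁⟩ ^ j from Subtype.ext (by simpa using hij), map_mul,
        map_zpow M₁.φ ⟨f, hfC⟩, (M₁.ker f hfC).2 hfA, one_zpow, one_mul]
    obtain ⟨v, hv2, hv, hvC⟩ := M₁.sixty.three_spec hy_img
    rcases M₁.sixty.normalizer_three hy_img hv himg with h | h
    · obtain ⟨m, hm⟩ := mem_zpowers_iff.1 h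
      have hmem : x * y ^ (-m) ∈ zpowers c₁ := by
        refine (M₁.ker _ (mul_mem hxC (zpow_mem hyC₁ (-m)))).1 ?_
        rw [show (⟨x * y ^ (-m), _⟩ : centralizer ({f} : Set G)) = ⟨x, hxC⟩ * ⟨y, hyC₁⟩ ^ (-m)
          from Subtype.ext (by simp), map_mul, map_zpow, ← hm, _root_.zpow_neg, mul_inv_cancel]
      rw [hc1f] at hmem
      obtain ⟨l, hl⟩ := mem_zpowers_iff.1 hmem
      rw [show x = f ^ l * y ^ m by rw [hl]; group]
      exact (hfy.zpow_left l).mul_left ((Commute.refl y).zpow_left m)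
    · exfalso
      -- an element of odd order cannot induce the inversion
      obtain ⟨m, hm⟩ := mem_zpowers_iff.1 h
      have hox : Odd (orderOf (M₁.φ ⟨x, hxC⟩)) := hxo.of_dvd_nat
        ((orderOf_map_dvd _ _).trans (by rw [orderOf_mk]))
      have e1' : M₁.φ ⟨x, hxC⟩ = M₁.φ ⟨y, hyC₁⟩ ^ m * v⁻¹ := by rw [hm, mul_inv_cancel_right]
      have hc2 : Commute (M₁.φ ⟨x, hxC⟩) (M₁.φ ⟨y, hyC₁⟩) := by
        refine commute_of_sq hox ?_
        have hvm : v⁻¹ * M₁.φ ⟨y, hyC₁⟩ ^ m = (M₁.φ ⟨y, hyC₁⟩ ^ m)⁻¹ * v⁻¹ := by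
          rw [inv_eq_of_mul_eq_one_right (Psl.involution_mul_self hv2), ← _root_.inv_zpow, ← hv,
            conj_zpow, inv_mul_cancel_right]
        rw [e1', show M₁.φ ⟨y, hyC₁⟩ ^ m * v⁻¹ * (M₁.φ ⟨y, hyC₁⟩ ^ m * v⁻¹) =
          M₁.φ ⟨y, hyC₁⟩ ^ m * (v⁻¹ * M₁.φ ⟨y, hyC₁⟩ ^ m) * v⁻¹ by group, hvm,
          inv_eq_of_mul_eq_one_right (Psl.involution_mul_self hv2)]
        rw [← mul_assoc, mul_inv_cancel, one_mul, Psl.involution_mul_self hv2]
        exact Commute.one_left _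
      have hvmem : v ∈ zpowers (M₁.φ ⟨y, hyC₁⟩) := by
        have h1 := mul_mem (inv_mem (hvC _ hc2)) h
        rwa [inv_mul_cancel_left] at h1
      have h1 := Subgroup.orderOf_dvd_natCard _ hvmem
      rw [Nat.card_zpowers, hv2, hy_img] at h1
      norm_num at h1
  · intro x hxy hx hxo
    rcases M₀.sixty.normalizer_three hf_img hu (hnorm_aux x hxy hx) with h | h
    · exact hcomm_of_img x hxy h
    · -- an element of odd order cannot induce the inversion
      have hinv : M₀.φ ⟨x, mem_centralizer_singleton_iff.2 hxy.eq⟩ * M₀.φ ⟨f, hfC₀⟩ *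
          (M₀.φ ⟨x, mem_centralizer_singleton_iff.2 hxy.eq⟩)⁻¹ = (M₀.φ ⟨f, hfC₀⟩)⁻¹ := by
        obtain ⟨m, hm⟩ := mem_zpowers_iff.1 h
        rw [show M₀.φ ⟨x, mem_centralizer_singleton_iff.2 hxy.eq⟩ = M₀.φ ⟨f, hfC₀⟩ ^ m * u⁻¹ by
          rw [hm, mul_inv_cancel_right], inv_eq_of_mul_eq_one_right (Psl.involution_mul_self hu2),
          _root_.mul_inv_rev, inv_eq_of_mul_eq_one_right (Psl.involution_mul_self hu2)]
        calc M₀.φ ⟨f, hfC₀⟩ ^ m * u * M₀.φ ⟨f, hfC₀⟩ * (u * (M₀.φ ⟨f, hfC₀⟩ ^ m)⁻¹)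
            = M₀.φ ⟨f, hfC₀⟩ ^ m * (u * M₀.φ ⟨f, hfC₀⟩ * u) * (M₀.φ ⟨f, hfC₀⟩ ^ m)⁻¹ := by group
          _ = _ := by
            have hu' : u * M₀.φ ⟨f, hfC₀⟩ * u = (M₀.φ ⟨f, hfC₀⟩)⁻¹ := by
              conv_lhs => arg 2; rw [← inv_eq_of_mul_eq_one_right (Psl.involution_mul_self hu2)]
              exact hu
            rw [hu', ((Commute.refl _).zpow_left m).inv_right.eq, mul_inv_cancel_right]
      have hox : Odd (orderOf (M₀.φ ⟨x, mem_centralizer_singleton_iff.2 hxy.eq⟩)) := hxo.of_dvd_nat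
        ((orderOf_map_dvd _ _).trans (by rw [orderOf_mk]))
      have hcm := commute_of_sq hox (mul_inv_eq_iff_eq_mul.1 (show
          M₀.φ ⟨x, mem_centralizer_singleton_iff.2 hxy.eq⟩ * M₀.φ ⟨x, mem_centralizer_singleton_iff.2 hxy.eq⟩ *
            M₀.φ ⟨f, hfC₀⟩ * (M₀.φ ⟨x, mem_centralizer_singleton_iff.2 hxy.eq⟩ *
              M₀.φ ⟨x, mem_centralizer_singleton_iff.2 hxy.eq⟩)⁻¹ = M₀.φ ⟨f, hfC₀⟩ by
          rw [_root_.mul_inv_rev, ← mul_assoc, show ∀ a b : M₀.D, a * a * b * a⁻¹ * a⁻¹ =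
            a * (a * b * a⁻¹) * a⁻¹ from fun a b => by group, hinv, ← conj_inv, hinv, inv_inv]))
      obtain ⟨-, -, -, hC⟩ := M₀.sixty.three_spec hf_img
      exact hcomm_of_img x hxy (hC _ hcm)
  · intro x hxy hx
    rcases M₀.sixty.normalizer_three hf_img hu (hnorm_aux x hxy hx) with h | h
    · exact Or.inl (hcomm_of_img x hxy h)
    · refine Or.inr (hcomm_of_img (x * r) (hxy.mul_left hry) ?_)
      rw [show (⟨x * r, _⟩ : centralizer ({y} : Set G)) =
        ⟨x, mem_centralizer_singleton_iff.2 hxy.eq⟩ * ⟨r, hr⟩ from rfl, map_mul, hru]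
      exact h

/-- The second torus has order prime to three. -/
theorem threeFree : K.ThreeFree := fun h3 => by
  obtain ⟨M⟩ := K.exists_threeConf h3
  exact M.false

end CfsgLib.ReeOrder.Conf
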