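import Cfsg.Agent.Lib.ReeOrder.Defs
import Cfsg.Agent.Lib.ReeType.Basics
import Cfsg.Agent.Lib.SL2Char.OrderP
import Cfsg.Agent.Lib.CoprimeCentral.Basic
import Cfsg.Agent.Lib.NaturalGL.Count

/-!
The characteristic, case `q ≡ 3 (mod 8)`: either a Sylow `p`-subgroup of the centralizer of the involution
is one of the group, or `q` divides the number of involutions.
-/

set_option autoImplicit false
set_option linter.unusedSectionVars false

namespace CfsgLib.ReeOrder.Char96

open Matrix Cfsg
open CfsgLib.SL2Tori CfsgLib.SL2Char CfsgLib.ReeType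

variable {F : Type} [Field F] [Fintype F] [DecidableEq F]

local notation "SL2" => Matrix.SpecialLinearGroup (Fin 2) F
local notation "M2" => Matrix (Fin 2) (Fin 2) F
local notation "PSL2" => Matrix.ProjectiveSpecialLinearGroup (Fin 2) F

/-- The translations. -/
def trans : Multiplicative F →* PSL2 :=
  MonoidHom.mk' (fun b => prj (bEl (1 : Fˣ) (Multiplicative.toAdd b) : SL2)) fun a b => by
    rw [← map_mul, bEl_one_mul, toAdd_mul]

/-- An element of the diagonal. -/
def diag (a : Fˣ) : PSL2 := prj (bEl a 0 : SL2)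

theorem bEl_zero_mul (a a' : Fˣ) : (bEl a 0 : SL2) * (bEl a' 0 : SL2) = (bEl (a * a') 0 : SL2) := by
  refine Subtype.ext ?_
  rw [Matrix.SpecialLinearGroup.coe_mul, bEl_coe, bEl_coe, bEl_coe]
  ext i j
  fin_cases i <;> fin_cases j <;> simp [mul_comm]

/-- The diagonal as a homomorphism. -/
def diagHom : Fˣ →* PSL2 :=
  MonoidHom.mk' diag fun a b => by rw [diag, diag, diag, ← map_mul, bEl_zero_mul]

theorem diag_eq_one {a : Fˣ} (h : diag (F := F) a = 1) : a = 1 ∨ a = -1 := by
  rcases prj_eq_one.1 h with e | e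
  · left
    have := congrArg (fun g : SL2 => (g : M2) 0 0) e
    simp at this
    exact this
  · right
    have := congrArg (fun g : SL2 => (g : M2) 0 0) e
    simp at this
    exact Units.ext (by simpa using this)

theorem diag_conj (a : Fˣ) (b : Multiplicative F) :
    diag a * trans b * (diag a)⁻¹ ∈ (trans : Multiplicative F →* PSL2).range := by
  refine ⟨Multiplicative.ofAdd ((a : F) * a * Multiplicative.toAdd b), ?_⟩
  show prj (bEl (1 : Fˣ) ((a : F) * a * Multiplicative.toAdd b) : SL2) =
    prj (bEl a 0 : SL2) * prj (bEl (1 : Fˣ) (Multiplicative.toAdd b) : SL2) * (prj (bEl a 0 : SL2))⁻¹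
  rw [eq_mul_inv_iff_mul_eq, ← map_mul, ← map_mul]
  congr 1
  refine Subtype.ext ?_
  rw [Matrix.SpecialLinearGroup.coe_mul, Matrix.SpecialLinearGroup.coe_mul, bEl_coe, bEl_coe, bEl_coe]
  ext i j
  fin_cases i <;> fin_cases j <;> simp
  field_simp

theorem trans_injective (h2 : (2 : F) ≠ 0) : Function.Injective (trans : Multiplicative F →* PSL2) := by
  rw [← MonoidHom.ker_eq_bot_iff, Subgroup.eq_bot_iff_forall]
  intro b hb
  rcases prj_eq_one.1 (MonoidHom.mem_ker.1 hb) with e | e
  · have := congrArg (fun g : SL2 => (g : M2) 0 1) e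
    simp at this
    exact this
  · have := congrArg (fun g : SL2 => (g : M2) 0 0) e
    simp at this
    exact absurd (by linear_combination this) h2

theorem cent_trans (h2 : (2 : F) ≠ 0) {g : PSL2} (hg : Commute g (trans (Multiplicative.ofAdd 1))) :
    g ∈ (trans : Multiplicative F →* PSL2).range := by
  obtain ⟨a, rfl⟩ := prj_surjective g
  set u : SL2 := (bEl (1 : Fˣ) (1 : F) : SL2) with hu
  have hg' : Commute (prj a) (prj u) := hg
  have h : prj (a * u * a⁻¹ * u⁻¹) = 1 := by
    rw [map_mul, map_mul, map_mul, map_inv, map_inv, hg'.eq]; group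
  have hc : a * u = u * a := by
    rcases prj_eq_one.1 h with e | e
    · exact mul_inv_eq_one.1 (by rw [← e]; group)
    · exfalso
      have e1 : a * u * a⁻¹ = -1 * u := mul_inv_eq_iff_eq_mul.1 e
      have e2 := congrArg (fun g : SL2 => (g : M2).trace) e1
      simp only [Matrix.SpecialLinearGroup.coe_mul] at e2
      rw [Matrix.trace_mul_comm, ← Matrix.mul_assoc, ← Matrix.SpecialLinearGroup.coe_mul,
        inv_mul_cancel, Matrix.SpecialLinearGroup.coe_one, Matrix.one_mul, neg_one_coe, Matrix.neg_mul,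
        Matrix.one_mul, Matrix.trace_neg, hu, bEl_trace] at e2
      refine h2 (mul_self_eq_zero.1 ?_)
      push_cast at e2
      rw [inv_one] at e2
      linear_combination e2
  have hM := congrArg (fun g : SL2 => (g : M2)) hc
  simp only [Matrix.SpecialLinearGroup.coe_mul, hu, bEl_coe] at hM
  have e00 := congrFun (congrFun hM 0) 0
  have e01 := congrFun (congrFun hM 0) 1
  simp [Matrix.mul_apply, Fin.sum_univ_two] at e00 e01
  have hc0 : (a : M2) 1 0 = 0 := e00
  have had : (a : M2) 0 0 = (a : M2) 1 1 := by linear_combination e01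
  have hdet := a.2
  rw [Matrix.det_fin_two, hc0, mul_zero, sub_zero, ← had, ← pow_two, sq_eq_one_iff] at hdet
  rcases hdet with e | e
  · refine ⟨Multiplicative.ofAdd ((a : M2) 0 1), congrArg prj (Subtype.ext ?_)⟩
    ext i j
    fin_cases i <;> fin_cases j <;> simp [bEl_coe, hc0, e, ← had]
  · refine ⟨Multiplicative.ofAdd (-(a : M2) 0 1), ?_⟩
    show prj (bEl (1 : Fˣ) (-(a : M2) 0 1) : SL2) = prj a
    rw [← prj_neg (bEl (1 : Fˣ) _ : SL2)]
    refine congrArg prj (Subtype.ext ?_)
    rw [Matrix.SpecialLinearGroup.coe_mul, neg_one_coe, Matrix.neg_mul, Matrix.one_mul, bEl_coe]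
    ext i j
    fin_cases i <;> fin_cases j <;> simp [hc0, e, ← had]

/-- A generator of the image of the diagonal. -/
theorem exists_diag_order (h2 : (2 : F) ≠ 0) :
    ∃ a : Fˣ, orderOf (diag (F := F) a) = (Fintype.card F - 1) / 2 := by
  obtain ⟨z, hz⟩ := IsCyclic.exists_generator (α := Fˣ)
  have hzo : orderOf z = Fintype.card F - 1 := by
    rw [orderOf_eq_card_of_forall_mem_zpowers hz, Nat.card_units, Nat.card_eq_fintype_card]
  obtain ⟨b, hb⟩ : ∃ b, Fintype.card F - 1 = 2 * b := by
    have hc : ringChar F ≠ 2 := fun e => h2 (by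
      have := ringChar.Nat.cast_ringChar (R := F)
      rwa [e] at this)
    have := FiniteField.odd_card_of_char_ne_two hc
    exact ⟨Fintype.card F / 2, by omega⟩
  have hb0 : 0 < b := by have := Fintype.one_lt_card (α := F); omega
  refine ⟨z, (orderOf_eq_iff (by omega)).2 ⟨?_, fun k hk hk0 e => ?_⟩⟩
  · rw [hb, Nat.mul_div_cancel_left _ two_pos, show diag (F := F) z ^ b = diag (z ^ b) from (map_pow diagHom z b).symm]
    have hs : (z ^ b) ^ 2 = 1 := by rw [← pow_mul, mul_comm, ← hb, ← hzo, pow_orderOf_eq_one]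
    have : ((z ^ b : Fˣ) : F) = 1 ∨ ((z ^ b : Fˣ) : F) = -1 := sq_eq_one_iff.1 (by
      rw [← Units.val_pow_eq_pow_val, hs, Units.val_one])
    refine prj_eq_one.2 (this.imp (fun e => ?_) fun e => ?_)
    · rw [Units.ext (e.trans Units.val_one.symm)]
      refine Subtype.ext ?_
      rw [bEl_coe]
      simp [Matrix.one_fin_two]
    · rw [show z ^ b = -1 from Units.ext (by rw [e]; simp)]
      refine Subtype.ext ?_
      rw [bEl_coe, neg_one_coe]
      ext i j
      fin_cases i <;> fin_cases j <;> simp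
  · rw [show diag (F := F) z ^ k = diag (z ^ k) from (map_pow diagHom z k).symm] at e
    have hs : z ^ (k * 2) = 1 := by
      rw [pow_mul]
      rcases diag_eq_one e with h | h <;> rw [h] <;> simp
    have := orderOf_le_of_pow_eq_one (by omega) hs
    omega

end Char96

namespace Conf

open Matrix Cfsg
open CfsgLib.ReeType

universe u

variable {G : Type u} [Group G] [Fintype G]
variable {F : Type} [Field F] [Fintype F] [DecidableEq F]
variable {t : G} (K : Conf t F)

theorem characteristicData (hT : K.TorusCentralizers) : K.CharacteristicData := by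
  classical
  intro p n hp hqn hq8
  have hq : Fintype.card F = p ^ n := hqn
  have hq8' : Fintype.card F % 8 = 3 := hq8
  have hge := K.q_ge
  have : Fact p.Prime := ⟨hp⟩
  have : Fact (Nat.Prime 2) := ⟨Nat.prime_two⟩
  have hn0 : n ≠ 0 := fun e => by rw [hq, e, pow_zero] at hge; omega
  have hp2 : p ≠ 2 := fun e => by
    obtain ⟨m, rfl⟩ := Nat.exists_eq_succ_of_ne_zero hn0
    rw [hq, e, pow_succ'] at hq8'
    omega
  have h2 : (2 : F) ≠ 0 := by
    have hF := FiniteField.odd_card_of_char_ne_two (F := F)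
    intro e
    have h : ringChar F = 2 := by
      by_contra hne
      exact (Ring.two_ne_zero hne) e
    have := FiniteField.even_card_of_char_two h
    omega
  set E := K.cent
  set q := Fintype.card F with hqdef
  set Ct := Subgroup.centralizer ({t} : Set G) with hCt
  have hCtcard : Nat.card Ct = q * ((q - 1) * (q + 1)) := E.card_cent_eq h2
  have hpq : p ∣ q := hq ▸ dvd_pow_self p hn0
  have hcop : ∀ d, d ∣ q - 1 ∨ d ∣ q + 1 → ¬ p ∣ d := by
    intro d hd hpd
    rcases hd with hd | hd
    · have := Nat.dvd_sub hpq (hpd.trans hd)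
      rw [Nat.sub_sub_self (by omega)] at this
      exact hp.one_lt.ne' (Nat.dvd_one.1 this)
    · have := Nat.dvd_sub (hpd.trans hd) hpq
      rw [Nat.add_sub_cancel_left] at this
      exact hp.one_lt.ne' (Nat.dvd_one.1 this)
  have hpm : ¬ p ∣ (q - 1) * (q + 1) := fun h =>
    (hp.dvd_mul.1 h).elim (hcop _ (Or.inl dvd_rfl)) (hcop _ (Or.inr dvd_rfl))
  -- the translations
  let ι : Multiplicative F →* G := E.up.comp Char96.trans
  have hιinj : Function.Injective ι := E.up_injective.comp (Char96.trans_injective h2)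
  set U := ι.range with hU
  have hUcard : Nat.card U = p ^ n := by
    rw [← Nat.card_congr (MonoidHom.ofInjective hιinj).toEquiv, ← hq, hqdef, ← Nat.card_eq_fintype_card]
    exact Nat.card_congr Multiplicative.toAdd
  have hUp : IsPGroup p U := IsPGroup.of_card hUcard
  have hUt : U ≤ Ct := by rintro _ ⟨b, rfl⟩; exact E.up_mem _
  set C := Subgroup.centralizer (U : Set G) with hC
  have hUC : U ≤ C := by
    rintro _ ⟨b, rfl⟩
    rw [hC, Subgroup.mem_centralizer_iff]
    rintro _ ⟨c, rfl⟩
    rw [← map_mul, ← map_mul, mul_comm]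
  have htC : t ∈ C := by
    rw [hC, Subgroup.mem_centralizer_iff]
    rintro _ ⟨c, rfl⟩
    exact (E.up_commute _).eq
  have ht2 : orderOf t = 2 := E.orderOf_s
  have hCt' : ∀ x, x ∈ C → Commute x t → x ∈ U ∨ ∃ u ∈ U, x = t * u := by
    intro x hx hxt
    set z : Ct := ⟨x, Subgroup.mem_centralizer_singleton_iff.2 hxt.eq⟩
    have hz : Commute (E.kappa z) (Char96.trans (Multiplicative.ofAdd 1)) := by
      have hcom : Commute z ⟨ι (Multiplicative.ofAdd 1), E.up_mem _⟩ :=
        Subtype.ext ((Subgroup.mem_centralizer_iff.1 hx _ ⟨_, rfl⟩).symm)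
      have := hcom.map E.kappa
      rwa [show E.kappa ⟨ι (Multiplicative.ofAdd 1), E.up_mem _⟩ = _ from E.kappa_up _] at this
    obtain ⟨c, hc⟩ := Char96.cent_trans h2 hz
    rcases E.elt_cases z with e | e
    · exact Or.inl ⟨c, by show E.up (Char96.trans c) = x; rw [hc]; exact e.symm⟩
    · exact Or.inr ⟨ι c, ⟨c, rfl⟩, by show x = t * E.up (Char96.trans c); rw [hc]; exact e⟩
  have hodd_U : ∀ u ∈ U, Odd (orderOf u) := by
    intro u hu
    obtain ⟨j, hj⟩ := IsPGroup.iff_orderOf.1 hUp ⟨u, hu⟩
    rw [Subgroup.orderOf_mk] at hj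
    rw [hj]
    exact (hp.odd_of_ne_two hp2).pow
  -- the Sylow two-subgroup of `C`
  have hTcard : Nat.card (Subgroup.zpowers (⟨t, htC⟩ : C)) = 2 := by
    rw [Nat.card_zpowers, Subgroup.orderOf_mk, ht2]
  obtain ⟨T, hTle⟩ := (IsPGroup.of_card (n := 1) (hTcard.trans (pow_one 2).symm)).exists_le_sylow
  have hTeq : (T : Subgroup C) = Subgroup.zpowers (⟨t, htC⟩ : C) := by
    refine le_antisymm ?_ hTle
    have : Group.IsNilpotent (T : Subgroup C) := T.isPGroup'.isNilpotent
    by_contra hle
    have hlt : (Subgroup.zpowers (⟨t, htC⟩ : C)).subgroupOf (T : Subgroup C) < ⊤ :=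
      lt_top_iff_ne_top.2 fun e => hle (Subgroup.subgroupOf_eq_top.1 e)
    refine (Group.normalizerCondition_of_isNilpotent (G := (T : Subgroup C)) _ hlt).2 fun x hx => ?_
    rw [Subgroup.mem_normalizer_iff] at hx
    have h1 : (x : C) * ⟨t, htC⟩ * (x : C)⁻¹ ∈ Subgroup.zpowers (⟨t, htC⟩ : C) :=
      (hx ⟨⟨t, htC⟩, hTle (Subgroup.mem_zpowers _)⟩).1 (Subgroup.mem_subgroupOf.2 (Subgroup.mem_zpowers _))
    have ht2' : orderOf (⟨t, htC⟩ : C) = 2 := by rw [Subgroup.orderOf_mk, ht2]
    have hcx : Commute (x : C) ⟨t, htC⟩ := by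
      rcases CfsgLib.InvChar.KleinCentralizer.cases_of_mem_zpowers ht2' h1 with e | e
      · exact absurd (conj_eq_one_iff.1 e) (CfsgLib.Involutions.ne_one_of_involution ht2')
      · exact mul_inv_eq_iff_eq_mul.1 e
    rw [Subgroup.mem_subgroupOf]
    obtain ⟨j, hj⟩ := IsPGroup.iff_orderOf.1 T.isPGroup' x
    rw [← Subgroup.orderOf_coe, ← Subgroup.orderOf_coe] at hj
    have two_zero : ∀ u ∈ U, orderOf u ∣ 2 ^ j → u = 1 := by
      intro u hu hd
      have h3 := hodd_U u hu
      obtain ⟨i, -, hi⟩ := (Nat.dvd_prime_pow Nat.prime_two).1 hd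
      rcases i with _ | i
      · exact orderOf_eq_one_iff.1 hi
      · exfalso; rw [hi, pow_succ] at h3; exact Nat.not_even_iff_odd.2 h3 (even_two.mul_left _)
    rcases hCt' (x : C) (x : C).2 (congrArg Subtype.val hcx) with h | ⟨u, hu, he⟩
    · have : ((x : C) : G) = 1 := two_zero _ h (hj ▸ dvd_rfl)
      rw [show (x : C) = 1 from Subtype.ext this]
      exact Subgroup.one_mem _
    · have htu : Commute t u := ((Subgroup.mem_centralizer_singleton_iff.1 (hUt hu)) : Commute u t).symm
      have hu1 : u = 1 := by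
        refine two_zero u hu ?_
        have h0 : ((x : C) : G) ^ 2 ^ j = 1 := by rw [← hj, pow_orderOf_eq_one]
        rw [he, htu.mul_pow] at h0
        rcases j with _ | j
        · simp only [pow_zero, pow_one] at h0
          rw [pow_zero, Nat.dvd_one, orderOf_eq_one_iff]
          have hu' : u = t⁻¹ := eq_inv_of_mul_eq_one_right h0
          have h5 := hodd_U u hu
          rw [hu', orderOf_inv, ht2] at h5
          exact absurd h5 (by decide)
        · rw [orderOf_dvd_iff_pow_eq_one]
          rwa [show t ^ 2 ^ (j + 1) = 1 by rw [pow_succ', pow_mul, ← ht2, pow_orderOf_eq_one, one_pow],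
            one_mul] at h0
      rw [show (x : C) = ⟨t, htC⟩ from Subtype.ext (by rw [he, hu1, mul_one])]
      exact Subgroup.mem_zpowers _
  have hTn : Subgroup.normalizer ((T : Subgroup C) : Set C) ≤
      Subgroup.centralizer ((T : Subgroup C) : Set C) := by
    intro g hg
    rw [hTeq] at hg ⊢
    rw [Subgroup.mem_normalizer_iff] at hg
    have ht2' : orderOf (⟨t, htC⟩ : C) = 2 := by rw [Subgroup.orderOf_mk, ht2]
    have hgt : Commute g ⟨t, htC⟩ := by
      rcases CfsgLib.InvChar.KleinCentralizer.cases_of_mem_zpowers ht2'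
        ((hg ⟨t, htC⟩).1 (Subgroup.mem_zpowers _)) with e | e
      · exact absurd (conj_eq_one_iff.1 e) (CfsgLib.Involutions.ne_one_of_involution ht2')
      · exact mul_inv_eq_iff_eq_mul.1 e
    rw [Subgroup.mem_centralizer_iff]
    rintro _ ⟨i, rfl⟩
    exact (hgt.zpow_right i).eq.symm
  -- the odd part `O` of `C`
  set O₁ : Subgroup C := (MonoidHom.transferSylow T hTn).ker
  have hcompl := MonoidHom.ker_transferSylow_isComplement' T hTn
  set O : Subgroup G := O₁.map C.subtype with hO
  have hOC : O ≤ C := Subgroup.map_subtype_le _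
  have hOidx : O₁.index = 2 := by
    rw [hcompl.symm.index_eq_card, hTeq, hTcard]
  have hOodd : Odd (Nat.card O₁) := by
    rw [Nat.odd_iff, ← Nat.two_dvd_ne_zero]
    intro h
    have h4 : 2 ^ 2 ∣ Nat.card C := by
      rw [← O₁.card_mul_index, hOidx, pow_two]
      exact mul_dvd_mul_right h 2
    have := (T.card_eq_multiplicity).symm
    rw [hTeq, hTcard] at this
    have h5 := Nat.pow_right_injective (le_refl 2) (this.trans (pow_one 2).symm)
    have := (Nat.prime_two.pow_dvd_iff_le_factorization Nat.card_pos.ne').1 h4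
    omega
  have hOcard : Odd (Nat.card O) := by
    rw [hO, Subgroup.card_map_of_injective C.subtype_injective]; exact hOodd
  have hmemO : ∀ x, x ∈ O ↔ x ∈ C ∧ Odd (orderOf x) := by
    intro x
    constructor
    · intro hx
      refine ⟨hOC hx, hOcard.of_dvd_nat ?_⟩
      exact Subgroup.orderOf_dvd_natCard _ hx
    · rintro ⟨hx, hxo⟩
      refine ⟨⟨x, hx⟩, ?_, rfl⟩
      obtain ⟨m, hm⟩ := hxo
      have h1 : (⟨x, hx⟩ : C) = ((⟨x, hx⟩ : C) ^ (m + 1)) ^ 2 := by
        rw [← pow_mul, show (m + 1) * 2 = (2 * m + 1) + 1 by ring, pow_succ]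
        conv_lhs => rw [← one_mul (⟨x, hx⟩ : C)]
        congr 1
        refine Subtype.ext ?_
        rw [Subgroup.coe_pow, ← hm, pow_orderOf_eq_one]
        rfl
      rw [h1]
      exact Subgroup.sq_mem_of_index_two hOidx _
  have hUO : U ≤ O := fun u hu => (hmemO u).2 ⟨hUC hu, hodd_U u hu⟩
  have hnorm : ∀ g, g ∈ Subgroup.normalizer (U : Set G) → g ∈ Subgroup.normalizer (O : Set G) := by
    intro g hg x
    have hgC : ∀ y, y ∈ C → g * y * g⁻¹ ∈ C := by
      intro y hy
      rw [hC, Subgroup.mem_centralizer_iff] at hy ⊢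
      intro u hu
      have h := hy _ ((Subgroup.mem_normalizer_iff''.1 hg u).1 hu)
      calc u * (g * y * g⁻¹) = g * (g⁻¹ * u * g * y) * g⁻¹ := by group
        _ = g * (y * (g⁻¹ * u * g)) * g⁻¹ := by rw [h]
        _ = g * y * g⁻¹ * u := by group
    have hgC' : ∀ y, g * y * g⁻¹ ∈ C → y ∈ C := by
      intro y hy
      rw [hC, Subgroup.mem_centralizer_iff] at hy ⊢
      intro u hu
      have h := hy _ ((Subgroup.mem_normalizer_iff.1 hg u).1 hu)
      calc u * y = g⁻¹ * (g * u * g⁻¹ * (g * y * g⁻¹)) * g := by group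
        _ = g⁻¹ * ((g * y * g⁻¹) * (g * u * g⁻¹)) * g := by rw [h]
        _ = y * u := by group
    rw [SetLike.mem_coe, SetLike.mem_coe, hmemO, hmemO, ← MulAut.conj_apply, MulEquiv.orderOf_eq]
    exact ⟨fun h => ⟨hgC x h.1, h.2⟩, fun h => ⟨hgC' x h.1, h.2⟩⟩
  have htU : t ∈ Subgroup.normalizer (U : Set G) := Subgroup.centralizer_le_normalizer _ htC
  -- the invariant Sylow subgroup
  let ψ := Subgroup.normalizerMonoidHom O
  set α : MulAut O := ψ ⟨t, hnorm t htU⟩ with hα
  have hα2 : α ^ 2 = 1 := by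
    rw [hα, ← map_pow, show (⟨t, hnorm t htU⟩ : Subgroup.normalizer (O : Set G)) ^ 2 = 1 from
      Subtype.ext (by rw [Subgroup.coe_pow, ← ht2, pow_orderOf_eq_one]; rfl), map_one]
  have h2O : ¬ 2 ∣ Nat.card O := Nat.odd_iff.1 hOcard |> fun h => by omega
  have hn2 : ¬ 2 ∣ Nat.card (Sylow p O) := fun h => h2O ((h.trans
    (Sylow.card_dvd_index (default : Sylow p O))).trans (Subgroup.index_dvd_card _))
  obtain ⟨P, hP⟩ := CoprimeCentral.exists_fixed Nat.prime_two
    (MulAction.toPermHom (MulAut O) (Sylow p O) α) (by rw [← map_pow, hα2, map_one]) hn2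
  have huniq : ∀ Q : Sylow p O, α • Q = Q → Q = P := by
    intro Q hQ
    obtain ⟨g, hg, hgP⟩ := CoprimeCentral.exists_fixed_conj Nat.prime_two hα2 h2O P Q
      (congrArg Sylow.toSubgroup hP) (congrArg Sylow.toSubgroup hQ)
    have hgt : Commute (g : G) t := by
      have := congrArg Subtype.val hg
      exact (mul_inv_eq_iff_eq_mul.1 this).symm
    have hgU : (g : G) ∈ U := by
      rcases hCt' _ (hOC g.2) hgt with h | ⟨u, hu, he⟩
      · exact h
      · exfalso
        have htO : t ∈ O := by
          have := O.mul_mem g.2 (O.inv_mem (hUO hu))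
          rwa [he, mul_inv_cancel_right] at this
        have := ((hmemO t).1 htO).2
        rw [ht2] at this
        exact absurd this (by decide)
    rw [← hgP]
    refine Sylow.ext ?_
    show (P : Subgroup O).map (MulAut.conj g).toMonoidHom = P
    have hconj : (MulAut.conj g).toMonoidHom = MonoidHom.id O := by
      ext x
      show (g : G) * x * (g : G)⁻¹ = x
      have h := Subgroup.mem_centralizer_iff.1 (hOC x.2) _ hgU
      rw [h, mul_inv_cancel_right]
    rw [hconj, Subgroup.map_id]
  set W : Subgroup G := (P : Subgroup O).map O.subtype with hW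
  have hWO : W ≤ O := Subgroup.map_subtype_le _
  have hWp : IsPGroup p W := P.isPGroup'.map _
  have hUW : U ≤ W := by
    intro u hu
    refine ⟨⟨u, hUO hu⟩, ?_, rfl⟩
    obtain ⟨Q, hQ⟩ := ((hUp.comap_of_injective O.subtype O.subtype_injective)).exists_le_sylow
    obtain ⟨g, hg⟩ := MulAction.exists_smul_eq O Q P
    rw [← hg]
    show (⟨u, hUO hu⟩ : O) ∈ (Q : Subgroup O).map (MulAut.conj g).toMonoidHom
    refine ⟨⟨u, hUO hu⟩, hQ hu, Subtype.ext ?_⟩
    show (g : G) * u * (g : G)⁻¹ = u
    rw [← Subgroup.mem_centralizer_iff.1 (hOC g.2) u hu, mul_inv_cancel_right]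
  obtain ⟨w, hw⟩ := IsPGroup.iff_card.1 hWp
  have hnw : n ≤ w := by
    have := Subgroup.card_dvd_of_le hUW
    rw [hUcard, hw] at this
    exact (Nat.pow_dvd_pow_iff_le_right hp.one_lt).1 this
  -- the torus
  obtain ⟨a, ha⟩ := Char96.exists_diag_order h2
  set β := E.up (Char96.diag a) with hβ
  have hβord : orderOf β = (q - 1) / 2 := by rw [hβ, orderOf_injective _ E.up_injective, ha]
  have hβU : β ∈ Subgroup.normalizer (U : Set G) := by
    refine Subgroup.mem_normalizer_fintype ?_
    rintro _ ⟨c, rfl⟩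
    obtain ⟨d, hd⟩ := Char96.diag_conj a c
    exact ⟨d, by show E.up (Char96.trans d) = β * E.up (Char96.trans c) * β⁻¹; rw [hd, hβ, map_mul, map_mul, map_inv]⟩
  set γ : MulAut O := ψ ⟨β, hnorm β hβU⟩ with hγ
  have hγP : γ • P = P := by
    refine huniq _ ?_
    rw [← mul_smul, hα, hγ, ← map_mul, show (⟨t, hnorm t htU⟩ : Subgroup.normalizer (O : Set G)) * ⟨β, hnorm β hβU⟩ =
      ⟨β, hnorm β hβU⟩ * ⟨t, hnorm t htU⟩ from Subtype.ext (E.up_commute _).eq.symm, map_mul, mul_smul]
    exact congrArg _ hP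
  have hβW : β ∈ Subgroup.normalizer (W : Set G) := by
    refine Subgroup.mem_normalizer_fintype ?_
    rintro _ ⟨x, hx, rfl⟩
    have : γ x ∈ (P : Subgroup O) := by
      have e : (P : Subgroup O).map γ.toMonoidHom = P := congrArg Sylow.toSubgroup hγP
      rw [← e]
      exact ⟨x, hx, rfl⟩
    exact ⟨γ x, this, rfl⟩
  -- semiregularity
  have hbq : (q - 1) / 2 = oddTorus K.q := by
    have e : K.q = q := rfl
    rw [oddTorus, sq, e, if_pos hq8']
    omega
  have hdvd : (q - 1) / 2 ∣ p ^ w - 1 := by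
    let _ : MulAction (Subgroup.zpowers β) W :=
      MulAction.compHom W ((Subgroup.normalizerMonoidHom W).comp
        (Subgroup.inclusion (Subgroup.zpowers_le.2 hβW)))
    have hsm : ∀ (r : Subgroup.zpowers β) (x : W), ((r • x : W) : G) = (r : G) * x * (r : G)⁻¹ :=
      fun r x => rfl
    have h := CfsgLib.NaturalGL.dvd_card_sub_one (R := Subgroup.zpowers β) (1 : W)
      (fun r => Subtype.ext (by rw [hsm]; simp)) (D := (q - 1) / 2) ?_
    · rwa [hw] at h
    intro x hx
    have hst : MulAction.stabilizer (Subgroup.zpowers β) x = ⊥ := by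
      rw [Subgroup.eq_bot_iff_forall]
      intro r hr
      by_contra hr1
      refine hx (Subtype.ext ?_)
      have hcomm : Commute (x : G) (r : G) := by
        have := congrArg Subtype.val (MulAction.mem_stabilizer_iff.1 hr)
        rw [hsm] at this
        exact (mul_inv_eq_iff_eq_mul.1 this).symm
      have hrt : Commute (r : G) t := by
        obtain ⟨i, hi⟩ := r.2
        rw [← hi]
        exact (E.up_commute _).zpow_left i
      have hB : K.IsBElt (r : G) := by
        refine ⟨fun e => hr1 (Subtype.ext e), hrt, ?_⟩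
        rw [← hbq, ← hβord, Subgroup.orderOf_coe, ← Nat.card_zpowers β]
        exact orderOf_dvd_natCard r
      have hx2 := (hT _ hB _ hcomm).2
      obtain ⟨j, hj⟩ := IsPGroup.iff_orderOf.1 hWp x
      rw [← Subgroup.orderOf_coe] at hj
      have hd := orderOf_dvd_of_pow_eq_one hx2
      rw [hj, ← hbq] at hd
      refine orderOf_eq_one_iff.1 (hj.trans ?_)
      rcases j with _ | j
      · rfl
      · exfalso
        refine hcop (q - 1) (Or.inl dvd_rfl) (((dvd_pow_self p j.succ_ne_zero).trans hd).trans ?_)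
        obtain ⟨k, hk⟩ : 2 ∣ q - 1 := by omega
        rw [hk, Nat.mul_div_cancel_left _ two_pos]
    rw [Nat.card_coe_set_eq, ← MulAction.index_stabilizer, hst, Subgroup.index_bot, Nat.card_zpowers, hβord]
  have hGcard : Nat.card G = q * ((q - 1) * (q + 1)) * K.I := by
    rw [← hCtcard]; exact (Subgroup.card_mul_index _).symm
  by_cases hwn : w = n
  · -- `U` is a Sylow subgroup of `G`
    left
    have hWU : W = U := (Subgroup.eq_of_le_of_card_ge hUW (by rw [hw, hwn, hUcard])).symm
    have hCpart : ∀ x ∈ C, (∃ j, orderOf x = p ^ j) → x ∈ U := by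
      rintro x hx ⟨j, hj⟩
      have hxO : x ∈ O := (hmemO x).2 ⟨hx, by rw [hj]; exact (hp.odd_of_ne_two hp2).pow⟩
      obtain ⟨Q, hQ⟩ := (IsPGroup.of_card (n := j) (show Nat.card (Subgroup.zpowers (⟨x, hxO⟩ : O)) = p ^ j by
        rw [Nat.card_zpowers, Subgroup.orderOf_mk, hj])).exists_le_sylow
      have hQU : U.subgroupOf O ≤ (Q : Subgroup O) := by
        intro u hu
        obtain ⟨R, hR⟩ := ((hUp.comap_of_injective O.subtype O.subtype_injective)).exists_le_sylow
        obtain ⟨g, hg⟩ := MulAction.exists_smul_eq O R Q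
        rw [← hg]
        show u ∈ (R : Subgroup O).map (MulAut.conj g).toMonoidHom
        refine ⟨u, hR hu, Subtype.ext ?_⟩
        show (g : G) * u * (g : G)⁻¹ = u
        rw [← Subgroup.mem_centralizer_iff.1 (hOC g.2) (u : G) hu, mul_inv_cancel_right]
      have hcardQ : Nat.card (Q : Subgroup O) = p ^ n := by
        rw [Q.card_eq_multiplicity, ← P.card_eq_multiplicity,
          ← Subgroup.card_map_of_injective O.subtype_injective, ← hW, hWU, hUcard]
      have hQeq : U.subgroupOf O = (Q : Subgroup O) := Subgroup.eq_of_le_of_card_ge hQU (by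
        rw [hcardQ, Nat.card_congr (Subgroup.subgroupOfEquivOfLe hUO).toEquiv, hUcard])
      have := hQ (Subgroup.mem_zpowers _)
      rw [← hQeq] at this
      exact this
    obtain ⟨S, hS⟩ := hUp.exists_le_sylow
    have hSU : (S : Subgroup G) = U := by
      refine le_antisymm ?_ hS
      have : Group.IsNilpotent (S : Subgroup G) := S.isPGroup'.isNilpotent
      by_contra hle
      have hlt : U.subgroupOf (S : Subgroup G) < ⊤ :=
        lt_top_iff_ne_top.2 fun e => hle (Subgroup.subgroupOf_eq_top.1 e)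
      refine (Group.normalizerCondition_of_isNilpotent (G := (S : Subgroup G)) _ hlt).2 fun x hx => ?_
      rw [Subgroup.mem_subgroupOf]
      have hxN : (x : G) ∈ Subgroup.normalizer (U : Set G) := by
        refine Subgroup.mem_normalizer_fintype fun u hu => ?_
        have := (Subgroup.mem_normalizer_iff.1 hx ⟨u, hS hu⟩).1 (Subgroup.mem_subgroupOf.2 hu)
        exact Subgroup.mem_subgroupOf.1 this
      obtain ⟨j, hj⟩ := IsPGroup.iff_orderOf.1 S.isPGroup' x
      rw [← Subgroup.orderOf_coe] at hj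
      -- a correction in `C`
      have hconjC : ∀ g ∈ Subgroup.normalizer (U : Set G), ∀ y ∈ C, g * y * g⁻¹ ∈ C := by
        intro g hg y hy
        rw [hC, Subgroup.mem_centralizer_iff] at hy ⊢
        intro u hu
        have h := hy _ ((Subgroup.mem_normalizer_iff''.1 hg u).1 hu)
        calc u * (g * y * g⁻¹) = g * (g⁻¹ * u * g * y) * g⁻¹ := by group
          _ = g * (y * (g⁻¹ * u * g)) * g⁻¹ := by rw [h]
          _ = g * y * g⁻¹ * u := by group
      set s : C := ⟨(x : G) * t * (x : G)⁻¹, hconjC _ hxN t htC⟩ with hs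
      have hs2 : orderOf s = 2 := by
        rw [hs, Subgroup.orderOf_mk, ← MulAut.conj_apply, MulEquiv.orderOf_eq, ht2]
      obtain ⟨T', hT'⟩ := (IsPGroup.of_card (n := 1) (show Nat.card (Subgroup.zpowers s) = 2 ^ 1 by
        rw [Nat.card_zpowers, hs2, pow_one])).exists_le_sylow
      obtain ⟨c, hc⟩ := MulAction.exists_smul_eq C T' T
      have hsc : c * s * c⁻¹ = ⟨t, htC⟩ := by
        have h1 : c * s * c⁻¹ ∈ Subgroup.zpowers (⟨t, htC⟩ : C) := by
          rw [← hTeq, ← hc]
          exact ⟨s, hT' (Subgroup.mem_zpowers s), rfl⟩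
        rcases CfsgLib.InvChar.KleinCentralizer.cases_of_mem_zpowers
          (show orderOf (⟨t, htC⟩ : C) = 2 by rw [Subgroup.orderOf_mk, ht2]) h1 with e | e
        · exact absurd (conj_eq_one_iff.1 e) (CfsgLib.Involutions.ne_one_of_involution hs2)
        · exact e
      set y : G := (c : G) * x with hy
      have hyt : Commute y t := by
        have e := congrArg Subtype.val hsc
        simp only [Subgroup.coe_mul, InvMemClass.coe_inv, hs] at e
        show y * t = t * y
        rw [hy]
        conv_rhs => rw [← e]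
        group
      have hcN : (c : G) ∈ Subgroup.normalizer (U : Set G) := Subgroup.centralizer_le_normalizer _ c.2
      have hyN : y ∈ Subgroup.normalizer (U : Set G) := Subgroup.mul_mem _ hcN hxN
      set M := Subgroup.normalizer (U : Set G) ⊓ Ct
      have hyM : y ∈ M := ⟨hyN, Subgroup.mem_centralizer_singleton_iff.2 hyt.eq⟩
      have hUM : U ≤ M := le_inf Subgroup.le_normalizer hUt
      have : (U.subgroupOf M).Normal := Subgroup.normal_subgroupOf_iff_le_normalizer hUM |>.2 inf_le_left
      set m := (q - 1) * (q + 1)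
      have hym : y ^ m ∈ U := by
        have h1 := Subgroup.pow_index_mem (H := U.subgroupOf M) ⟨y, hyM⟩
        rw [Subgroup.mem_subgroupOf, SubmonoidClass.coe_pow] at h1
        have h2 : (U.subgroupOf M).index ∣ m := by
          have h3 := Subgroup.card_dvd_of_le (inf_le_right : M ≤ Ct)
          rw [hCtcard, ← (U.subgroupOf M).card_mul_index,
            Nat.card_congr (Subgroup.subgroupOfEquivOfLe hUM).toEquiv, hUcard, ← hq] at h3
          exact Nat.dvd_of_mul_dvd_mul_left (by omega) h3
        obtain ⟨k, hk⟩ := h2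
        rw [hk, pow_mul]
        exact U.pow_mem h1 k
      have hxm : (x : G) ^ m ∈ C := by
        have key : ∀ k : ℕ, y ^ k * ((x : G) ^ k)⁻¹ ∈ C := by
          intro k
          induction k with
          | zero => simp
          | succ k ih =>
            have hyk : y ^ k ∈ Subgroup.normalizer (U : Set G) := Subgroup.pow_mem _ hyN k
            have e : y ^ (k + 1) * ((x : G) ^ (k + 1))⁻¹ =
                (y ^ k * (c : G) * (y ^ k)⁻¹) * (y ^ k * ((x : G) ^ k)⁻¹) := by
              rw [pow_succ y, pow_succ' (x : G), hy]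
              group
            rw [e]
            exact C.mul_mem (hconjC _ hyk _ c.2) ih
        have := C.mul_mem (C.inv_mem (key m)) (hUC hym)
        rwa [_root_.mul_inv_rev, inv_inv, inv_mul_cancel_right] at this
      have hxC : (x : G) ∈ C := by
        have hco : Nat.Coprime (orderOf (x : G)) m := by
          rw [hj]
          exact Nat.Coprime.pow_left _ ((hp.coprime_iff_not_dvd).2 hpm)
        obtain ⟨i, hi⟩ := exists_pow_eq_self_of_coprime hco.symm
        rw [← hi]
        exact C.pow_mem hxm i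
      exact hCpart _ hxC ⟨j, hj⟩
    intro hpI
    refine S.not_dvd_index (hpI.trans ?_)
    rw [hSU]
    exact Subgroup.index_dvd_of_le hUt
  · -- `q ^ 2` divides the order
    right
    show q ∣ K.I
    have hlt : n < w := by omega
    have h2n : 2 * n ≤ w := by
      by_contra hlt2
      obtain ⟨k, rfl⟩ := Nat.exists_eq_add_of_le hnw
      have hk : k < n := by omega
      have hk0 : 0 < k := by omega
      obtain ⟨b, hb⟩ : ∃ b, q - 1 = 2 * b := ⟨(q - 1) / 2, by omega⟩
      rw [hb, Nat.mul_div_cancel_left _ two_pos] at hdvd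
      have hq1 : p ^ n = 2 * b + 1 := by omega
      have h1 : 1 ≤ p ^ k := Nat.one_le_pow _ _ hp.pos
      have h3 : b ∣ p ^ k - 1 := by
        have h4 : p ^ (n + k) - 1 = 2 * b * p ^ k + (p ^ k - 1) := by
          rw [pow_add, hq1, add_mul, one_mul]; omega
        rw [h4] at hdvd
        exact (Nat.dvd_add_right (Dvd.intro_left 2 rfl |>.mul_right _)).1 hdvd
      have hp3 : 3 ≤ p := by have := hp.two_le; omega
      have h5 : p ^ (k + 1) ≤ p ^ n := Nat.pow_le_pow_right hp.pos (by omega)
      have h6 : 3 * p ^ k ≤ p ^ (k + 1) := by rw [pow_succ']; exact Nat.mul_le_mul_right _ hp3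
      have h7 : 1 < p ^ k := Nat.one_lt_pow (by omega) hp.one_lt
      have := Nat.le_of_dvd (by omega) h3
      omega
    have hd : p ^ (2 * n) ∣ Nat.card G :=
      (Nat.pow_dvd_pow p h2n).trans (hw ▸ Subgroup.card_subgroup_dvd_card W)
    rw [hGcard, two_mul, pow_add, ← hq, mul_assoc] at hd
    refine Nat.Coprime.dvd_of_dvd_mul_left ?_ (Nat.dvd_of_mul_dvd_mul_left (by omega) hd)
    have hco := Nat.Coprime.pow_left n ((hp.coprime_iff_not_dvd).2 hpm)
    rwa [← hq] at hco

end Conf

end CfsgLib.ReeOrder
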