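import Mathlib

/-!
A simple group of order sixty with a self-centralising four group.
-/

set_option autoImplicit false
set_option linter.style.haveILetI false

namespace CfsgLib.ReeOrder.Local

open Subgroup
open scoped Pointwise

universe u

variable {D : Type u} [Group D] [Finite D]

/-- The data: a simple group of order sixty and a self-centralising four group. -/
structure Sixty (D : Type u) [Group D] [Finite D] (E : Subgroup D) : Prop where
  simple : IsSimpleGroup D
  card : Nat.card D = 60
  four : Nat.card E = 4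
  sq : ∀ v ∈ E, v * v = 1
  comm : ∀ v ∈ E, ∀ w ∈ E, Commute v w
  cent : ∀ v ∈ E, v ≠ 1 → ∀ g, Commute g v → g ∈ E

variable {E : Subgroup D}

theorem Sixty.index_le (h : Sixty D E) {H : Subgroup D} (hH : H ≠ ⊤) : 4 < H.index := by
  by_contra hlt
  push Not at hlt
  haveI := h.simple
  have hker : H.normalCore = ⊥ := by
    rcases (normalCore_normal H).eq_bot_or_eq_top with e | e
    · exact e
    · exact absurd (top_le_iff.1 (e ▸ normalCore_le H)) hH
  have hinj : Function.Injective (MulAction.toPermHom D (D ⧸ H)) := by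
    rw [← MonoidHom.ker_eq_bot_iff, ← normalCore_eq_ker, hker]
  have h1 := card_dvd_of_injective _ hinj
  rw [Nat.card_perm, h.card] at h1
  change 60 ∣ H.index.factorial at h1
  interval_cases hi : H.index <;> revert h1 <;> decide

/-- The four group is a Sylow subgroup. -/
noncomputable def Sixty.sylow (h : Sixty D E) : Sylow 2 D :=
  haveI : Fact (Nat.Prime 2) := ⟨Nat.prime_two⟩
  Sylow.ofCard E (by
    rw [h.card, h.four, show (60 : ℕ) = 2 ^ 2 * 15 by norm_num]
    rw [Nat.factorization_mul (by norm_num) (by norm_num), Nat.Prime.factorization_pow Nat.prime_two]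
    simp [Nat.factorization_eq_zero_of_not_dvd (show ¬ 2 ∣ 15 by norm_num)])

theorem Sixty.sylow_coe (h : Sixty D E) : ((h.sylow : Sylow 2 D) : Subgroup D) = E := rfl

theorem Sixty.card_sylow_two (h : Sixty D E) (P : Sylow 2 D) : Nat.card (P : Subgroup D) = 4 := by
  haveI : Fact (Nat.Prime 2) := ⟨Nat.prime_two⟩
  rw [Nat.card_congr (P.equiv h.sylow).toEquiv]
  exact h.four

/-- A four group element fixes only the four group. -/
theorem Sixty.eq_of_smul (h : Sixty D E) {v : D} (hv : v ∈ E) (hv1 : v ≠ 1) {R : Sylow 2 D}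
    (hR : v • R = R) : (R : Subgroup D) = E := by
  classical
  haveI : Fact (Nat.Prime 2) := ⟨Nat.prime_two⟩
  have hn := Sylow.smul_eq_iff_mem_normalizer.1 hR
  have hp : IsPGroup 2 (zpowers v) := IsPGroup.of_card (n := 1) (by
    rw [Nat.card_zpowers, pow_one]
    exact orderOf_eq_prime (by rw [pow_two]; exact h.sq v hv) hv1)
  have hsup := hp.to_sup_of_normal_right' R.isPGroup' (zpowers_le.2 hn)
  have hvR : v ∈ (R : Subgroup D) :=
    (R.is_maximal' hsup le_sup_right).le (mem_sup_left (mem_zpowers v))
  haveI : IsMulCommutative (R : Subgroup D) :=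
    IsPGroup.isMulCommutative_of_card_eq_prime_sq (p := 2) (h.card_sylow_two R)
  refine Subgroup.eq_of_le_of_card_ge (fun g hg => h.cent v hv hv1 g ?_) ?_
  · exact congrArg Subtype.val (mul_comm' (⟨g, hg⟩ : (R : Subgroup D)) ⟨v, hvR⟩)
  · rw [h.four, h.card_sylow_two R]

theorem Sixty.card_normalizer (h : Sixty D E) : Nat.card (normalizer (E : Set D)) = 12 := by
  haveI : Fact (Nat.Prime 2) := ⟨Nat.prime_two⟩
  haveI := h.simple
  have hle : E ≤ normalizer (E : Set D) := Subgroup.le_normalizer
  have h1 := Subgroup.card_dvd_of_le hle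
  rw [h.four] at h1
  have h2 := Subgroup.card_subgroup_dvd_card (normalizer (E : Set D))
  rw [h.card] at h2
  obtain ⟨k, hk⟩ := h1
  have hmul := Subgroup.card_mul_index (normalizer (E : Set D))
  rw [h.card, hk] at hmul
  have hk15 : k ∣ 15 := by
    rw [hk, show (60 : ℕ) = 4 * 15 by norm_num] at h2
    exact Nat.dvd_of_mul_dvd_mul_left (by norm_num) h2
  have htop : normalizer (E : Set D) ≠ ⊤ := by
    intro e
    have hEn : E.Normal := normalizer_eq_top_iff.1 e
    rcases hEn.eq_bot_or_eq_top with e' | e'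
    · have := h.four; rw [e', card_bot] at this; omega
    · have := h.four; rw [e', card_top, h.card] at this; omega
  have h5 := h.index_le htop
  have hk1 : k ≠ 1 := by
    intro e
    have hN : normalizer (E : Set D) = E :=
      (Subgroup.eq_of_le_of_card_ge hle (by rw [h.four, hk, e])).symm
    have hle' : normalizer ((h.sylow : Sylow 2 D) : Set D) ≤
        centralizer ((h.sylow : Sylow 2 D) : Set D) := by
      show normalizer (E : Set D) ≤ centralizer (E : Set D)
      rw [hN]
      intro g hg
      rw [mem_centralizer_iff]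
      intro v hv
      exact (h.comm v hv g hg).eq
    have hc := MonoidHom.ker_transferSylow_isComplement' h.sylow hle'
    have hcard := hc.card_mul_card
    rw [show Nat.card ((h.sylow : Sylow 2 D) : Subgroup D) = 4 from h.four, h.card] at hcard
    rcases (MonoidHom.normal_ker (MonoidHom.transferSylow h.sylow hle')).eq_bot_or_eq_top with e' | e'
    · rw [e', card_bot] at hcard; omega
    · rw [e', card_top, h.card] at hcard; omega
  have : k ≤ 15 := Nat.le_of_dvd (by norm_num) hk15
  interval_cases k <;> simp_all (config := { decide := true }) <;> omega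

theorem Sixty.card_sylow (h : Sixty D E) : Nat.card (Sylow 2 D) = 5 := by
  haveI : Fact (Nat.Prime 2) := ⟨Nat.prime_two⟩
  have h1 := (h.sylow).card_eq_index_normalizer
  have h2 := Subgroup.card_mul_index (normalizer (E : Set D))
  rw [h.card_normalizer, h.card] at h2
  rw [show normalizer ((h.sylow : Sylow 2 D) : Set D) = normalizer (E : Set D) from rfl] at h1
  omega

theorem Sixty.faithful (h : Sixty D E) {g : D} (hg : ∀ P : Sylow 2 D, g • P = P) : g = 1 := by
  haveI : Fact (Nat.Prime 2) := ⟨Nat.prime_two⟩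
  haveI := h.simple
  let φ := MulAction.toPermHom D (Sylow 2 D)
  rcases (MonoidHom.normal_ker φ).eq_bot_or_eq_top with e | e
  · have : g ∈ φ.ker := Equiv.ext hg
    rwa [e, mem_bot] at this
  · exfalso
    have hall : ∀ a : D, ∀ P : Sylow 2 D, a • P = P := fun a P =>
      congrArg (fun f : Equiv.Perm (Sylow 2 D) => f P)
        (MonoidHom.mem_ker.1 (show a ∈ φ.ker by rw [e]; exact mem_top a))
    have hsub : Subsingleton (Sylow 2 D) := ⟨fun P Q => by
      obtain ⟨a, ha⟩ := MulAction.exists_smul_eq D P Q
      rw [← ha, hall]⟩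
    have := h.card_sylow
    rw [Nat.card_unique] at this
    omega

/-- An automorphism fixing the four group pointwise is inner by one of its elements. -/
theorem Sixty.auto_inner (h : Sixty D E) (σ : D ≃* D) (hσ : ∀ v ∈ E, σ v = v) :
    ∃ v ∈ E, ∀ g, σ g = v * g * v⁻¹ := by
  classical
  haveI : Fact (Nat.Prime 2) := ⟨Nat.prime_two⟩
  let m : Sylow 2 D → Sylow 2 D := fun P => P.mapSurjective (f := σ.toMonoidHom) σ.surjective
  have hm : ∀ (g : D) (P : Sylow 2 D), m (g • P) = σ g • m P := by
    intro g P
    apply Sylow.ext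
    show ((g • P : Sylow 2 D) : Subgroup D).map σ.toMonoidHom = _
    rw [Sylow.coe_subgroup_smul, Sylow.coe_subgroup_smul]
    show _ = MulAut.conj (σ g) • ((P : Subgroup D).map σ.toMonoidHom)
    ext x
    simp only [pointwise_smul_def]
    constructor
    · rintro ⟨_, ⟨a, ha, rfl⟩, rfl⟩
      exact ⟨σ a, ⟨a, ha, rfl⟩, by show σ g * σ a * (σ g)⁻¹ = σ (g * a * g⁻¹); simp⟩
    · rintro ⟨_, ⟨a, ha, rfl⟩, rfl⟩
      exact ⟨g * a * g⁻¹, ⟨a, ha, rfl⟩, by show σ (g * a * g⁻¹) = σ g * σ a * (σ g)⁻¹; simp⟩
  have hmE : m h.sylow = h.sylow := by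
    apply Sylow.ext
    show E.map σ.toMonoidHom = E
    ext x
    constructor
    · rintro ⟨y, hy, rfl⟩
      show σ y ∈ E
      rw [hσ y hy]; exact hy
    · intro hx
      exact ⟨x, hx, hσ x hx⟩
  have hinj : Function.Injective m := by
    intro P Q e
    apply Sylow.ext
    exact Subgroup.map_injective σ.injective (congrArg (fun R : Sylow 2 D => (R : Subgroup D)) e)
  obtain ⟨R, hR⟩ : ∃ R : Sylow 2 D, R ≠ h.sylow := by
    by_contra hall
    push Not at hall
    have : Subsingleton (Sylow 2 D) := ⟨fun a b => (hall a).trans (hall b).symm⟩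
    have := h.card_sylow
    rw [Nat.card_unique] at this
    omega
  have hmR : m R ≠ h.sylow := fun e => hR (hinj (e.trans hmE.symm))
  -- the four group is transitive on the other four subgroups
  have hne : ∀ (R : Sylow 2 D), R ≠ h.sylow → ∀ v : E, (v : D) • R ≠ h.sylow := by
    intro R hR v e
    apply hR
    rw [eq_inv_smul_iff.2 e]
    exact Sylow.smul_eq_iff_mem_normalizer.2 (Subgroup.le_normalizer (inv_mem v.2))
  let f : E → {P : Sylow 2 D // P ≠ h.sylow} := fun v => ⟨(v : D) • R, hne R hR v⟩
  have hf : Function.Bijective f := by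
    have hfi : Function.Injective f := by
      intro v w e
      have e' : (v : D) • R = (w : D) • R := congrArg Subtype.val e
      by_contra hvw
      refine hR (Sylow.ext ?_)
      rw [h.sylow_coe]
      refine h.eq_of_smul (v := (w : D)⁻¹ * v) (mul_mem (inv_mem w.2) v.2) (fun e1 => hvw ?_) ?_
      · exact Subtype.ext (inv_mul_eq_one.1 e1).symm
      · rw [mul_smul, e', inv_smul_smul]
    refine Nat.bijective_iff_injective_and_card f |>.2 ⟨hfi, ?_⟩
    have h5 := h.card_sylow
    haveI := Fintype.ofFinite (Sylow 2 D)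
    rw [Nat.card_eq_fintype_card] at h5
    rw [h.four, Nat.card_eq_fintype_card, Fintype.card_subtype_compl, Fintype.card_subtype_eq, h5]
  obtain ⟨v, hv⟩ := hf.2 ⟨m R, hmR⟩
  have hvR : (v : D) • R = m R := congrArg Subtype.val hv
  refine ⟨v, v.2, fun g => ?_⟩
  -- the twisted automorphism fixes every Sylow subgroup
  have hfix : ∀ P : Sylow 2 D, (v : D)⁻¹ • m P = P := by
    intro P
    by_cases hP : P = h.sylow
    · subst hP
      rw [hmE]
      exact Sylow.smul_eq_iff_mem_normalizer.2 (Subgroup.le_normalizer (inv_mem v.2))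
    · obtain ⟨w, hw⟩ := hf.2 ⟨P, hP⟩
      have hwR : (w : D) • R = P := congrArg Subtype.val hw
      rw [← hwR, hm, hσ w w.2, ← hvR, smul_smul, smul_smul]
      congr 1
      rw [mul_assoc, (h.comm w w.2 v v.2).eq, inv_mul_cancel_left]
  have key : g⁻¹ * ((v : D)⁻¹ * σ g * v) = 1 := by
    refine h.faithful fun P => ?_
    have h1 := hfix (g • P)
    rw [hm] at h1
    have h2 : m P = (v : D) • P := by
      conv_rhs => rw [← hfix P, smul_inv_smul]
    rw [h2] at h1
    rw [mul_smul, mul_smul, mul_smul, h1, inv_smul_smul]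
  have hg := inv_mul_eq_one.1 key
  calc σ g = (v : D) * ((v : D)⁻¹ * σ g * v) * (v : D)⁻¹ := by group
    _ = v * g * (v : D)⁻¹ := by rw [← hg]

/-- Every element of order three is inverted by an involution and has centraliser its own powers. -/
theorem Sixty.three_spec (h : Sixty D E) {f : D} (hf : orderOf f = 3) :
    ∃ u : D, orderOf u = 2 ∧ u * f * u⁻¹ = f⁻¹ ∧ ∀ g, Commute g f → g ∈ zpowers f := by
  classical
  haveI : Fact (Nat.Prime 2) := ⟨Nat.prime_two⟩
  haveI : Fact (Nat.Prime 3) := ⟨Nat.prime_three⟩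
  haveI := h.simple
  have hf1 : f ≠ 1 := fun e => by rw [e, orderOf_one] at hf; omega
  have hz : Nat.card (zpowers f) = 3 := (Nat.card_zpowers f).trans hf
  have hzle : zpowers f ≤ centralizer ({f} : Set D) :=
    zpowers_le.2 (mem_centralizer_singleton_iff.2 rfl)
  have hC3 : 3 ∣ Nat.card (centralizer ({f} : Set D)) := hz ▸ card_dvd_of_le hzle
  have hC : centralizer ({f} : Set D) = zpowers f := by
    have hno2 : ¬ 2 ∣ Nat.card (centralizer ({f} : Set D)) := by
      intro h2
      obtain ⟨⟨i, hi⟩, hio⟩ := exists_prime_orderOf_dvd_card' (G := centralizer ({f} : Set D)) 2 h2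
      rw [orderOf_mk] at hio
      obtain ⟨P, hP⟩ := (IsPGroup.of_card (n := 1) (by rw [Nat.card_zpowers, hio, pow_one]) :
        IsPGroup 2 (zpowers i)).exists_le_sylow
      obtain ⟨g, hg⟩ := MulAction.exists_smul_eq D P h.sylow
      have hiE : g * i * g⁻¹ ∈ E := by
        rw [← h.sylow_coe, ← hg, Sylow.coe_subgroup_smul, pointwise_smul_def]
        exact ⟨i, hP (mem_zpowers i), rfl⟩
      have hfE : g * f * g⁻¹ ∈ E := by
        refine h.cent _ hiE (fun e => ?_) _ ?_
        · have : i = 1 := by simpa using conj_eq_one_iff.1 e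
          rw [this, orderOf_one] at hio; omega
        · exact ((show Commute f i from (mem_centralizer_singleton_iff.1 hi).symm).map (MulAut.conj g).toMonoidHom :)
      have h3 : orderOf (g * f * g⁻¹) = 3 := by rw [← hf]; exact orderOf_injective (MulAut.conj g).toMonoidHom (MulEquiv.injective _) f
      have := orderOf_dvd_natCard E hfE
      rw [h.four, h3] at this
      norm_num at this
    have h60 := card_subgroup_dvd_card (centralizer ({f} : Set D))
    rw [h.card] at h60
    have hmul := Subgroup.card_mul_index (centralizer ({f} : Set D))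
    rw [h.card] at hmul
    have hne : centralizer ({f} : Set D) ≠ ⊤ := fun e => hno2 (by rw [e, card_top, h.card]; norm_num)
    have h5 := h.index_le hne
    have hle : Nat.card (centralizer ({f} : Set D)) ≤ 3 := by
      have hb : Nat.card (centralizer ({f} : Set D)) ≤ 60 := Nat.le_of_dvd (by norm_num) h60
      have hd : Nat.card (centralizer ({f} : Set D)) ∣ 15 := by
        have hco : (Nat.card (centralizer ({f} : Set D))).Coprime 4 := by
          rw [show (4 : ℕ) = 2 ^ 2 by norm_num]
          exact (Nat.coprime_comm.1 ((Nat.prime_two.coprime_iff_not_dvd).2 hno2)).pow_right 2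
        exact hco.dvd_of_dvd_mul_left (by simpa using h60)
      have : Nat.card (centralizer ({f} : Set D)) ≤ 15 := Nat.le_of_dvd (by norm_num) hd
      by_contra hgt
      push Not at hgt
      interval_cases hc : Nat.card (centralizer ({f} : Set D)) <;> omega
    exact (Subgroup.eq_of_le_of_card_ge hzle (by omega)).symm
  -- the normalizer has even order
  have hP : IsPGroup 3 (zpowers f) := IsPGroup.of_card (n := 1) (by rw [hz, pow_one])
  let P3 : Sylow 3 D := Sylow.ofCard (zpowers f) (by
    rw [h.card, hz, show (60 : ℕ) = 3 ^ 1 * 20 by norm_num]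
    rw [Nat.factorization_mul (by norm_num) (by norm_num), Nat.Prime.factorization_pow Nat.prime_three]
    simp [Nat.factorization_eq_zero_of_not_dvd (show ¬ 3 ∣ 20 by norm_num)])
  have hn3 : Nat.card (Sylow 3 D) % 3 = 1 := card_sylow_modEq_one 3 D
  have hidx : Nat.card (Sylow 3 D) = (normalizer (zpowers f : Set D)).index :=
    P3.card_eq_index_normalizer
  have hnt : normalizer (zpowers f : Set D) ≠ ⊤ := by
    intro e
    rcases (normalizer_eq_top_iff.1 e : (zpowers f).Normal).eq_bot_or_eq_top with e' | e'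
    · exact hf1 (zpowers_eq_bot.1 e')
    · rw [e', card_top, h.card] at hz; omega
  have h5 := h.index_le hnt
  have hmul := Subgroup.card_mul_index (normalizer (zpowers f : Set D))
  rw [h.card] at hmul
  have h3N : 3 ∣ Nat.card (normalizer (zpowers f : Set D)) := hz ▸ card_dvd_of_le Subgroup.le_normalizer
  have h2N : 2 ∣ Nat.card (normalizer (zpowers f : Set D)) := by
    obtain ⟨k, hk⟩ := h3N
    rw [hk] at hmul ⊢
    rw [hidx] at hn3
    have hk0 : 0 < k := Nat.pos_of_ne_zero fun e => by rw [e] at hmul; simp at hmul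
    have hle : (normalizer (zpowers f : Set D)).index ≤ 20 := by nlinarith
    interval_cases hi : (normalizer (zpowers f : Set D)).index <;> omega
  obtain ⟨⟨u, hu⟩, huo⟩ := exists_prime_orderOf_dvd_card' (G := normalizer (zpowers f : Set D)) 2 h2N
  rw [orderOf_mk] at huo
  refine ⟨u, huo, ?_, fun g hg => hC ▸ mem_centralizer_singleton_iff.2 hg⟩
  have hm : u * f * u⁻¹ ∈ zpowers f := (mem_normalizer_iff.1 hu f).1 (mem_zpowers f)
  rw [(isOfFinOrder_of_finite f).mem_zpowers_iff_mem_range_orderOf, hf] at hm
  simp only [Finset.mem_image, Finset.mem_range] at hm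
  obtain ⟨j, hj, hje⟩ := hm
  interval_cases j
  · exact absurd (conj_eq_one_iff.1 (by rw [← hje, pow_zero])) hf1
  · exfalso
    have hc : Commute u f := by
      rw [pow_one] at hje
      exact mul_inv_eq_iff_eq_mul.1 hje.symm
    have hmem : u ∈ zpowers f := hC ▸ mem_centralizer_singleton_iff.2 hc
    have := orderOf_dvd_natCard (zpowers f) hmem
    rw [hz, huo] at this
    norm_num at this
  · rw [← hje]
    exact eq_inv_of_mul_eq_one_left (by rw [← pow_succ, show 2 + 1 = orderOf f by rw [hf], pow_orderOf_eq_one])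

/-- An element of order three inverted by an involution. -/
theorem Sixty.exists_three (h : Sixty D E) :
    ∃ f u : D, orderOf f = 3 ∧ orderOf u = 2 ∧ u * f * u⁻¹ = f⁻¹ ∧
      ∀ g, Commute g f → g ∈ zpowers f := by
  haveI : Fact (Nat.Prime 3) := ⟨Nat.prime_three⟩
  obtain ⟨f, hf⟩ := exists_prime_orderOf_dvd_card' (G := D) 3 (by rw [h.card]; norm_num)
  obtain ⟨u, hu⟩ := h.three_spec hf
  exact ⟨f, u, hf, hu⟩

/-- The normalizer of a subgroup of order three. -/
theorem Sixty.normalizer_three (h : Sixty D E) {f : D} (hf : orderOf f = 3) {u : D}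
    (hu : u * f * u⁻¹ = f⁻¹) {g : D} (hg : g * f * g⁻¹ ∈ zpowers f) :
    g ∈ zpowers f ∨ g * u ∈ zpowers f := by
  classical
  obtain ⟨-, -, -, hC⟩ := h.three_spec hf
  rw [(isOfFinOrder_of_finite f).mem_zpowers_iff_mem_range_orderOf, hf] at hg
  simp only [Finset.mem_image, Finset.mem_range] at hg
  obtain ⟨j, hj, hje⟩ := hg
  interval_cases j
  · rw [pow_zero] at hje
    have : f = 1 := conj_eq_one_iff.1 hje.symm
    rw [this, orderOf_one] at hf
    omega
  · rw [pow_one] at hje
    exact Or.inl (hC g (mul_inv_eq_iff_eq_mul.1 hje.symm))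
  · refine Or.inr (hC _ (mul_inv_eq_iff_eq_mul.1 ?_))
    have h2 : f ^ 2 = f⁻¹ :=
      eq_inv_of_mul_eq_one_left (by rw [← pow_succ, show 2 + 1 = orderOf f by rw [hf], pow_orderOf_eq_one])
    rw [h2] at hje
    calc g * u * f * (g * u)⁻¹ = g * (u * f * u⁻¹) * g⁻¹ := by group
      _ = (g * f * g⁻¹)⁻¹ := by rw [hu]; group
      _ = f := by rw [← hje, inv_inv]

end CfsgLib.ReeOrder.Local
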