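import Cfsg.Agent.Lib.GW.Done
import Cfsg.Agent.Lib.PSL2.MinimalSimple
import Cfsg.Agent.Lib.InvChar.SolvableTwo
import Cfsg.Agent.Lib.InvChar.RankThreeBasic
import Cfsg.Agent.Lib.Solvable.CoprimeGeneration
import Cfsg.Agent.Lib.ReeOrder.PslTorus
import Cfsg.Agent.Lib.ReeOrder.Local.Sixty

/-!
Groups with a four group as Sylow 2-subgroup in which the centralisers of involutions are the
products of the four group and one fixed abelian group of odd order.
-/

set_option autoImplicit false
set_option linter.style.haveILetI false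

namespace CfsgLib.ReeOrder.Local

open Subgroup Cfsg

universe u

/-- A four group and an odd abelian group covering the centralisers of its involutions. -/
structure FourAbelian (K : Type u) [Group K] [Finite K] (E A : Subgroup K) : Prop where
  four : Nat.card E = 4
  sq : ∀ v ∈ E, v * v = 1
  odd : Odd (Nat.card A)
  comm : ∀ a ∈ A, ∀ e ∈ E, Commute a e
  abel : ∀ a ∈ A, ∀ b ∈ A, Commute a b
  cent : ∀ e ∈ E, e ≠ 1 → ∀ g, Commute g e → ∃ x ∈ E, ∃ a ∈ A, g = x * a

variable {K : Type u} [Group K] [Finite K] {E A : Subgroup K}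

theorem FourAbelian.commE (h : FourAbelian K E A) : ∀ v ∈ E, ∀ w ∈ E, Commute v w := by
  intro v hv w hw
  calc v * w = (v * w)⁻¹ := eq_inv_of_mul_eq_one_left (h.sq _ (mul_mem hv hw))
    _ = w⁻¹ * v⁻¹ := mul_inv_rev v w
    _ = w * v := by rw [inv_eq_of_mul_eq_one_right (h.sq w hw), inv_eq_of_mul_eq_one_right (h.sq v hv)]

theorem FourAbelian.eq_one (h : FourAbelian K E A) {x : K} (hE : x ∈ E) (hA : x ∈ A) : x = 1 := by
  have h2 : orderOf x ∣ 2 := orderOf_dvd_of_pow_eq_one (by rw [pow_two]; exact h.sq x hE)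
  have ho : Odd (orderOf x) := h.odd.of_dvd_nat (Subgroup.orderOf_dvd_natCard _ hA)
  exact orderOf_eq_one_iff.1 (Nat.eq_one_of_dvd_coprimes (Nat.coprime_two_right.2 ho) dvd_rfl h2)

theorem FourAbelian.exists_ne (h : FourAbelian K E A) : ∃ e ∈ E, e ≠ 1 := by
  by_contra hall
  push Not at hall
  have : E = ⊥ := (eq_bot_iff_forall _).2 hall
  have h4 := h.four
  rw [this, card_bot] at h4
  omega

theorem FourAbelian.sylow_le (h : FourAbelian K E A) (P : Sylow 2 K) (hP : E ≤ P) :
    (P : Subgroup K) = E := by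
  haveI : Fact (Nat.Prime 2) := ⟨Nat.prime_two⟩
  haveI : Nontrivial (P : Subgroup K) := by
    obtain ⟨e, he, he1⟩ := h.exists_ne
    exact ⟨⟨⟨e, hP he⟩, 1, fun e' => he1 (congrArg Subtype.val e')⟩⟩
  -- a central involution of the Sylow subgroup lies in the four group
  have hZ : (center (P : Subgroup K)) ≠ ⊥ := fun e => by
    haveI := P.isPGroup'.center_nontrivial
    exact (Subgroup.nontrivial_iff_ne_bot _).1 inferInstance e
  obtain ⟨⟨z, hz⟩, hz1'⟩ := Subgroup.ne_bot_iff_exists_ne_one.1 hZ
  have hz1 : z ≠ 1 := fun e => hz1' (Subtype.ext e)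
  obtain ⟨k, hk⟩ := P.isPGroup' z
  obtain ⟨e, he, he1⟩ := h.exists_ne
  have hzc : ∀ g ∈ (P : Subgroup K), Commute g (z : K) := fun g hg =>
    congrArg Subtype.val (mem_center_iff.1 hz ⟨g, hg⟩)
  obtain ⟨x, hx, a, ha, hxa⟩ := h.cent e he he1 z (hzc e (hP he)).symm
  have hzk : (z : K) ^ 2 ^ k = 1 := congrArg Subtype.val hk
  have ha1 : a = 1 := by
    have hap : a ^ 2 ^ k = 1 ∨ (x * a) ^ 2 ^ k = x ^ 2 ^ k * a ^ 2 ^ k :=
      Or.inr ((h.comm a ha x hx).symm.mul_pow _)
    have hx2 : ∀ j : ℕ, 0 < j → x ^ 2 ^ j = 1 := by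
      intro j hj
      obtain ⟨i, rfl⟩ : ∃ i, j = i + 1 := ⟨j - 1, by omega⟩
      rw [pow_succ', pow_mul, pow_two, h.sq x hx, one_pow]
    have ha2 : a ^ 2 ^ (k + 1) = 1 := by
      have : (x * a) ^ 2 ^ (k + 1) = 1 := by rw [← hxa, pow_succ, pow_mul, hzk, one_pow]
      rwa [(h.comm a ha x hx).symm.mul_pow, hx2 _ k.succ_pos, one_mul] at this
    have ho : Odd (orderOf a) := h.odd.of_dvd_nat (Subgroup.orderOf_dvd_natCard _ ha)
    exact orderOf_eq_one_iff.1 (Nat.eq_one_of_dvd_coprimes
      ((Nat.coprime_two_right.2 ho).pow_right (k + 1)) dvd_rfl (orderOf_dvd_of_pow_eq_one ha2))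
  rw [ha1, mul_one] at hxa
  have hx1 : x ≠ 1 := fun e' => hz1 (Subtype.ext (hxa.trans e'))
  refine le_antisymm (fun g hg => ?_) hP
  obtain ⟨x', hx', b, hb, rfl⟩ := h.cent x hx hx1 g (hxa ▸ hzc g hg)
  have hbP : b ∈ (P : Subgroup K) := by
    have := mul_mem (inv_mem (hP hx')) hg
    rwa [inv_mul_cancel_left] at this
  obtain ⟨j, hj⟩ := P.isPGroup' ⟨b, hbP⟩
  have hj' : b ^ 2 ^ j = 1 := congrArg Subtype.val hj
  have ho : Odd (orderOf b) := h.odd.of_dvd_nat (Subgroup.orderOf_dvd_natCard _ hb)
  rw [orderOf_eq_one_iff.1 (Nat.eq_one_of_dvd_coprimes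
      ((Nat.coprime_two_right.2 ho).pow_right j) dvd_rfl (orderOf_dvd_of_pow_eq_one hj')), mul_one]
  exact hx'

/-- The four group is a Sylow subgroup. -/
theorem FourAbelian.exists_sylow (h : FourAbelian K E A) : ∃ P : Sylow 2 K, (P : Subgroup K) = E := by
  haveI : Fact (Nat.Prime 2) := ⟨Nat.prime_two⟩
  obtain ⟨P, hP⟩ := (IsPGroup.of_card (n := 2) (by rw [h.four]; norm_num) :
    IsPGroup 2 E).exists_le_sylow
  exact ⟨P, h.sylow_le P hP⟩

theorem FourAbelian.not_eight (h : FourAbelian K E A) : ¬ 8 ∣ Nat.card K := by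
  haveI : Fact (Nat.Prime 2) := ⟨Nat.prime_two⟩
  obtain ⟨P, hP⟩ := h.exists_sylow
  intro h8
  obtain ⟨Q, hQ⟩ := Sylow.exists_subgroup_card_pow_prime (G := K) 2 (n := 3) (by simpa using h8)
  obtain ⟨R, hR⟩ := (IsPGroup.of_card hQ : IsPGroup 2 Q).exists_le_sylow
  have h5 := Subgroup.card_dvd_of_le hR
  rw [hQ, R.card_eq_multiplicity, ← P.card_eq_multiplicity, hP, h.four] at h5
  norm_num at h5

/-- A normal subgroup meeting the four group trivially has odd order. -/
theorem FourAbelian.odd_of_inf (h : FourAbelian K E A) {N : Subgroup K} [N.Normal]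
    (hN : ∀ x ∈ N, x ∈ E → x = 1) : ¬ 2 ∣ Nat.card N := by
  haveI : Fact (Nat.Prime 2) := ⟨Nat.prime_two⟩
  intro h2
  obtain ⟨⟨i, hi⟩, hio⟩ := exists_prime_orderOf_dvd_card' (G := N) 2 h2
  rw [orderOf_mk] at hio
  obtain ⟨P, hP⟩ := h.exists_sylow
  obtain ⟨Q, hQ⟩ := (IsPGroup.of_card (n := 1) (by rw [Nat.card_zpowers, hio, pow_one]) :
        IsPGroup 2 (zpowers i)).exists_le_sylow
  obtain ⟨g, hg⟩ := MulAction.exists_smul_eq K Q P
  have hiE : g * i * g⁻¹ ∈ E := by
    rw [← hP, ← hg, Sylow.coe_subgroup_smul, pointwise_smul_def]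
    exact ⟨i, hQ (mem_zpowers i), rfl⟩
  have := hN _ ((inferInstance : N.Normal).conj_mem i hi g) hiE
  rw [conj_eq_one_iff] at this
  rw [this, orderOf_one] at hio
  omega

theorem FourAbelian.eq_bot_of_inf (h : FourAbelian K E A) (hO : oddCore K = ⊥) {N : Subgroup K}
    [hn : N.Normal] (hN : ∀ x ∈ N, x ∈ E → x = 1) : N = ⊥ := by
  haveI : Fact (Nat.Prime 2) := ⟨Nat.prime_two⟩
  refine le_bot_iff.1 (hO ▸ ?_)
  exact CfsgLib.PCore.le_pPrimeCore hn (CfsgLib.PCore.coprime_of_not_dvd_card (h.odd_of_inf hN))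

/-- The core-free solvable case. -/
theorem FourAbelian.solvable_case (h : FourAbelian K E A) (hO : oddCore K = ⊥)
    [Group.IsSolvable K] : A = ⊥ ∧ E.Normal := by
  haveI : Fact (Nat.Prime 2) := ⟨Nat.prime_two⟩
  obtain ⟨P, hP⟩ := h.exists_sylow
  have hle : pCore 2 K ≤ E := hP ▸ CfsgLib.PCore.pCore_le_sylow P
  have hC := CfsgLib.InvChar.centralizer_pCore_le (p := 2) hO
  have heq : E ≤ pCore 2 K := fun v hv => hC (mem_centralizer_iff.2 fun x hx =>
    (h.commE x (hle hx) v hv).eq)
  have heq' : pCore 2 K = E := le_antisymm hle heq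
  refine ⟨(eq_bot_iff_forall _).2 fun a ha => ?_, heq' ▸ pCore_normal 2 K⟩
  refine h.eq_one (hle (hC (mem_centralizer_iff.2 fun x hx => ?_))) ha
  exact (h.comm a ha x (hle hx)).symm.eq

/-- The core-free non-solvable case. -/
theorem FourAbelian.nonsolvable_case (h : FourAbelian K E A) (hO : oddCore K = ⊥)
    (hs : ¬ Group.IsSolvable K) : A = ⊥ ∧ Nat.card K = 60 ∧ IsSimpleGroup K := by
  classical
  haveI : Fact (Nat.Prime 2) := ⟨Nat.prime_two⟩
  obtain ⟨P, hP⟩ := h.exists_sylow
  -- the last term of the derived series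
  obtain ⟨n, hn⟩ : ∃ n, derivedSeries K (n + 1) = derivedSeries K n := by
    obtain ⟨a, b, hab, hh⟩ := Finite.exists_ne_map_eq_of_infinite (derivedSeries K)
    wlog hlt : a < b generalizing a b
    · exact this b a hab.symm hh.symm (lt_of_le_of_ne (not_lt.1 hlt) hab.symm)
    exact ⟨a, le_antisymm (derivedSeries_antitone K (Nat.le_succ a))
      (hh.le.trans (derivedSeries_antitone K hlt))⟩
  obtain ⟨D, hDn⟩ : ∃ D, D = derivedSeries K n := ⟨_, rfl⟩
  haveI hDN : D.Normal := hDn ▸ derivedSeries_normal K n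
  haveI hperf : Group.IsPerfect D := Subgroup.isPerfect_iff.2 (by
    rw [hDn, ← derivedSeries_succ, hn])
  have hDne : D ≠ ⊥ := fun e => hs ⟨⟨n, hDn ▸ e⟩⟩
  haveI : Nontrivial D := (Subgroup.nontrivial_iff_ne_bot _).2 hDne
  -- it contains the four group
  obtain ⟨e₀, he₀D, he₀E, he₀⟩ : ∃ x ∈ D, x ∈ E ∧ x ≠ 1 := by
    by_contra hall
    push Not at hall
    exact hDne (h.eq_bot_of_inf hO fun x hx hxE => hall x hx hxE)
  have hED : E ≤ D := by
    by_contra hle
    -- the Sylow subgroup of the perfect group would be cyclic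
    obtain ⟨R, hR⟩ := ((IsPGroup.of_card (n := 1) (by
      rw [Nat.card_zpowers, pow_one]
      exact orderOf_eq_prime (by rw [Subtype.ext_iff, pow_two]; exact h.sq e₀ he₀E)
        (fun e => he₀ (congrArg Subtype.val e))) :
      IsPGroup 2 (zpowers (⟨e₀, he₀D⟩ : D)))).exists_le_sylow
    have hR2 : Nat.card (R : Subgroup D) = 2 := by
      obtain ⟨j, hj⟩ := IsPGroup.iff_card.1 R.isPGroup'
      have h2 : 2 ∣ Nat.card (R : Subgroup D) := by
        have := Subgroup.card_dvd_of_le hR
        rwa [Nat.card_zpowers, orderOf_eq_prime (p := 2)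
          (by rw [Subtype.ext_iff, pow_two]; exact h.sq e₀ he₀E)
          (fun e => he₀ (congrArg Subtype.val e))] at this
      obtain ⟨Q, hQ⟩ := (R.isPGroup'.map D.subtype).exists_le_sylow
      have hd : 2 ^ j ∣ 4 := by
        have := Subgroup.card_dvd_of_le hQ
        rw [Subgroup.card_map_of_injective D.subtype_injective, hj,
          Nat.card_congr (Q.equiv P).toEquiv, hP, h.four] at this
        exact this
      rw [hj]
      rcases (Nat.dvd_prime_pow Nat.prime_two (m := 2)).1 (by simpa using hd) with ⟨i, hi, hie⟩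
      interval_cases i
      · rw [hj, hie] at h2; norm_num at h2
      · simpa using hie
      · exfalso
        apply hle
        have hQE : (Q : Subgroup K).map (MulEquiv.refl K).toMonoidHom = Q := Subgroup.map_id _
        have hQD : (Q : Subgroup K) ≤ D := by
          have := Subgroup.eq_of_le_of_card_ge hQ (by
            rw [Subgroup.card_map_of_injective D.subtype_injective, hj, hie,
              Nat.card_congr (Q.equiv P).toEquiv, hP, h.four]
            norm_num)
          rw [← this]
          exact map_subtype_le _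
        obtain ⟨g, hg⟩ := MulAction.exists_smul_eq K Q P
        intro x hx
        rw [← hP, ← hg, Sylow.coe_subgroup_smul, pointwise_smul_def] at hx
        obtain ⟨y, hy, rfl⟩ := hx
        exact hDN.conj_mem y (hQD hy) g
    haveI : IsCyclic (R : Subgroup D) := isCyclic_of_prime_card hR2
    have hmin : (Nat.card D).minFac = 2 := (Nat.minFac_eq_two_iff _).2
      ((dvd_of_eq hR2.symm : 2 ∣ Nat.card (R : Subgroup D)).trans (Subgroup.card_subgroup_dvd_card _))
    let τ := MonoidHom.transferSylow R (IsCyclic.normalizer_le_centralizer hmin inferInstance)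
    have hc := IsCyclic.isComplement' hmin (P := R) inferInstance
    have hτ : τ.ker = ⊤ := by
      refine top_le_iff.1 ?_
      rw [← hperf.commutator_eq_top]
      rw [_root_.commutator_def, Subgroup.commutator_le]
      intro a _ b _
      rw [MonoidHom.mem_ker, map_commutatorElement, commutatorElement_eq_one_iff_mul_comm]
      exact mul_comm' (τ a) (τ b)
    rw [hτ] at hc
    have h1 := isComplement'_top_left.1 hc
    rw [h1, card_bot] at hR2
    omega
  -- Gorenstein–Walter
  have hDO : oddCore D = ⊥ := by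
    refine le_bot_iff.1 ((Subgroup.map_le_map_iff_of_injective D.subtype_injective).1 ?_)
    rw [Subgroup.map_bot, ← hO]
    exact (CfsgLib.PCore.map_pPrimeCore_subtype_of_normal D).le.trans inf_le_right
  let S : Sylow 2 D := P.subtype (hP ▸ hED)
  have hSeq : (S : Subgroup D) = E.subgroupOf D := by
    show ((P : Subgroup K)).subgroupOf D = _
    rw [hP]
  have hScard : Nat.card (S : Subgroup D) = 4 := by
    rw [hSeq, Nat.card_congr (Subgroup.subgroupOfEquivOfLe hED).toEquiv]; exact h.four
  haveI : IsKleinFour (S : Subgroup D) := by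
    refine ⟨hScard, ?_⟩
    haveI : Finite (S : Subgroup D) := inferInstance
    refine (not_isCyclic_iff_exponent_eq_prime Nat.prime_two hScard).1 fun hc => ?_
    obtain ⟨g, hg⟩ := hc.exists_generator
    have hg2 : g * g = 1 := by
      have hgE : ((g : D) : K) ∈ E := by
        have := g.2
        exact mem_subgroupOf.1 (SetLike.ext_iff.1 hSeq _ |>.1 this)
      exact Subtype.ext (Subtype.ext (h.sq _ hgE))
    have := orderOf_le_of_pow_eq_one (x := g) two_pos (by rw [pow_two]; exact hg2)
    rw [orderOf_eq_card_of_forall_mem_zpowers hg, hScard] at this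
    omega
  let eD : D ⧸ oddCore D ≃* D :=
    (QuotientGroup.quotientMulEquivOfEq hDO).trans QuotientGroup.quotientBot
  obtain ⟨hD60, hDsimple, hcent4⟩ : Nat.card D = 60 ∧ IsSimpleGroup D ∧
      Nat.card (centralizer ({⟨e₀, he₀D⟩} : Set D)) = 4 := by
    rcases CfsgLib.GW.Done.classification D S 2 le_rfl IsKleinFour.nonempty_mulEquiv with
      ⟨F, hF, hFin, hodd, h3, ⟨e⟩⟩ | ⟨⟨e⟩⟩
    · let φ := eD.symm.trans e
      have hq : Fintype.card F = 5 := by
        obtain ⟨p, hp⟩ := CharP.exists F
        haveI : Fact p.Prime := ⟨CharP.char_is_prime F p⟩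
        set i := φ ⟨e₀, he₀D⟩ with hi
        have hi2 : i * i = 1 := by
          rw [hi, ← map_mul, show (⟨e₀, he₀D⟩ : D) * ⟨e₀, he₀D⟩ = 1 from Subtype.ext (h.sq e₀ he₀E),
            map_one]
        have hi1 : i ≠ 1 := fun e' => he₀ (congrArg Subtype.val
          ((map_eq_one_iff φ φ.injective).1 e'))
        have hpodd : Odd p := by
          obtain ⟨m, -, hm⟩ := FiniteField.card F p
          rw [hm] at hodd
          exact (Nat.odd_pow_iff m.ne_zero).1 hodd
        have hip : i ^ p ≠ 1 := by
          obtain ⟨r, rfl⟩ := hpodd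
          rw [pow_succ, pow_mul, pow_two, hi2, one_pow, one_mul]
          exact hi1
        obtain ⟨C, hC, hiC⟩ := Psl.exists_torus p hodd hip
        obtain ⟨w, hw, hwC, hwinv⟩ := hC.inverter
        have hiw : Commute i w := by
          have := hwinv i hiC
          rw [inv_eq_of_mul_eq_one_right hi2] at this
          exact (mul_inv_eq_iff_eq_mul.1 this).symm
        haveI := hC.cyclic
        have hab : ∀ x y, Commute x i → Commute y i → Commute x y := by
          intro x y hx hy
          have key : ∀ z, Commute z i → ∃ v ∈ E, ∃ a ∈ A, ((φ.symm z : D) : K) = v * a := by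
            intro z hz
            refine h.cent e₀ he₀E he₀ _ ?_
            have := (hz.map φ.symm.toMonoidHom).map D.subtype
            rw [hi] at this
            simpa using this
          obtain ⟨v, hv, a, ha, hxe⟩ := key x hx
          obtain ⟨v', hv', a', ha', hye⟩ := key y hy
          apply φ.symm.injective
          rw [map_mul, map_mul]
          apply Subtype.ext
          show ((φ.symm x : D) : K) * (φ.symm y : D) = (φ.symm y : D) * (φ.symm x : D)
          rw [hxe, hye]
          exact (((h.commE v hv v' hv').mul_left (h.comm a ha v' hv')).mul_right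
            (((h.comm a' ha' v hv).symm).mul_left (h.abel a ha a' ha'))).eq
        have hsq : ∀ c ∈ C, c * c = 1 := by
          intro c hc
          have hci : Commute c i := congrArg Subtype.val (mul_comm' (⟨c, hc⟩ : C) ⟨i, hiC⟩)
          have := hwinv c hc
          rw [(hab w c hiw.symm hci).eq, mul_inv_cancel_right] at this
          conv_lhs => arg 2; rw [this]
          exact mul_inv_cancel c
        have hC2 : Nat.card C ≤ 2 := by
          obtain ⟨g, hg⟩ := hC.cyclic.exists_generator
          rw [← orderOf_eq_card_of_forall_mem_zpowers hg]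
          exact orderOf_le_of_pow_eq_one two_pos (by rw [pow_two]; exact Subtype.ext (hsq g g.2))
        have h2C : 2 ∣ Nat.card C := by
          have := Subgroup.orderOf_dvd_natCard C hiC
          rwa [orderOf_eq_prime (by rw [pow_two]; exact hi2) hi1] at this
        have hC0 : 0 < Nat.card C := Nat.card_pos
        obtain ⟨r, hr⟩ := hodd
        rcases hC.card with e' | e' <;> omega
      haveI := (CfsgLib.PSL2.psl_not_solvable (K := F) (by omega)).2.1
      refine ⟨?_, φ.isSimpleGroup, ?_⟩
      · rw [Nat.card_congr φ.toEquiv]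
        have h1 := CfsgLib.PSL2.card_psl (F := F)
        rw [CfsgLib.PSL2.gcd_eq_two hodd, hq] at h1
        omega
      · have ho : orderOf (φ ⟨e₀, he₀D⟩) = 2 := by
          rw [MulEquiv.orderOf_eq, orderOf_mk]
          exact orderOf_eq_prime (by rw [pow_two]; exact h.sq e₀ he₀E) he₀
        have hc := CfsgLib.PSL2.card_centralizer_involution hodd ho
        rw [hq, if_pos (by norm_num)] at hc
        have hmap : (centralizer ({⟨e₀, he₀D⟩} : Set D)).map φ.toMonoidHom =
            centralizer ({φ ⟨e₀, he₀D⟩} : Set _) := by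
          ext z
          obtain ⟨w, rfl⟩ := φ.surjective z
          constructor
          · rintro ⟨v, hv, hvw⟩
            obtain rfl := φ.injective hvw
            exact mem_centralizer_singleton_iff.2 (by
              rw [← map_mul, ← map_mul, mem_centralizer_singleton_iff.1 hv])
          · intro hw
            refine ⟨w, mem_centralizer_singleton_iff.2 (φ.injective ?_), rfl⟩
            rw [map_mul, map_mul]; exact mem_centralizer_singleton_iff.1 hw
        rw [← Subgroup.card_map_of_injective (f := φ.toMonoidHom) φ.injective, hmap]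
        exact hc
    · exfalso
      refine h.not_eight (dvd_trans ?_ (Subgroup.card_subgroup_dvd_card D))
      rw [Nat.card_congr (eD.symm.trans e).toEquiv, nat_card_alternatingGroup, Nat.card_eq_fintype_card,
        Fintype.card_fin]
      decide
  -- the four group is self-centralising in the simple group
  have hSA : ∀ a ∈ A, a ∈ D → a = 1 := by
    intro a ha haD
    have hmem : (⟨a, haD⟩ : D) ∈ centralizer ({⟨e₀, he₀D⟩} : Set D) :=
      mem_centralizer_singleton_iff.2 (Subtype.ext (h.comm a ha e₀ he₀E).eq)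
    have h1 := Subgroup.orderOf_dvd_natCard _ hmem
    rw [hcent4, orderOf_mk] at h1
    have ho : Odd (orderOf a) := h.odd.of_dvd_nat (Subgroup.orderOf_dvd_natCard _ ha)
    exact orderOf_eq_one_iff.1 (Nat.eq_one_of_dvd_coprimes
      ((Nat.coprime_two_right.2 ho).pow_right 2) dvd_rfl h1)
  have h60 : Sixty D (E.subgroupOf D) := by
    refine ⟨hDsimple, hD60, hSeq ▸ hScard, fun v hv => Subtype.ext (h.sq _ hv),
      fun v hv w hw => Subtype.ext (h.commE _ hv _ hw), fun v hv hv1 g hg => ?_⟩
    obtain ⟨x, hx, a, ha, hga⟩ :=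
      h.cent (v : K) hv (fun e => hv1 (Subtype.ext e)) g (congrArg Subtype.val hg)
    have haD : a ∈ D := by
      have := mul_mem (inv_mem (hED hx)) g.2
      rwa [hga, inv_mul_cancel_left] at this
    show (g : K) ∈ E
    rw [hga, hSA a ha haD, mul_one]
    exact hx
  -- the centraliser of the simple group is trivial
  have hCD : centralizer (D : Set K) = ⊥ := by
    haveI : (centralizer (D : Set K)).Normal := Subgroup.normal_centralizer
    refine h.eq_bot_of_inf hO fun x hx hxE => ?_
    by_contra hx1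
    have hcard : Nat.card D ≤ Nat.card E := Nat.card_le_card_of_injective
      (fun g : D => (⟨(g : K), h60.cent ⟨x, hED hxE⟩ hxE (fun e => hx1 (congrArg Subtype.val e)) g
        (Subtype.ext (mem_centralizer_iff.1 hx g g.2))⟩ : E))
      (fun g g' e => Subtype.ext (congrArg (fun y : E => (y : K)) e))
    rw [hD60, h.four] at hcard
    omega
  have hA : A = ⊥ := (eq_bot_iff_forall _).2 fun a ha => by
    obtain ⟨v, hv, hσ⟩ := h60.auto_inner (MulAut.conjNormal a) fun v hv =>
      Subtype.ext (by rw [MulAut.conjNormal_apply, (h.comm a ha v hv).eq, mul_inv_cancel_right])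
    have hva : (v : K)⁻¹ * a ∈ centralizer (D : Set K) := mem_centralizer_iff.2 fun g hg => by
      have e := congrArg Subtype.val (hσ ⟨g, hg⟩)
      rw [MulAut.conjNormal_apply] at e
      calc g * ((v : K)⁻¹ * a) = (v : K)⁻¹ * ((v : K) * g * (v : K)⁻¹) * a := by group
        _ = (v : K)⁻¹ * (a * g * a⁻¹) * a := by rw [e]; rfl
        _ = (v : K)⁻¹ * a * g := by group
    rw [hCD, mem_bot, inv_mul_eq_one] at hva
    exact h.eq_one (hva ▸ hv) ha
  -- Frattini
  have hDtop : D = ⊤ := by
    have hNK : normalizer (E : Set K) ⊔ D = ⊤ := by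
      have hf := Sylow.normalizer_sup_eq_top S
      rw [hSeq, map_subgroupOf_eq_of_le hED] at hf
      exact hf
    have hle : normalizer (E : Set K) ≤ D := by
      let α := {x : E // x ≠ 1}
      have hα : Nat.card α = 3 := by
        haveI : Fintype E := Fintype.ofFinite _
        rw [Nat.card_eq_fintype_card, Fintype.card_subtype_compl, Fintype.card_subtype_eq,
          ← Nat.card_eq_fintype_card, h.four]
      let act : normalizer (E : Set K) →* Equiv.Perm α :=
        { toFun := fun g => Equiv.Perm.subtypePerm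
            ((Subgroup.normalizerMonoidHom E g : MulAut E).toEquiv) fun x => by simp
          map_one' := by ext x; simp
          map_mul' := fun g g' => by ext x; simp }
      have hker : act.ker ≤ E.subgroupOf (normalizer (E : Set K)) := by
        intro g hg
        obtain ⟨e, he, he1⟩ := h.exists_ne
        have h2 := congrArg (fun f : Equiv.Perm α => ((f ⟨⟨e, he⟩, fun e' => he1
          (congrArg Subtype.val e')⟩ : α) : E)) (MonoidHom.mem_ker.1 hg)
        have h3 : (g : K) * e * (g : K)⁻¹ = e := congrArg Subtype.val h2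
        obtain ⟨x, hx, a, ha, hga⟩ := h.cent e he he1 g (mul_inv_eq_iff_eq_mul.1 h3)
        rw [hA, mem_bot] at ha
        rw [mem_subgroupOf, hga, ha, mul_one]
        exact hx
      have h24 : Nat.card (normalizer (E : Set K)) ∣ 24 := by
        have h1 := Subgroup.card_mul_index act.ker
        rw [Subgroup.index_ker] at h1
        have h2 : Nat.card act.ker ∣ 4 := by
          refine (Subgroup.card_dvd_of_le hker).trans ?_
          rw [Nat.card_congr (Subgroup.subgroupOfEquivOfLe Subgroup.le_normalizer).toEquiv, h.four]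
        have h3 : Nat.card act.range ∣ 6 := by
          refine (Subgroup.card_subgroup_dvd_card _).trans ?_
          rw [Nat.card_perm, hα]; rfl
        rw [← h1]
        exact mul_dvd_mul h2 h3
      have h12 : Nat.card (normalizer (E : Set K)) ∣ 12 := by
        have h8 : ¬ 8 ∣ Nat.card (normalizer (E : Set K)) := fun h8 =>
          h.not_eight (h8.trans (Subgroup.card_subgroup_dvd_card _))
        have := Nat.le_of_dvd (by norm_num) h24
        interval_cases hc : Nat.card (normalizer (E : Set K)) <;> omega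
      have hsub : (normalizer ((E.subgroupOf D : Subgroup D) : Set D)).map D.subtype ≤
          normalizer (E : Set K) := by
        refine (Subgroup.le_normalizer_map D.subtype).trans ?_
        rw [map_subgroupOf_eq_of_le hED]
      have := Subgroup.eq_of_le_of_card_ge hsub (by
        rw [Subgroup.card_map_of_injective D.subtype_injective, h60.card_normalizer]
        exact Nat.le_of_dvd (by norm_num) h12)
      rw [← this]
      exact map_subtype_le _
    rwa [sup_eq_right.2 hle] at hNK
  subst hDtop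
  refine ⟨hA, by rw [← hD60, card_top], ?_⟩
  haveI := hDsimple
  exact (Subgroup.topEquiv : (⊤ : Subgroup K) ≃* K).symm.isSimpleGroup

/-- The core-free case. -/
theorem FourAbelian.core_free (h : FourAbelian K E A) (hO : oddCore K = ⊥) :
    A = ⊥ ∧ (E.Normal ∨ Nat.card K = 60 ∧ IsSimpleGroup K) := by
  by_cases hs : Group.IsSolvable K
  · exact ⟨(h.solvable_case hO).1, Or.inl (h.solvable_case hO).2⟩
  · exact ⟨(h.nonsolvable_case hO hs).1, Or.inr (h.nonsolvable_case hO hs).2⟩

theorem FourAbelian.map_oddCore (h : FourAbelian K E A) {D : Type u} [Group D] [Finite D]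
    (φ : K →* D) (hφ : Function.Surjective φ) (hker : φ.ker = oddCore K) :
    FourAbelian D (E.map φ) (A.map φ) := by
  haveI : Fact (Nat.Prime 2) := ⟨Nat.prime_two⟩
  have hcop : (Nat.card (oddCore K)).Coprime 2 := CfsgLib.PCore.pPrimeCore_coprime
  have hinj : ∀ v ∈ E, φ v = 1 → v = 1 := by
    intro v hv e
    have h1 : orderOf v ∣ 2 := orderOf_dvd_of_pow_eq_one (by rw [pow_two]; exact h.sq v hv)
    have h2 := Subgroup.orderOf_dvd_natCard φ.ker (MonoidHom.mem_ker.2 e)
    rw [hker] at h2
    exact orderOf_eq_one_iff.1 (Nat.eq_one_of_dvd_coprimes hcop h2 h1)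
  refine ⟨?_, ?_, ?_, ?_, ?_, ?_⟩
  · rw [← h.four]
    refine (Nat.card_eq_of_bijective (fun v : E => (⟨φ v, mem_map_of_mem φ v.2⟩ : E.map φ)) ⟨?_, ?_⟩).symm
    · intro v w e
      have e' : φ v = φ w := congrArg Subtype.val e
      refine Subtype.ext (inv_mul_eq_one.1 (hinj _ (mul_mem (inv_mem v.2) w.2) ?_))
      rw [map_mul, map_inv, e', inv_mul_cancel]
    · rintro ⟨_, v, hv, rfl⟩
      exact ⟨⟨v, hv⟩, rfl⟩
  · rintro _ ⟨v, hv, rfl⟩
    rw [← map_mul, h.sq v hv, map_one]
  · exact h.odd.of_dvd_nat (Subgroup.card_map_dvd A φ)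
  · rintro _ ⟨a, ha, rfl⟩ _ ⟨e, he, rfl⟩
    exact (h.comm a ha e he).map φ
  · rintro _ ⟨a, ha, rfl⟩ _ ⟨b, hb, rfl⟩
    exact (h.abel a ha b hb).map φ
  · rintro _ ⟨e, he, rfl⟩ he1 g hg
    obtain ⟨g, rfl⟩ := hφ g
    have hmem : g⁻¹ * e⁻¹ * g * e ∈ oddCore K := by
      rw [← hker, MonoidHom.mem_ker, map_mul, map_mul, map_mul, map_inv, map_inv, mul_assoc, hg.eq]
      group
    haveI : (oddCore K).Normal := hker ▸ φ.normal_ker
    obtain ⟨k, hk, hkc⟩ := CfsgLib.InvChar.RankThree.exists_commute_lift (oddCore K) Nat.prime_two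
      ((Nat.prime_two.coprime_iff_not_dvd).1 hcop.symm) (x := e)
      ⟨1, by rw [pow_one, pow_two]; exact h.sq e he⟩ hmem
    obtain ⟨x, hx, a, ha, hxa⟩ := h.cent e he (fun e' => he1 (by rw [e', map_one])) _ hkc
    refine ⟨φ x, mem_map_of_mem φ hx, φ a, mem_map_of_mem φ ha, ?_⟩
    rw [← map_mul, ← hxa, map_mul, show φ k = 1 from MonoidHom.mem_ker.1 (hker ▸ hk), mul_one]

/-- The structure theorem. -/
theorem FourAbelian.structure_thm (h : FourAbelian K E A) :
    A.Normal ∧ ((∀ g : K, ∀ e ∈ E, g * e * g⁻¹ ∈ E) ∨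
      ∃ (D : Type u) (_ : Group D) (_ : Finite D) (φ : K →* D), Function.Surjective φ ∧ φ.ker = A ∧
        Nat.card D = 60 ∧ IsSimpleGroup D ∧ Sixty D (E.map φ)) := by
  haveI : Fact (Nat.Prime 2) := ⟨Nat.prime_two⟩
  haveI hON : (oddCore K).Normal := pPrimeCore_normal 2 K
  let φ := QuotientGroup.mk' (oddCore K)
  have hs : Function.Surjective φ := QuotientGroup.mk'_surjective _
  have hk : φ.ker = oddCore K := QuotientGroup.ker_mk' _
  have h' := h.map_oddCore φ hs hk
  obtain ⟨hA, hcases⟩ := h'.core_free CfsgLib.InvChar.oddCore_quotient_oddCore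
  have hAO : A ≤ oddCore K := by
    rw [← hk]; exact (Subgroup.map_eq_bot_iff A).1 hA
  -- generation by fixed points
  have hOA : oddCore K ≤ A := by
    haveI : IsMulCommutative E := ⟨⟨fun v w => Subtype.ext (h.commE v v.2 w w.2).eq⟩⟩
    have hnc : ¬ IsCyclic E := fun hc => by
      obtain ⟨g, hg⟩ := hc.exists_generator
      have := orderOf_le_of_pow_eq_one (x := g) two_pos
        (by rw [pow_two]; exact Subtype.ext (h.sq g g.2))
      rw [orderOf_eq_card_of_forall_mem_zpowers hg, h.four] at this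
      omega
    rw [← CfsgLib.CoprimeGeneration.iSup_centralizer_eq E (oddCore K) hnc
      (by rw [normalizer_eq_top]; exact le_top) (by
        rw [h.four, show (4 : ℕ) = 2 ^ 2 by norm_num]
        exact (Nat.Coprime.pow_right 2 CfsgLib.PCore.pPrimeCore_coprime).symm)]
    refine iSup₂_le fun e he g hg => ?_
    obtain ⟨x, hx, a, ha, rfl⟩ := h.cent e he.1 he.2 g (mem_centralizer_singleton_iff.1 hg.2)
    have hxO : x ∈ oddCore K := by
      have : x * a * a⁻¹ ∈ oddCore K := mul_mem hg.1 (inv_mem (hAO ha))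
      rwa [mul_inv_cancel_right] at this
    have h1 : orderOf x ∣ 2 := orderOf_dvd_of_pow_eq_one (by rw [pow_two]; exact h.sq x hx)
    rw [orderOf_eq_one_iff.1 (Nat.eq_one_of_dvd_coprimes
      (CfsgLib.PCore.pPrimeCore_coprime (G := K) (p := 2)) (Subgroup.orderOf_dvd_natCard _ hxO) h1),
      one_mul]
    exact ha
  have heq : A = oddCore K := le_antisymm hAO hOA
  refine ⟨heq ▸ hON, ?_⟩
  rcases hcases with hN | ⟨h60, hsimple⟩
  · refine Or.inl fun g e he => ?_
    obtain ⟨e', he', hee⟩ := hN.conj_mem _ (mem_map_of_mem φ he) (φ g)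
    have ha : e'⁻¹ * (g * e * g⁻¹) ∈ A := by
      rw [heq, ← hk, MonoidHom.mem_ker, map_mul, map_inv, hee, map_mul, map_mul, map_inv,
        inv_mul_cancel]
    set a := e'⁻¹ * (g * e * g⁻¹) with ha_def
    have hge : g * e * g⁻¹ = e' * a := by rw [ha_def, mul_inv_cancel_left]
    have h2 : a * a = 1 := by
      have h3 : (e' * a) * (e' * a) = 1 := by
        rw [← hge, show g * e * g⁻¹ * (g * e * g⁻¹) = g * (e * e) * g⁻¹ by group, h.sq e he]; group
      calc a * a = (e' * e') * (a * a) := by rw [h.sq e' he', one_mul]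
        _ = e' * (e' * a) * a := by group
        _ = e' * (a * e') * a := by rw [(h.comm a ha e' he').eq]
        _ = (e' * a) * (e' * a) := by group
        _ = 1 := h3
    have ho : Odd (orderOf a) := h.odd.of_dvd_nat (Subgroup.orderOf_dvd_natCard _ ha)
    have ha1 : a = 1 := orderOf_eq_one_iff.1 (Nat.eq_one_of_dvd_coprimes
      (Nat.coprime_two_right.2 ho) dvd_rfl (orderOf_dvd_of_pow_eq_one (by rw [pow_two, h2])))
    rw [hge, ha1, mul_one]
    exact he'
  · refine Or.inr ⟨_, inferInstance, inferInstance, φ, hs, hk.trans heq.symm, h60, hsimple,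
      hsimple, h60, h'.four, h'.sq, h'.commE, fun v hv hv1 g hg => ?_⟩
    obtain ⟨x, hx, a, ha, rfl⟩ := h'.cent v hv hv1 g hg
    rw [hA, mem_bot] at ha
    rw [ha, mul_one]
    exact hx

end CfsgLib.ReeOrder.Local
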