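import Cfsg.Agent.Lib.ReeOrder.Setup
import Cfsg.Agent.Lib.ReeOrder.Local.KleinAbelian

/-!
The centralisers of two commuting involutions, of odd torus elements and of elements of the second
torus, in the setting of `Conf`.
-/

set_option autoImplicit false
set_option linter.unusedSectionVars false
set_option linter.style.haveILetI false

open Matrix

namespace CfsgLib.ReeOrder.Local

/-- Odd order and square one force triviality. -/
theorem eq_one_of_odd {G : Type*} [Group G] {x : G} (ho : Odd (orderOf x)) (h : x * x = 1) : x = 1 :=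
  orderOf_eq_one_iff.1 (Nat.eq_one_of_dvd_coprimes (Nat.coprime_two_right.2 ho) dvd_rfl
    (orderOf_dvd_of_pow_eq_one (by rw [pow_two, h])))

/-- An element of odd order is a power of its square. -/
theorem mem_zpowers_sq {G : Type*} [Group G] {x : G} (ho : Odd (orderOf x)) :
    x ∈ Subgroup.zpowers (x * x) := by
  obtain ⟨k, hk⟩ := ho
  refine Subgroup.mem_zpowers_iff.2 ⟨(k + 1 : ℕ), ?_⟩
  rw [zpow_natCast, ← pow_two, ← pow_mul, show 2 * (k + 1) = orderOf x + 1 by omega, pow_succ,
    pow_orderOf_eq_one, one_mul]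

/-- An odd element commutes with what its square commutes with. -/
theorem commute_of_sq {G : Type*} [Group G] {x y : G} (ho : Odd (orderOf x))
    (h : Commute (x * x) y) : Commute x y := by
  obtain ⟨i, hi⟩ := Subgroup.mem_zpowers_iff.1 (mem_zpowers_sq ho)
  rw [← hi]; exact h.zpow_left i

/-- The elements of a four group. -/
def fourGroup {G : Type*} [Group G] (v w : G) (hv : v * v = 1) (hw : w * w = 1)
    (hc : Commute v w) : Subgroup G where
  carrier := {x | x = 1 ∨ x = v ∨ x = w ∨ x = v * w}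
  one_mem' := Or.inl rfl
  mul_mem' := by
    have hwv : w * v = v * w := hc.eq.symm
    have hvk : v * (v * w) = w := by rw [← mul_assoc, hv, one_mul]
    have hwk : w * (v * w) = v := by rw [← mul_assoc, hwv, mul_assoc, hw, mul_one]
    have hkv : v * w * v = w := by rw [mul_assoc, hwv, hvk]
    have hkw : v * w * w = v := by rw [mul_assoc, hw, mul_one]
    have hkk : v * w * (v * w) = 1 := by rw [← mul_assoc (v * w), hkv, hw]
    rintro a b (ha | ha | ha | ha) (hb | hb | hb | hb) <;> subst a b <;>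
      simp only [one_mul, mul_one, hv, hw, hwv, hvk, hwk, hkv, hkw, hkk, Set.mem_ofPred_eq,
        true_or, or_true]
  inv_mem' := by
    rintro a (ha | ha | ha | ha) <;> subst a <;>
      simp [inv_eq_of_mul_eq_one_right hv, inv_eq_of_mul_eq_one_right hw, hc.eq]

theorem mem_fourGroup {G : Type*} [Group G] {v w : G} {hv : v * v = 1} {hw : w * w = 1}
    {hc : Commute v w} {x : G} :
    x ∈ fourGroup v w hv hw hc ↔ x = 1 ∨ x = v ∨ x = w ∨ x = v * w := Iff.rfl

end CfsgLib.ReeOrder.Local

namespace CfsgLib.ReeOrder.Conf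

open Cfsg CfsgLib.ReeType CfsgLib.ReeOrder.Local

universe u

variable {G : Type u} [Group G] [Fintype G]
variable {F : Type} [Field F] [Fintype F] [DecidableEq F]
variable {t : G} (K : Conf t F)

local notation "PSL2" => Matrix.ProjectiveSpecialLinearGroup (Fin 2) F

omit [DecidableEq F] in
theorem IsFour.sq {v w : G} [DecidableEq F] {K : Conf t F} (h : K.IsFour v w) :
    v * v = 1 ∧ w * w = 1 :=
  ⟨Psl.involution_mul_self h.1, Psl.involution_mul_self h.2.1⟩

/-- Generators of the centralizer of two commuting involutions. -/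
structure Pair (K : Conf t F) (v w c r : G) : Prop where
  isFour : K.IsFour v w
  ord_c : orderOf c = coTorus K.q
  ord_r : orderOf r = 2
  cv : Commute c v
  cw : Commute c w
  rv : Commute r v
  rw' : Commute r w
  inv : r * c * r⁻¹ = c⁻¹
  gen : ∀ g, Commute g v → Commute g w → ∃ (j : ℕ) (x : G), (x = 1 ∨ x = v ∨ x = w ∨ x = v * w) ∧
    (g = c ^ j * x ∨ g = c ^ j * x * r)

theorem isFour_swap {v w : G} (h : K.IsFour v w) : K.IsFour w v :=
  ⟨h.2.1, h.1, h.2.2.1.symm, h.2.2.2.symm⟩

theorem isFour_mul {v w : G} (h : K.IsFour v w) : K.IsFour v (v * w) := by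
  obtain ⟨hv, hw, hvw, hne⟩ := h
  have v1 : v ≠ 1 := fun e => by rw [e, orderOf_one] at hv; omega
  have w1 : w ≠ 1 := fun e => by rw [e, orderOf_one] at hw; omega
  have hv2 := Psl.involution_mul_self hv
  have hw2 := Psl.involution_mul_self hw
  refine ⟨hv, orderOf_eq_prime ?_ ?_, (Commute.refl v).mul_right hvw, fun e => w1 ?_⟩
  · rw [hvw.mul_pow, pow_two, pow_two, hv2, hw2, one_mul]
  · intro e
    apply hne
    rw [← mul_one v, ← hw2, ← mul_assoc, e, one_mul]
  · exact left_eq_mul.1 e

include K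

/-- The centralizer of two commuting involutions, the first being `t`. -/
theorem exists_pair_self {w : G} (h : K.IsFour t w) : ∃ c r : G, K.Pair t w c r := by
  obtain ⟨i, hi, hwe⟩ := K.involution_cases h.2.2.1.symm h.2.1 h.2.2.2.symm
  obtain ⟨c, r, hc, hr, hci, hri, -, hinv, hgen⟩ := Psl.invol_centralizer K.q_mod K.q_ge hi
  have hcomm : ∀ k : PSL2, Commute k i → Commute (K.cent.up k) w := by
    intro k hk
    rcases hwe with rfl | rfl
    · exact hk.map K.cent.up
    · exact (K.mul_t_comm k).mul_right (hk.map K.cent.up)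
  refine ⟨K.cent.up c, K.cent.up r, h, ?_, ?_, K.mul_t_comm c, hcomm c hci, K.mul_t_comm r,
    hcomm r hri, by rw [← map_inv, ← map_mul, ← map_mul, hinv, map_inv], fun g hgt hgw => ?_⟩
  · rw [orderOf_injective _ K.cent.up_injective]; exact hc
  · rw [orderOf_injective _ K.cent.up_injective]; exact hr
  obtain ⟨k, hk⟩ := K.cent_cases hgt
  have hki : Commute k i := by
    have hgi : Commute (K.cent.up k) (K.cent.up i) := by
      have hkw : Commute (K.cent.up k) w := by
        rcases hk with rfl | rfl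
        · exact hgw
        · have := (h.2.2.1.mul_left hgw)
          rwa [← mul_assoc, K.t_mul_self, one_mul] at this
      rcases hwe with rfl | rfl
      · exact hkw
      · have := (K.mul_t_comm k).mul_right hkw
        rwa [← mul_assoc, K.t_mul_self, one_mul] at this
    exact K.up_inj (by rw [map_mul, map_mul]; exact hgi.eq)
  obtain ⟨j, e, f, hke⟩ := hgen k hki
  -- the four group part
  have hup : ∀ e : Fin 2, K.cent.up (i ^ (e : ℕ)) = 1 ∨ K.cent.up (i ^ (e : ℕ)) = w ∨
      K.cent.up (i ^ (e : ℕ)) = t * w := by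
    intro e
    fin_cases e
    · exact Or.inl (by simp)
    · rcases hwe with rfl | rfl
      · exact Or.inr (Or.inl (by simp))
      · exact Or.inr (Or.inr (by simp [← mul_assoc, K.t_mul_self]))
  have htt : ∀ z : G, t * (t * z) = z := fun z => by rw [← mul_assoc, K.t_mul_self, one_mul]
  have hte : ∀ z, t * (K.cent.up c ^ j * z) = K.cent.up c ^ j * (t * z) := fun z => by
    rw [← mul_assoc, ((K.mul_t_comm c).pow_left j).eq.symm, mul_assoc]
  have hfin : ∀ x, (x = 1 ∨ x = t ∨ x = w ∨ x = t * w) → ∃ x', (x' = 1 ∨ x' = t ∨ x' = w ∨ x' = t * w) ∧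
      t * x = x' := by
    rintro x (hx | hx | hx | hx) <;> subst x
    · exact ⟨t, by simp, mul_one t⟩
    · exact ⟨1, by simp, K.t_mul_self⟩
    · exact ⟨t * w, by simp, rfl⟩
    · exact ⟨w, by simp, htt w⟩
  obtain ⟨x, hx, hxe⟩ : ∃ x, (x = 1 ∨ x = t ∨ x = w ∨ x = t * w) ∧ K.cent.up (i ^ (e : ℕ)) = x := by
    rcases hup e with h | h | h <;> exact ⟨_, by simp, h⟩
  have hupk : K.cent.up k = K.cent.up c ^ j * x * K.cent.up r ^ (f : ℕ) := by
    rw [hke, map_mul, map_mul, map_pow, map_pow K.cent.up r, hxe]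
  obtain ⟨x', hx', hxe'⟩ := hfin x hx
  fin_cases f
  · simp only [pow_zero, mul_one] at hupk
    rcases hk with rfl | rfl
    · exact ⟨j, x, hx, Or.inl hupk⟩
    · exact ⟨j, x', hx', Or.inl (by rw [hupk, hte, hxe'])⟩
  · simp only [pow_one] at hupk
    rcases hk with rfl | rfl
    · exact ⟨j, x, hx, Or.inr hupk⟩
    · exact ⟨j, x', hx', Or.inr (by rw [hupk, mul_assoc _ x, hte, ← mul_assoc t x, hxe', mul_assoc])⟩

/-- The centralizer of two commuting involutions. -/
theorem exists_pair {v w : G} (h : K.IsFour v w) : ∃ c r : G, K.Pair v w c r := by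
  obtain ⟨K'⟩ := K.conf_of_involution h.1
  obtain ⟨c, r, P⟩ := K'.exists_pair_self h
  exact ⟨c, r, h, P.ord_c, P.ord_r, P.cv, P.cw, P.rv, P.rw', P.inv, P.gen⟩

/-- Elements of the centralizer of an involution commuting with the same odd element commute. -/
theorem commute_of_odd {x g h : G} (hxt : Commute x t) (x1 : x ≠ 1) (hx : Odd (orderOf x))
    (hgt : Commute g t) (hgx : Commute g x) (hht : Commute h t) (hhx : Commute h x) : Commute g h := by
  let sub : ∀ y : G, Commute y t → Subgroup.centralizer ({t} : Set G) := fun y hy =>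
    ⟨y, Subgroup.mem_centralizer_singleton_iff.2 hy.eq⟩
  have key : ∀ y (hy : Commute y t), Commute y x →
      Commute (K.cent.kappa (sub y hy)) (K.cent.kappa (sub x hxt)) := fun y hy hyx =>
    Commute.map (show Commute (sub y hy) (sub x hxt) from Subtype.ext hyx.eq) K.cent.kappa
  refine K.cent.commute_of_kappa (x := sub g hgt) (x' := sub h hht) ?_
  refine Psl.cent_comm K.q_mod K.q_ge ?_ ?_ (key g hgt hgx) (key h hht hhx)
  · intro e
    rcases K.cent.eq_one_or_self hxt e with e' | e'
    · exact x1 e'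
    · rw [e', K.orderOf_t] at hx; exact absurd hx (by decide)
  · refine hx.of_dvd_nat ?_
    refine (orderOf_map_dvd _ _).trans ?_
    rw [Subgroup.orderOf_mk]

variable {K}

theorem Pair.odd_c {v w c r : G} (P : K.Pair v w c r) : Odd (orderOf c) := P.ord_c ▸ K.odd_a

theorem Pair.commute_zpow {v w c r z : G} (P : K.Pair v w c r) (hz : z ∈ Subgroup.zpowers c) :
    Commute z v ∧ Commute z w ∧ r * z * r⁻¹ = z⁻¹ ∧ Odd (orderOf z) ∧ orderOf z ∣ coTorus K.q := by
  obtain ⟨k, rfl⟩ := Subgroup.mem_zpowers_iff.1 hz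
  have hd : orderOf (c ^ k) ∣ orderOf c := by
    rw [← Nat.card_zpowers, ← Nat.card_zpowers]
    exact Subgroup.card_dvd_of_le (Subgroup.zpowers_le.2 (Subgroup.zpow_mem_zpowers c k))
  exact ⟨P.cv.zpow_left k, P.cw.zpow_left k, by rw [← conj_zpow, P.inv, _root_.inv_zpow],
    P.odd_c.of_dvd_nat hd, P.ord_c ▸ hd⟩

theorem Pair.cross {v w c r g z : G} (P : K.Pair v w c r) (hz : z ∈ Subgroup.zpowers c)
    {j : ℕ} {x : G} (hx : x = 1 ∨ x = v ∨ x = w ∨ x = v * w) (hg : g = c ^ j * x * r) :
    g * g = 1 ∧ g * z * g⁻¹ = z⁻¹ := by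
  obtain ⟨hv2, hw2⟩ := P.isFour.sq
  have hvw := P.isFour.2.2.1
  have hr2 : r * r = 1 := Psl.involution_mul_self P.ord_r
  have hxc : Commute x c ∧ Commute x r ∧ x * x = 1 := by
    rcases hx with rfl | rfl | rfl | rfl
    · exact ⟨Commute.one_left _, Commute.one_left _, one_mul 1⟩
    · exact ⟨P.cv.symm, P.rv.symm, hv2⟩
    · exact ⟨P.cw.symm, P.rw'.symm, hw2⟩
    · refine ⟨P.cv.symm.mul_left P.cw.symm, P.rv.symm.mul_left P.rw'.symm, ?_⟩
      rw [hvw.symm.mul_mul_mul_comm, hv2, hw2, one_mul]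
  have hrc : r * c ^ j = (c ^ j)⁻¹ * r := by
    rw [← inv_pow, ← P.inv, conj_pow, inv_mul_cancel_right]
  constructor
  · rw [hg]
    calc c ^ j * x * r * (c ^ j * x * r) = c ^ j * (x * (r * c ^ j)) * (x * r) := by group
      _ = c ^ j * ((c ^ j)⁻¹ * (x * r)) * (x * r) := by
        rw [hrc, ← mul_assoc x, ((hxc.1.pow_right j).inv_right).eq]; group
      _ = x * (r * x) * r := by group
      _ = 1 := by rw [← hxc.2.1.eq, ← mul_assoc, hxc.2.2, one_mul, hr2]
  · obtain ⟨k, rfl⟩ := Subgroup.mem_zpowers_iff.1 hz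
    rw [hg, ← conj_zpow, ← _root_.inv_zpow]
    congr 1
    calc c ^ j * x * r * c * (c ^ j * x * r)⁻¹ = c ^ j * (x * (r * c * r⁻¹) * x⁻¹) * (c ^ j)⁻¹ := by
          group
      _ = c⁻¹ := by
        rw [P.inv, (hxc.1.inv_right).eq, mul_inv_cancel_right,
          (((Commute.refl c).pow_left j).inv_right).eq, mul_inv_cancel_right]

theorem Pair.odd_mem {v w c r g : G} (P : K.Pair v w c r) (hv : Commute g v) (hw : Commute g w)
    (ho : Odd (orderOf g)) : g ∈ Subgroup.zpowers c := by
  obtain ⟨j, x, hx, hg | hg⟩ := P.gen g hv hw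
  · obtain ⟨hv2, hw2⟩ := P.isFour.sq
    have hxc : Commute x c ∧ x * x = 1 := by
      rcases hx with rfl | rfl | rfl | rfl
      · exact ⟨Commute.one_left _, one_mul 1⟩
      · exact ⟨P.cv.symm, hv2⟩
      · exact ⟨P.cw.symm, hw2⟩
      · exact ⟨P.cv.symm.mul_left P.cw.symm, by rw [P.isFour.2.2.1.symm.mul_mul_mul_comm, hv2, hw2, one_mul]⟩
    have hg2 : g * g ∈ Subgroup.zpowers c := by
      rw [hg, (hxc.1.pow_right j).mul_mul_mul_comm, hxc.2, mul_one]
      exact mul_mem (Subgroup.npow_mem_zpowers c j) (Subgroup.npow_mem_zpowers c j)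
    exact Subgroup.zpowers_le.2 hg2 (mem_zpowers_sq ho)
  · rw [eq_one_of_odd ho (P.cross (one_mem _) hx hg).1]
    exact one_mem _

/-- The centralizer of an element of the second torus has the structure of `FourAbelian`. -/
theorem Pair.fourAbelian {v w c r z : G} (P : K.Pair v w c r) (hz : z ∈ Subgroup.zpowers c)
    (z1 : z ≠ 1) :
    FourAbelian (Subgroup.centralizer ({z} : Set G))
      ((fourGroup v w P.isFour.sq.1 P.isFour.sq.2 P.isFour.2.2.1).subgroupOf
        (Subgroup.centralizer ({z} : Set G)))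
      ((Subgroup.zpowers c).subgroupOf (Subgroup.centralizer ({z} : Set G))) := by
  classical
  obtain ⟨hzv, hzw, hzr, hzo, -⟩ := P.commute_zpow hz
  set E := fourGroup v w P.isFour.sq.1 P.isFour.sq.2 P.isFour.2.2.1 with hE
  have hEle : E ≤ Subgroup.centralizer ({z} : Set G) := by
    intro x hx
    rw [Subgroup.mem_centralizer_singleton_iff]
    rcases hx with rfl | rfl | rfl | rfl
    · simp
    · exact hzv.eq.symm
    · exact hzw.eq.symm
    · exact (hzv.mul_right hzw).eq.symm
  have hAle : Subgroup.zpowers c ≤ Subgroup.centralizer ({z} : Set G) := by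
    obtain ⟨k, rfl⟩ := Subgroup.mem_zpowers_iff.1 hz
    exact Subgroup.zpowers_le.2 (Subgroup.mem_centralizer_singleton_iff.2
      ((Commute.refl c).zpow_right k).eq)
  obtain ⟨hv, hw, hvw, hne⟩ := P.isFour
  have v1 : v ≠ 1 := fun e => by rw [e, orderOf_one] at hv; omega
  have w1 : w ≠ 1 := fun e => by rw [e, orderOf_one] at hw; omega
  have k1 : v * w ≠ 1 := fun e => hne (by
    rw [← mul_one v, ← Psl.involution_mul_self hw, ← mul_assoc, e, one_mul])
  have h4 : Nat.card E = 4 := by
    have : (E : Set G) = {1, v, w, v * w} := by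
      ext x; simp [hE, mem_fourGroup]
    rw [← SetLike.coe_sort_coe, Nat.card_coe_set_eq, this]
    have hvk : v ≠ v * w := fun e => w1 (left_eq_mul.1 e)
    have hwk : w ≠ v * w := fun e => v1 (right_eq_mul.1 e)
    simp [Set.ncard_insert_of_notMem, v1.symm, w1.symm, k1.symm, hne, hvk, hwk]
  have hsq : ∀ x ∈ E, x * x = 1 := by
    rintro x (rfl | rfl | rfl | rfl)
    · exact one_mul 1
    · exact Psl.involution_mul_self hv
    · exact Psl.involution_mul_self hw
    · rw [hvw.symm.mul_mul_mul_comm, Psl.involution_mul_self hv, Psl.involution_mul_self hw, one_mul]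
  refine ⟨?_, fun x hx => Subtype.ext (hsq _ hx), ?_, ?_, ?_, ?_⟩
  · rw [Nat.card_congr (Subgroup.subgroupOfEquivOfLe hEle).toEquiv, h4]
  · rw [Nat.card_congr (Subgroup.subgroupOfEquivOfLe hAle).toEquiv, Nat.card_zpowers]
    exact P.odd_c
  · rintro a ha e he
    refine Subtype.ext ?_
    obtain ⟨k, hk⟩ := Subgroup.mem_zpowers_iff.1 (Subgroup.mem_subgroupOf.1 ha)
    show (a : G) * e = e * a
    rw [← hk]
    rcases Subgroup.mem_subgroupOf.1 he with e' | e' | e' | e' <;> rw [e']
    · simp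
    · exact (P.cv.zpow_left k).eq
    · exact (P.cw.zpow_left k).eq
    · exact ((P.cv.zpow_left k).mul_right (P.cw.zpow_left k)).eq
  · rintro a ha b hb
    refine Subtype.ext ?_
    show (a : G) * b = b * a
    exact congrArg Subtype.val (mul_comm' (⟨(a : G), Subgroup.mem_subgroupOf.1 ha⟩ : Subgroup.zpowers c)
      ⟨(b : G), Subgroup.mem_subgroupOf.1 hb⟩)
  · intro e he he1 g hg
    have he1' : (e : G) ≠ 1 := fun h => he1 (Subtype.ext h)
    have heo : orderOf (e : G) = 2 :=
      orderOf_eq_prime (by rw [pow_two]; exact hsq _ (Subgroup.mem_subgroupOf.1 he)) he1'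
    obtain ⟨K'⟩ := K.conf_of_involution heo
    have hee : Commute z (e : G) := (Subgroup.mem_centralizer_singleton_iff.1 e.2).symm
    have hgz : Commute (g : G) z := Subgroup.mem_centralizer_singleton_iff.1 g.2
    have hev : ∀ x ∈ E, Commute x (e : G) := by
      intro x hx
      have hxe := hsq _ (mul_mem hx (Subgroup.mem_subgroupOf.1 he))
      calc x * e = (x * e)⁻¹ := eq_inv_of_mul_eq_one_left hxe
        _ = (e : G)⁻¹ * x⁻¹ := mul_inv_rev _ _
        _ = e * x := by
          rw [inv_eq_of_mul_eq_one_right (hsq _ hx),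
            inv_eq_of_mul_eq_one_right (hsq _ (Subgroup.mem_subgroupOf.1 he))]
    have hge : Commute (g : G) (e : G) := congrArg Subtype.val hg
    have hgv : Commute (g : G) v :=
      K'.commute_of_odd hee z1 hzo hge hgz (hev v (Or.inr (Or.inl rfl))) hzv.symm
    have hgw : Commute (g : G) w :=
      K'.commute_of_odd hee z1 hzo hge hgz (hev w (Or.inr (Or.inr (Or.inl rfl)))) hzw.symm
    obtain ⟨j, x, hx, hgx | hgx⟩ := P.gen g hgv hgw
    · refine ⟨⟨x, hEle hx⟩, Subgroup.mem_subgroupOf.2 hx, ⟨c ^ j, hAle (Subgroup.npow_mem_zpowers c j)⟩,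
        Subgroup.mem_subgroupOf.2 (Subgroup.npow_mem_zpowers c j), Subtype.ext ?_⟩
      show (g : G) = x * c ^ j
      rw [hgx]
      rcases hx with rfl | rfl | rfl | rfl
      · simp
      · exact (P.cv.pow_left j).eq
      · exact (P.cw.pow_left j).eq
      · exact ((P.cv.pow_left j).mul_right (P.cw.pow_left j)).eq
    · exfalso
      obtain ⟨-, hinv⟩ := P.cross hz hx hgx
      rw [hgz.eq, mul_inv_cancel_right] at hinv
      exact z1 (eq_one_of_odd hzo (eq_inv_iff_mul_eq_one.1 hinv))

end CfsgLib.ReeOrder.Conf
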