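import Cfsg.Agent.Lib.ReeOrder.Frames

/-!
Basic facts for the centralizers of odd torus elements without further torus elements: fixed-point-free
involutions, elements inverted in the centralizer of an element of the second torus, and centralizers
of unipotent elements.
-/

set_option autoImplicit false
set_option linter.unusedSectionVars false

namespace CfsgLib.ReeOrder.Conf

open Cfsg CfsgLib.ReeType

universe u

section Generic

variable {G : Type u} [Group G] [Finite G]

/-- An involution without fixed points on a subgroup inverts it. -/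
theorem inverts_of_fpf {S : Subgroup G} {i : G} (hi : i * i = 1) (hn : ∀ s ∈ S, i * s * i ∈ S)
    (hf : ∀ s ∈ S, Commute s i → s = 1) :
    (∀ s ∈ S, i * s * i = s⁻¹) ∧ ∀ s ∈ S, ∀ r ∈ S, Commute s r := by
  have key : ∀ a b : G, i * (a * b) * i = i * a * i * (i * b * i) := fun a b => by
    calc i * (a * b) * i = i * a * (i * i) * b * i := by rw [hi, mul_one]; group
      _ = _ := by group
  let φ : S →* S := MonoidHom.mk' (fun s => ⟨i * s * i, hn s s.2⟩) fun a b => Subtype.ext (key a b)
  have hfp : MonoidHom.FixedPointFree φ := fun s hs => Subtype.ext (hf s s.2 (by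
    have h : i * (s : G) * i = s := congrArg Subtype.val hs
    show (s : G) * i = i * s
    calc (s : G) * i = i * (s : G) * i * i := by rw [h]
      _ = i * s := by rw [mul_assoc, hi, mul_one]))
  have hinv : Function.Involutive φ := fun s => Subtype.ext (by
    show i * (i * (s : G) * i) * i = s
    calc i * (i * (s : G) * i) * i = i * i * s * (i * i) := by group
      _ = s := by rw [hi, one_mul, mul_one])
  refine ⟨fun s hs => ?_, fun s hs r hr => ?_⟩
  · exact congrArg Subtype.val (congrFun (hfp.coe_eq_inv_of_involutive hinv) ⟨s, hs⟩)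
  · exact congrArg Subtype.val (hfp.commute_all_of_involutive hinv ⟨s, hs⟩ ⟨r, hr⟩)

theorem odd_sq_eq_one {g : G} (ho : Odd (orderOf g)) (h : g * g = 1) : g = 1 :=
  orderOf_eq_one_iff.1 (Nat.eq_one_of_dvd_coprimes (Nat.coprime_two_right.2 ho) dvd_rfl
    (orderOf_dvd_of_pow_eq_one (by rw [pow_two, h])))

theorem odd_sq_commute {g y : G} (ho : Odd (orderOf g)) (h : Commute (g * g) y) : Commute g y := by
  obtain ⟨m, hm⟩ := ho
  have e : g = (g * g) ^ (m + 1) := by
    rw [← pow_two, ← pow_mul, show 2 * (m + 1) = 2 * m + 1 + 1 by ring, pow_succ, ← hm,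
      pow_orderOf_eq_one, one_mul]
  rw [e]
  exact h.pow_left _

theorem orderOf_conj_mul (g a : G) : orderOf (g * a * g⁻¹) = orderOf a :=
  orderOf_injective (MulAut.conj g).toMonoidHom (MulEquiv.injective _) a

theorem orderOf_conj_involution {i : G} (hi : i * i = 1) (a : G) :
    orderOf (i * a * i) = orderOf a := by
  conv_lhs => enter [1, 2]; rw [← inv_eq_of_mul_eq_one_right hi]
  exact orderOf_conj_mul i a

theorem commute_conj_involution {i a b : G} (hi : i * i = 1) (h : Commute a b) :
    Commute (i * a * i) (i * b * i) := by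
  have := h.map (MulAut.conj i).toMonoidHom
  simp only [MulEquiv.coe_toMonoidHom, MulAut.conj_apply, inv_eq_of_mul_eq_one_right hi] at this
  exact this

/-- Conjugation by a normalizing element preserves the centralizer. -/
theorem conj_mem_centralizer {S : Subgroup G} {n : G} (hn : ∀ s ∈ S, n * s * n⁻¹ ∈ S) {g : G}
    (hg : g ∈ Subgroup.centralizer (S : Set G)) :
    n * g * n⁻¹ ∈ Subgroup.centralizer (S : Set G) := by
  have hN : n ∈ Subgroup.normalizer (S : Set G) := Subgroup.mem_normalizer_fintype hn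
  rw [Subgroup.mem_centralizer_iff] at hg ⊢
  intro s hs
  have h := hg _ ((Subgroup.mem_normalizer_iff''.1 hN s).1 hs)
  calc s * (n * g * n⁻¹) = n * (n⁻¹ * s * n * g) * n⁻¹ := by group
    _ = n * (g * (n⁻¹ * s * n)) * n⁻¹ := by rw [h]
    _ = n * g * n⁻¹ * s := by group

end Generic

variable {G : Type u} [Group G] [Fintype G]
variable {F : Type} [Field F] [Fintype F] [DecidableEq F]
variable {t : G} (K : Conf t F)

local notation "PSL2" => Matrix.ProjectiveSpecialLinearGroup (Fin 2) F

include K

/-- Odd elements of order two. -/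
theorem odd_pow_of_double {g : G} (ho : Odd (orderOf g)) {n : ℕ} (h : g ^ (2 * n) = 1) :
    orderOf g ∣ n :=
  (Nat.coprime_two_right.2 ho).dvd_of_dvd_mul_left (orderOf_dvd_of_pow_eq_one h)

/-- An element of the second torus centralizes no element inverted by its involution. -/
theorem no_inverted (hA : K.ATypeData) {i z h : G} (hi : orderOf i = 2) (z1 : z ≠ 1)
    (hzi : Commute z i) (hz : orderOf z ∣ coTorus K.q) (hhz : Commute h z) (hh : i * h * i = h⁻¹)
    (ho : Odd (orderOf h)) : h = 1 := by
  obtain ⟨Ki⟩ := K.conf_of_involution hi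
  obtain ⟨c, v, -, hzc, hf, -, hcv, -⟩ := Ki.aElt_four z1 hzi hz
  have hzv : Commute z v := by
    obtain ⟨j, rfl⟩ := Subgroup.mem_zpowers_iff.1 hzc
    exact hcv.zpow_left j
  have hii := Psl.involution_mul_self hi
  have hiv : Commute i v := hf.2.2.1
  obtain ⟨hg, -⟩ := hA i v z hf z1 hzi hzv hz h hhz
  have hci : Commute (h * i * h⁻¹) i := by
    rcases hg with e | e | e <;> rw [e]
    · exact hiv.symm
    · exact ((Commute.refl i).mul_right hiv).symm
  have e : h * i * h⁻¹ = h * h * i := by
    rw [← hh]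
    calc h * i * (i * h * i) = h * (i * i) * h * i := by group
      _ = h * h * i := by rw [hii, mul_one]
  rw [e] at hci
  have h2 : Commute (h * h) i := by
    have := hci.mul_left (Commute.refl i)
    rwa [mul_assoc (h * h), hii, mul_one] at this
  have h4 : Commute h i := odd_sq_commute ho h2
  refine odd_sq_eq_one ho ?_
  rw [← h4.eq, mul_assoc, hii, mul_one] at hh
  exact mul_eq_one_iff_eq_inv.2 hh

/-- The involutions commuting with a unipotent element. -/
theorem uni_invol (p : ℕ) [Fact p.Prime] [CharP F p] {u g : G} (hu1 : u ≠ 1) (hut : Commute u t)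
    (hu : u ^ p = 1) (hgt : Commute g t) (hgu : Commute g u) (hg : g * g = 1) : g = 1 ∨ g = t := by
  have hp2 := (Psl.coprime_p K.q_mod (F := F) p).2.2
  have hodd : Odd (orderOf u) := ((Nat.Prime.odd_of_ne_two Fact.out hp2)).of_dvd_nat
    (orderOf_dvd_of_pow_eq_one hu)
  obtain ⟨k, rfl, -⟩ := K.odd_up hut hodd
  have k1 : k ≠ 1 := fun e => hu1 (by rw [e, map_one])
  obtain ⟨l, hl⟩ := K.cent_cases hgt
  have hlp := Psl.pow_p_of_commute K.q_mod K.q_ge p k1
    (K.cent.up_injective (by rw [map_pow, hu, map_one])) ((K.commute_iff hl (Or.inl rfl)).1 hgu)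
  have hl2 : l * l = 1 := by
    apply K.cent.up_injective
    rw [map_mul, map_one]
    rcases hl with rfl | rfl
    · exact hg
    · rw [← pow_two, (K.mul_t_comm l).symm.mul_pow, pow_two, K.t_mul_self, one_mul, pow_two] at hg
      exact hg
  have l1 : l = 1 := odd_sq_eq_one ((Nat.Prime.odd_of_ne_two Fact.out hp2).of_dvd_nat
    (orderOf_dvd_of_pow_eq_one hlp)) hl2
  subst l1
  rcases hl with rfl | rfl
  · exact Or.inl (map_one _)
  · exact Or.inr (by rw [map_one, mul_one])

/-- The odd part of the centralizer of a unipotent element. -/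
theorem uni_core (p : ℕ) [Fact p.Prime] [CharP F p] {u : G} (hu1 : u ≠ 1) (hut : Commute u t)
    (hu : u ^ p = 1) :
    ∃ O : Subgroup G, Odd (Nat.card O) ∧ ∀ g, g ∈ O ↔ Commute g u ∧ Odd (orderOf g) := by
  haveI := Fact.mk Nat.prime_two
  set C := Subgroup.centralizer ({u} : Set G)
  have htC : t ∈ C := Subgroup.mem_centralizer_singleton_iff.2 hut.symm.eq
  set t' : C := ⟨t, htC⟩
  have ht' : orderOf t' = 2 := by rw [Subgroup.orderOf_mk]; exact K.orderOf_t
  obtain ⟨P, hP⟩ := (IsPGroup.of_card (n := 1)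
    (show Nat.card (Subgroup.zpowers t') = 2 ^ 1 by rw [Nat.card_zpowers, ht', pow_one])).exists_le_sylow
  have hPt : (P : Subgroup C) = Subgroup.zpowers t' := by
    refine le_antisymm (fun y hy => ?_) hP
    obtain ⟨R, hR⟩ := (P.isPGroup'.map C.subtype).exists_le_sylow
    have hyR : (y : G) ∈ R := hR ⟨y, hy, rfl⟩
    have htR : t ∈ R := hR ⟨t', hP (Subgroup.mem_zpowers t'), rfl⟩
    have hyt : Commute (y : G) t := congrArg Subtype.val (K.comm R ⟨_, hyR⟩ ⟨_, htR⟩)
    have hyu : Commute (y : G) u := Subgroup.mem_centralizer_singleton_iff.1 y.2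
    rcases K.uni_invol p hu1 hut hu hyt hyu (K.sylow_sq R hyR) with h | h
    · rw [show y = 1 from Subtype.ext h]; exact one_mem _
    · rw [show y = t' from Subtype.ext h]; exact Subgroup.mem_zpowers t'
  obtain ⟨O, -, -, hmem⟩ := exists_odd_kernel P
    (by rw [hPt, Nat.card_zpowers, ht']) (hP (Subgroup.mem_zpowers t'))
    (fun e => K.t_ne_one (congrArg Subtype.val e))
  refine ⟨O.map C.subtype, ?_, fun g => ⟨?_, ?_⟩⟩
  · rw [Subgroup.card_map_of_injective C.subtype_injective]
    refine Nat.not_even_iff_odd.1 fun he => ?_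
    obtain ⟨⟨z, hz⟩, hzo⟩ := exists_prime_orderOf_dvd_card' (G := O) 2 (even_iff_two_dvd.1 he)
    rw [Subgroup.orderOf_mk] at hzo
    have := (hmem z).1 hz
    rw [hzo] at this
    simp [Nat.odd_iff] at this
  · rintro ⟨y, hy, rfl⟩
    exact ⟨Subgroup.mem_centralizer_singleton_iff.1 y.2,
      (Subgroup.orderOf_coe y).symm ▸ (hmem y).1 hy⟩
  · rintro ⟨hgu, hgo⟩
    exact ⟨⟨g, Subgroup.mem_centralizer_singleton_iff.2 hgu.eq⟩,
      (hmem _).2 (by rwa [Subgroup.orderOf_mk]), rfl⟩

end CfsgLib.ReeOrder.Conf
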