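import Cfsg.Agent.Lib.ReeOrder.Local.PartTools

/-!
An odd torus element with a further element of the same prime order in a part of its centralizer: a four
group, an element of order three cycling it, and the elementary abelian group `Ω` spanned by three axes.
-/

set_option autoImplicit false
set_option linter.unusedSectionVars false
set_option linter.style.haveILetI false

namespace CfsgLib.ReeOrder.OmegaTools

universe u

variable {G : Type u} [Group G]

/-- Conjugation respects the product of powers. -/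
theorem conj_mul_zpow (g a b : G) (i : ℤ) :
    g * (a * b ^ i) * g⁻¹ = (g * a * g⁻¹) * (g * b * g⁻¹) ^ i := by
  rw [conj_zpow]; group

/-- A power of a product of two elements whose commutator is central. -/
theorem mul_pow_class_two {a b c : G} (hba : b * a = a * b * c) (hca : Commute c a) (hcb : Commute c b)
    (n : ℕ) : (a * b) ^ n = a ^ n * b ^ n * c ^ n.choose 2 := by
  have hbn : ∀ m : ℕ, b ^ m * a = a * b ^ m * c ^ m := by
    intro m
    induction m with
    | zero => simp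
    | succ m ih =>
      calc b ^ (m + 1) * a = b ^ m * (b * a) := by rw [pow_succ]; group
        _ = (b ^ m * a) * b * c := by rw [hba]; group
        _ = a * b ^ m * (c ^ m * b) * c := by rw [ih]; group
        _ = a * b ^ (m + 1) * c ^ (m + 1) := by rw [(hcb.pow_left m).eq, pow_succ b, pow_succ c]; group
  induction n with
  | zero => simp
  | succ n ih =>
    have hC : Commute (c ^ n.choose 2) a := hca.pow_left _
    have hC' : Commute (c ^ n.choose 2) b := hcb.pow_left _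
    have hn : Commute (c ^ n) b := hcb.pow_left _
    calc (a * b) ^ (n + 1) = a ^ n * b ^ n * c ^ n.choose 2 * (a * b) := by rw [pow_succ, ih]
      _ = a ^ n * b ^ n * (c ^ n.choose 2 * a) * b := by group
      _ = a ^ n * (b ^ n * a) * (c ^ n.choose 2 * b) := by rw [hC.eq]; group
      _ = a ^ n * a * b ^ n * (c ^ n * b) * c ^ n.choose 2 := by rw [hbn, hC'.eq]; group
      _ = a ^ (n + 1) * b ^ (n + 1) * (c ^ n * c ^ n.choose 2) := by
        rw [hn.eq, pow_succ a, pow_succ b]; group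
      _ = _ := by rw [← pow_add, Nat.choose_succ_succ n 1, Nat.choose_one_right]

theorem mul_pow_eq_one_class_two {a b c : G} (hba : b * a = a * b * c) (hca : Commute c a) (hcb : Commute c b)
    {r : ℕ} (hr : Odd r) (hc : c ^ r = 1) : (a * b) ^ r = a ^ r * b ^ r := by
  rw [mul_pow_class_two hba hca hcb]
  have : c ^ r.choose 2 = 1 := by
    obtain ⟨m, hm⟩ := hr
    rw [Nat.choose_two_right, show r * (r - 1) / 2 = r * m by
      rw [show r - 1 = m * 2 by omega, ← mul_assoc, Nat.mul_div_cancel _ two_pos], pow_mul, hc, one_pow]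
  rw [this, mul_one]

/-- The elements of `P` of exponent `r` centralizing `P` modulo the central subgroup `N`. -/
def stabSub (P N : Subgroup G) {r : ℕ} (hr : Odd r) (hc : ∀ n ∈ N, ∀ π ∈ P, Commute n π)
    (he : ∀ n ∈ N, n ^ r = 1) : Subgroup G where
  carrier := {y | y ∈ P ∧ y ^ r = 1 ∧ ∀ π ∈ P, y * π * y⁻¹ * π⁻¹ ∈ N}
  one_mem' := ⟨P.one_mem, one_pow r, fun π _ => by simp⟩
  mul_mem' := by
    rintro a b ⟨ha, har, haN⟩ ⟨hb, hbr, hbN⟩
    refine ⟨P.mul_mem ha hb, ?_, fun π hπ => ?_⟩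
    · have hm : b * a * b⁻¹ * a⁻¹ ∈ N := hbN a ha
      rw [mul_pow_eq_one_class_two (c := b * a * b⁻¹ * a⁻¹) ?_ (hc _ hm a ha) (hc _ hm b hb) hr (he _ hm),
        har, hbr, one_mul]
      rw [← (hc _ hm _ (P.mul_mem ha hb)).eq]
      group
    · have e : a * b * π * (a * b)⁻¹ * π⁻¹ =
          a * (b * π * b⁻¹ * π⁻¹) * a⁻¹ * (a * π * a⁻¹ * π⁻¹) := by group
      rw [e, ← (hc _ (hbN π hπ) a ha).eq, mul_inv_cancel_right]
      exact N.mul_mem (hbN π hπ) (haN π hπ)
  inv_mem' := by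
    rintro a ⟨ha, har, haN⟩
    refine ⟨P.inv_mem ha, by rw [inv_pow, har, inv_one], fun π hπ => ?_⟩
    have e : a⁻¹ * π * a⁻¹⁻¹ * π⁻¹ = a⁻¹ * (a * π * a⁻¹ * π⁻¹)⁻¹ * a := by group
    rw [e, mul_assoc, (hc _ (N.inv_mem (haN π hπ)) a ha).eq, ← mul_assoc, inv_mul_cancel, one_mul]
    exact N.inv_mem (haN π hπ)

theorem mem_stabSub {P N : Subgroup G} {r : ℕ} (hr : Odd r) (hc : ∀ n ∈ N, ∀ π ∈ P, Commute n π)
    (he : ∀ n ∈ N, n ^ r = 1) {y : G} :
    y ∈ stabSub P N hr hc he ↔ y ∈ P ∧ y ^ r = 1 ∧ ∀ π ∈ P, y * π * y⁻¹ * π⁻¹ ∈ N := Iff.rfl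

theorem stabSub_normalized {P N : Subgroup G} {r : ℕ} (hr : Odd r) (hc : ∀ n ∈ N, ∀ π ∈ P, Commute n π)
    (he : ∀ n ∈ N, n ^ r = 1) [Finite G] {e : G} (heP : e ∈ Subgroup.normalizer (P : Set G))
    (heN : e ∈ Subgroup.normalizer (N : Set G)) :
    e ∈ Subgroup.normalizer (stabSub P N hr hc he : Set G) := by
  refine Subgroup.mem_normalizer_fintype fun y hy => ?_
  obtain ⟨hyP, hyr, hyN⟩ := hy
  refine ⟨(Subgroup.mem_normalizer_iff.1 heP y).1 hyP, by rw [conj_pow, hyr]; group, fun π hπ => ?_⟩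
  have hπ' : e⁻¹ * π * e ∈ P := (Subgroup.mem_normalizer_iff''.1 heP π).1 hπ
  have := (Subgroup.mem_normalizer_iff.1 heN _).1 (hyN _ hπ')
  convert this using 1
  group

/-- Elements of exponent `r` lie in a central subgroup containing all those centralizing modulo it. -/
theorem mem_of_pGroup {P N : Subgroup G} [Finite G] {r : ℕ} [Fact r.Prime] (hP : IsPGroup r P)
    (hr : Odd r) (hc : ∀ n ∈ N, ∀ π ∈ P, Commute n π) (he : ∀ n ∈ N, n ^ r = 1)
    (hH : ∀ y ∈ P, y ^ r = 1 → (∀ π ∈ P, y * π * y⁻¹ * π⁻¹ ∈ N) → y ∈ N) :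
    ∀ y ∈ P, y ^ r = 1 → y ∈ N := by
  have : Group.IsNilpotent P := hP.isNilpotent
  obtain ⟨n, hn⟩ := Group.IsNilpotent.nilpotent (G := P)
  suffices h : ∀ i, ∀ y : P, y ∈ Subgroup.upperCentralSeries P i → (y : G) ^ r = 1 → (y : G) ∈ N by
    intro y hy hyr
    exact h n ⟨y, hy⟩ (by rw [hn]; exact Subgroup.mem_top _) hyr
  intro i
  induction i with
  | zero =>
    intro y hy _
    rw [Subgroup.upperCentralSeries_zero, Subgroup.mem_bot] at hy
    rw [hy]; exact N.one_mem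
  | succ i ih =>
    intro y hy hyr
    -- commutators with the `i`-th term are in `N`
    have hk : ∀ j, j ≤ i → ∀ k : P, k ∈ Subgroup.upperCentralSeries P j →
        (k : G) * y * (k : G)⁻¹ * (y : G)⁻¹ ∈ N := by
      intro j
      induction j with
      | zero =>
        intro _ k hk
        rw [Subgroup.upperCentralSeries_zero, Subgroup.mem_bot] at hk
        rw [hk]; simp
      | succ j ihj =>
        intro hji k hk
        have hcj : k * y * k⁻¹ * y⁻¹ ∈ Subgroup.upperCentralSeries P j :=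
          Subgroup.mem_upperCentralSeries_succ_iff.1 hk y
        have hci : k * y * k⁻¹ * y⁻¹ ∈ Subgroup.upperCentralSeries P i :=
          (Subgroup.upperCentralSeries_mono P (by omega)) hcj
        refine ih _ hci ?_
        set c : G := (k : G) * y * (k : G)⁻¹ * (y : G)⁻¹ with hcdef
        show c ^ r = 1
        have hc' : c * y * c⁻¹ * (y : G)⁻¹ ∈ N := ihj (by omega) _ hcj
        have hcP : c ∈ P := (k * y * k⁻¹ * y⁻¹).2
        have hky : (c * y) ^ r = 1 := by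
          rw [show c * (y : G) = (k : G) * y * (k : G)⁻¹ by rw [hcdef]; group, conj_pow, hyr]; group
        have hm : (c * y * c⁻¹ * (y : G)⁻¹)⁻¹ ∈ N := N.inv_mem hc'
        rw [mul_pow_eq_one_class_two (c := (c * y * c⁻¹ * (y : G)⁻¹)⁻¹) ?_ (hc _ hm c hcP)
          (hc _ hm y y.2) hr (he _ hm), hyr, mul_one] at hky
        · exact hky
        · rw [← (hc _ hm _ (P.mul_mem hcP y.2)).eq]
          group
    refine hH _ y.2 hyr fun π hπ => ?_
    set k : P := ⟨π, hπ⟩ * y * (⟨π, hπ⟩ : P)⁻¹ * y⁻¹ with hkdef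
    have hki : k ∈ Subgroup.upperCentralSeries P i := by
      have := Subgroup.inv_mem _ (Subgroup.mem_upperCentralSeries_succ_iff.1 hy ⟨π, hπ⟩)
      rw [show k = (y * ⟨π, hπ⟩ * y⁻¹ * (⟨π, hπ⟩ : P)⁻¹)⁻¹ by rw [hkdef]; group]
      exact this
    have hkN := hk i le_rfl k hki
    have hky : ((k : G) * y) ^ r = 1 := by
      rw [show (k : G) * y = π * y * π⁻¹ by rw [hkdef]; push_cast; group, conj_pow, hyr]; group
    have hm : ((k : G) * y * (k : G)⁻¹ * (y : G)⁻¹)⁻¹ ∈ N := N.inv_mem hkN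
    rw [mul_pow_eq_one_class_two (c := ((k : G) * y * (k : G)⁻¹ * (y : G)⁻¹)⁻¹) ?_ (hc _ hm _ k.2)
      (hc _ hm _ y.2) hr (he _ hm), hyr, mul_one] at hky
    · have := N.inv_mem (ih k hki hky)
      rw [hkdef] at this
      push_cast at this
      convert this using 1
      group
    · rw [← (hc _ hm _ (P.mul_mem k.2 y.2)).eq]
      group

/-- An element of odd order commuting with and inverted by the same element is trivial. -/
theorem eq_one_of_both {e y : G} (he : e * e = 1) (hc : Commute y e) (hi : e * y * e = y⁻¹)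
    (ho : Odd (orderOf y)) : y = 1 := by
  have h2 : y ^ 2 = 1 := by
    rw [← hc.eq, mul_assoc, he, mul_one] at hi
    rw [pow_two]
    exact mul_eq_one_iff_eq_inv.2 hi
  exact orderOf_eq_one_iff.1 (Nat.eq_one_of_dvd_coprimes (Nat.coprime_two_right.2 ho) dvd_rfl
    (orderOf_dvd_of_pow_eq_one h2))

theorem inv_zpow_conj {e y : G} (he : e * e = 1) (hi : e * y * e = y⁻¹) (i : ℤ) :
    e * y ^ i * e = y ^ (-i) := by
  have heinv : e⁻¹ = e := inv_eq_of_mul_eq_one_right he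
  calc e * y ^ i * e = e * y ^ i * e⁻¹ := by rw [heinv]
    _ = (e * y * e⁻¹) ^ i := conj_zpow.symm
    _ = y ^ (-i) := by rw [heinv, hi, _root_.inv_zpow, _root_.zpow_neg]

/-- An element of odd order with trivial square. -/
theorem eq_one_of_double {y : G} {r : ℕ} (hr : Odd r) (hy : orderOf y = r) {k : ℤ} (h : y ^ (2 * k) = 1) :
    y ^ k = 1 := by
  rw [← orderOf_dvd_iff_zpow_eq_one, hy] at h ⊢
  refine Int.dvd_of_dvd_mul_right_of_gcd_one h ?_
  rw [show ((2 : ℤ)) = ((2 : ℕ) : ℤ) from rfl, Int.gcd_natCast_natCast]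
  exact Nat.coprime_two_right.2 hr

end CfsgLib.ReeOrder.OmegaTools

namespace CfsgLib.ReeOrder.Conf

open Cfsg CfsgLib.ReeType PartTools OmegaTools

universe u

variable {G : Type u} [Group G] [Fintype G]
variable {F : Type} [Field F] [Fintype F] [DecidableEq F]
variable {t : G} (K : Conf t F)

section
include K

/-- Two opposite transvections on a plane give an element whose square inverts it. -/
theorem no_pair {x z A B : G} {r : ℕ} {i j : ℤ} (hr : r.Prime) (hr2 : Odd r) (hxz : Commute x z)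
    (hxo : orderOf x = r) (hzr : z ^ r = 1) (hA1 : A * x * A⁻¹ = x) (hA2 : A * z * A⁻¹ = z * x ^ i)
    (hB1 : B * z * B⁻¹ = z) (hB2 : B * x * B⁻¹ = x * z ^ j) (hi : ¬ (r : ℤ) ∣ i) (hj : ¬ (r : ℤ) ∣ j) :
    False := by
  have iter : ∀ {C a b : G} {k : ℤ}, C * a * C⁻¹ = a → C * b * C⁻¹ = b * a ^ k →
      ∀ n : ℕ, C ^ n * a * (C ^ n)⁻¹ = a ∧ C ^ n * b * (C ^ n)⁻¹ = b * a ^ (k * n) := by
    intro C a b k h1 h2 n
    induction n with
    | zero => simp
    | succ n ih =>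
      have e : C ^ (n + 1) = C * C ^ n := pow_succ' C n
      have ha : C ^ (n + 1) * a * (C ^ (n + 1))⁻¹ = a := by
        calc _ = C * (C ^ n * a * (C ^ n)⁻¹) * C⁻¹ := by rw [e]; group
          _ = a := by rw [ih.1, h1]
      refine ⟨ha, ?_⟩
      calc C ^ (n + 1) * b * (C ^ (n + 1))⁻¹ = C * (C ^ n * b * (C ^ n)⁻¹) * C⁻¹ := by rw [e]; group
        _ = b * a ^ k * a ^ (k * n) := by rw [ih.2, conj_mul_zpow, h1, h2]
        _ = b * a ^ (k * ((n + 1 : ℕ) : ℤ)) := by
          rw [mul_assoc, ← _root_.zpow_add]; push_cast; ring_nf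
  have sol : ∀ {k : ℤ} (c : ℤ), ¬ (r : ℤ) ∣ k → ∃ n : ℕ, (r : ℤ) ∣ k * n - c := by
    intro k c hk
    obtain ⟨a, b, hab⟩ := (Nat.prime_iff_prime_int.1 hr).coprime_iff_not_dvd.2 hk
    have hr0 : (r : ℤ) ≠ 0 := by exact_mod_cast hr.ne_zero
    refine ⟨((b * c) % r).toNat, ?_⟩
    rw [Int.toNat_of_nonneg (Int.emod_nonneg _ hr0)]
    have h1 : (r : ℤ) ∣ b * c - (b * c) % r := Int.dvd_self_sub_emod
    obtain ⟨d, hd⟩ := h1
    exact ⟨-(a * c) - k * d, by
      have : (b * c) % r = b * c - r * d := by omega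
      rw [this]; linear_combination c * hab⟩
  obtain ⟨n, hn⟩ := sol 1 hi
  obtain ⟨m, hm⟩ := sol (-1) hj
  have hzo : orderOf z ∣ r := orderOf_dvd_of_pow_eq_one hzr
  have hU1 := (iter hA1 hA2 n).1
  have hU2 : A ^ n * z * (A ^ n)⁻¹ = z * x := by
    rw [(iter hA1 hA2 n).2]
    congr 1
    rw [show i * (n : ℤ) = i * n - 1 + 1 by ring, _root_.zpow_add, zpow_one,
      orderOf_dvd_iff_zpow_eq_one.1 (hxo.symm ▸ hn), one_mul]
  have hL1 := (iter hB1 hB2 m).1
  have hL2 : B ^ m * x * (B ^ m)⁻¹ = x * z⁻¹ := by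
    rw [(iter hB1 hB2 m).2]
    congr 1
    rw [show j * (m : ℤ) = j * m - (-1) + (-1) by ring, _root_.zpow_add, _root_.zpow_neg_one,
      orderOf_dvd_iff_zpow_eq_one.1 ((Int.natCast_dvd_natCast.2 hzo).trans hm), one_mul]
  set U := A ^ n
  set L := B ^ m
  set M := U * L * U with hM
  have hMx : M * x * M⁻¹ = z⁻¹ := by
    calc M * x * M⁻¹ = U * (L * (U * x * U⁻¹) * L⁻¹) * U⁻¹ := by rw [hM]; group
      _ = U * (x * z⁻¹) * U⁻¹ := by rw [hU1, hL2]
      _ = (U * x * U⁻¹) * (U * z * U⁻¹)⁻¹ := by group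
      _ = z⁻¹ := by rw [hU1, hU2, _root_.mul_inv_rev]; group
  have hMz : M * z * M⁻¹ = x := by
    calc M * z * M⁻¹ = U * (L * (U * z * U⁻¹) * L⁻¹) * U⁻¹ := by rw [hM]; group
      _ = U * ((L * z * L⁻¹) * (L * x * L⁻¹)) * U⁻¹ := by rw [hU2]; group
      _ = U * x * U⁻¹ := by
          rw [hL1, hL2, show z * (x * z⁻¹) = x by rw [← mul_assoc, ← hxz.eq, mul_inv_cancel_right]]
      _ = x := hU1
  set N := M * M
  have hNx : N * x * N⁻¹ = x⁻¹ := by
    calc N * x * N⁻¹ = M * (M * x * M⁻¹) * M⁻¹ := by simp only [N]; group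
      _ = (M * z * M⁻¹)⁻¹ := by rw [hMx]; group
      _ = x⁻¹ := by rw [hMz]
  obtain ⟨e, d, hd, hMe⟩ := Nat.exists_eq_two_pow_mul_odd (orderOf_pos M).ne'
  have h1 : (M ^ d) ^ 2 ^ e = 1 := by rw [← pow_mul, mul_comm, ← hMe, pow_orderOf_eq_one]
  have h2 : M ^ d * M ^ d = 1 := K.sq_of_two_pow h1
  have h3 : ∀ k : ℕ, N ^ (2 * k + 1) * x * (N ^ (2 * k + 1))⁻¹ = x⁻¹ := by
    intro k
    induction k with
    | zero => simpa using hNx
    | succ k ih =>
      calc N ^ (2 * (k + 1) + 1) * x * (N ^ (2 * (k + 1) + 1))⁻¹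
          = N * (N * (N ^ (2 * k + 1) * x * (N ^ (2 * k + 1))⁻¹) * N⁻¹) * N⁻¹ := by
            rw [show 2 * (k + 1) + 1 = (2 * k + 1) + 1 + 1 by ring, pow_succ', pow_succ']; group
        _ = N * (N * x * N⁻¹)⁻¹ * N⁻¹ := by rw [ih]; group
        _ = (N * x * N⁻¹) := by rw [hNx, inv_inv, hNx]
        _ = x⁻¹ := hNx
  obtain ⟨k, rfl⟩ := hd
  have := h3 k
  rw [show N ^ (2 * k + 1) = M ^ (2 * k + 1) * M ^ (2 * k + 1) from ((Commute.refl M).mul_pow _), h2] at this
  have hx2 : x ^ 2 = 1 := by rw [pow_two]; exact mul_eq_one_iff_eq_inv.2 (by simpa using this)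
  have := orderOf_dvd_of_pow_eq_one hx2
  rw [hxo] at this
  have := (Nat.prime_dvd_prime_iff_eq hr Nat.prime_two).1 this
  subst this
  exact absurd hr2 (by decide)

/-- No element acts as an elementary transvection on three cyclically permuted axes. -/
theorem no_elem {f σ a b c : G} {r : ℕ} {k : ℤ} (hr : r.Prime) (hr2 : Odd r) (hab : Commute a b)
    (hbc : Commute b c) (hac : Commute a c) (hao : orderOf a = r) (hfa : f * a * f⁻¹ = b)
    (hfb : f * b * f⁻¹ = c) (hfc : f * c * f⁻¹ = a) (hσa : σ * a * σ⁻¹ = a) (hσc : σ * c * σ⁻¹ = c)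
    (hσb : σ * b * σ⁻¹ = b * a ^ k) : (r : ℤ) ∣ k := by
  by_contra hk
  have hcr : c ^ r = 1 := by
    rw [← hfb, ← hfa, conj_pow, conj_pow, ← hao, pow_orderOf_eq_one]; group
  set B := f * σ * f⁻¹ with hB
  set C := f * B * f⁻¹ with hC
  have pull : ∀ {u X Y Z : G}, X * Y * X⁻¹ = Z →
      (u * X * u⁻¹) * (u * Y * u⁻¹) * (u * X * u⁻¹)⁻¹ = u * Z * u⁻¹ := by
    intro u X Y Z h; rw [← h]; group
  have hBb : B * b * B⁻¹ = b := by have := pull (u := f) hσa; rwa [hfa] at this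
  have hBa : B * a * B⁻¹ = a := by have := pull (u := f) hσc; rwa [hfc] at this
  have hBc : B * c * B⁻¹ = c * b ^ k := by
    have := pull (u := f) hσb
    rwa [hfb, conj_mul_zpow, hfb, hfa] at this
  have hCc : C * c * C⁻¹ = c := by have := pull (u := f) hBb; rwa [hfb] at this
  have hCa : C * a * C⁻¹ = a * c ^ k := by
    have := pull (u := f) hBc
    rwa [hfc, conj_mul_zpow, hfc, hfb] at this
  set M := σ * B * σ⁻¹ * B⁻¹ with hM
  have inv_fix : ∀ {X Y : G}, X * Y * X⁻¹ = Y → X⁻¹ * Y * X = Y := fun {X Y} h => by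
    calc X⁻¹ * Y * X = X⁻¹ * (X * Y * X⁻¹) * X := by rw [h]
      _ = Y := by group
  have hMa : M * a * M⁻¹ = a := by
    calc M * a * M⁻¹ = σ * (B * (σ⁻¹ * (B⁻¹ * a * B) * σ) * B⁻¹) * σ⁻¹ := by rw [hM]; group
      _ = a := by rw [inv_fix hBa, inv_fix hσa, hBa, hσa]
  have hMc : M * c * M⁻¹ = c * a ^ (k * k) := by
    have h1 : B⁻¹ * c * B = c * b ^ (-k) := by
      calc B⁻¹ * c * B = B⁻¹ * (B * c * B⁻¹ * b ^ (-k)) * B := by
            rw [hBc, _root_.zpow_neg, mul_inv_cancel_right]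
        _ = c * (B⁻¹ * b * B) ^ (-k) := by
            rw [show (B⁻¹ * b * B) ^ (-k) = B⁻¹ * b ^ (-k) * B from by
              simpa using conj_zpow (i := -k) (a := B⁻¹) (b := b)]
            group
        _ = c * b ^ (-k) := by rw [inv_fix hBb]
    have h2 : σ⁻¹ * b * σ = b * a ^ (-k) := by
      calc σ⁻¹ * b * σ = σ⁻¹ * (σ * b * σ⁻¹ * a ^ (-k)) * σ := by
            rw [hσb, _root_.zpow_neg, mul_inv_cancel_right]
        _ = b * (σ⁻¹ * a * σ) ^ (-k) := by
            rw [show (σ⁻¹ * a * σ) ^ (-k) = σ⁻¹ * a ^ (-k) * σ from by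
              simpa using conj_zpow (i := -k) (a := σ⁻¹) (b := a)]
            group
        _ = b * a ^ (-k) := by rw [inv_fix hσa]
    have h3 : σ⁻¹ * (c * b ^ (-k)) * σ = c * (b * a ^ (-k)) ^ (-k) := by
      rw [show σ⁻¹ * (c * b ^ (-k)) * σ = σ⁻¹ * (c * b ^ (-k)) * σ⁻¹⁻¹ by rw [inv_inv], conj_mul_zpow,
        inv_inv, inv_fix hσc, h2]
    have hba : Commute b (a ^ (-k)) := hab.symm.zpow_right _
    calc M * c * M⁻¹ = σ * (B * (σ⁻¹ * (B⁻¹ * c * B) * σ) * B⁻¹) * σ⁻¹ := by rw [hM]; group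
      _ = σ * (B * (c * (b * a ^ (-k)) ^ (-k)) * B⁻¹) * σ⁻¹ := by rw [h1, h3]
      _ = σ * (c * b ^ k * (b * a ^ (-k)) ^ (-k)) * σ⁻¹ := by
          rw [conj_mul_zpow B c (b * a ^ (-k)), conj_mul_zpow B b a, hBc, hBb, hBa]
      _ = σ * (c * a ^ (k * k)) * σ⁻¹ := by
          congr 2
          rw [hba.mul_zpow, ← _root_.zpow_mul, neg_mul_neg, mul_assoc, ← mul_assoc (b ^ k),
            ← _root_.zpow_add, add_neg_cancel, zpow_zero, one_mul]
      _ = c * a ^ (k * k) := by rw [conj_mul_zpow, hσc, hσa]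
  exact K.no_pair hr hr2 hac hao hcr hMa hMc hCc hCa
    (fun h => hk ((Nat.prime_iff_prime_int.1 hr).dvd_mul.1 h |>.elim id id)) hk

omit K in
/-- The first stage of the configuration. -/
structure PreTri (K : Conf t F) (t' w x g : G) (r : ℕ) : Prop where
  frame : K.IsBFrame t' w x
  prime : r.Prime
  xo : orderOf x = r
  rb : r ∣ oddTorus K.q
  g_t : g * t' * g⁻¹ = w
  g_w : g * w * g⁻¹ = t' * w
  zp : K.InPart t' w x (g * x * g⁻¹)
  vp : K.InPart t' (t' * w) x (g⁻¹ * x * g)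

omit K in
/-- The configuration. -/
structure Tri (K : Conf t F) (t' w x f : G) (r : ℕ) : Prop extends PreTri K t' w x f r where
  cube : f ^ 3 = 1
  zv : Commute (f * x * f⁻¹) (f⁻¹ * x * f)

/-- A frame element with a part element of the same prime order gives the configuration's first stage. -/
theorem exists_preTri {t' w x z₀ : G} {r : ℕ} (h : K.IsBFrame t' w x) (hr : r.Prime) (hxo : orderOf x = r)
    (hz : K.InPart t' w x z₀) (hzo : orderOf z₀ = r) : ∃ g, K.PreTri t' w x g r := by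
  have hrb : r ∣ oddTorus K.q := hxo ▸ h.2.2.2.2
  have hodd : Odd r := K.odd_b.of_dvd_nat hrb
  obtain ⟨k, hk⟩ := isConj_iff.1 ((K.isConj_involution h.1.1).symm.trans (K.isConj_involution h.1.2.1))
  obtain ⟨K₂⟩ := K.conf_of_involution h.1.2.1
  have hz1 : z₀ ≠ 1 := fun e => hr.ne_one (by rw [← hzo, e, orderOf_one])
  have hzB : K₂.IsBElt z₀ := ⟨hz1, hz.2.1, by rw [hzo]; exact hrb⟩
  have hx1B : K₂.IsBElt (k * x * k⁻¹) := ⟨fun e => h.2.2.2.1 (conj_eq_one_iff.1 e),
    by rw [← hk]; exact h.2.1.map (MulAut.conj k).toMonoidHom,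
    by rw [← MulAut.conj_apply, MulEquiv.orderOf_eq, hxo]; exact hrb⟩
  obtain ⟨l, hlw, hl⟩ := K₂.bElt_conj hx1B hzB (by rw [← MulAut.conj_apply, MulEquiv.orderOf_eq, hxo, hzo])
  set g₁ := l * k with hg₁
  set z := g₁ * x * g₁⁻¹ with hzdef
  have hzmem : z ∈ Subgroup.zpowers z₀ := by
    convert hl using 1; rw [hzdef, hg₁]; group
  have hzx : Commute z x := by
    obtain ⟨i, hi⟩ := hzmem; rw [← hi]; exact hz.1.zpow_left i
  have hzw : Commute z w := by
    obtain ⟨i, hi⟩ := hzmem; rw [← hi]; exact hz.2.1.zpow_left i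
  have hzord : orderOf z = r := by rw [hzdef, ← MulAut.conj_apply, MulEquiv.orderOf_eq, hxo]
  have hzz1 : z ≠ 1 := fun e => hr.ne_one (by rw [← hzord, e, orderOf_one])
  have hzt := K.part_inverted h hzx hzw (hzord ▸ hodd)
  have hg₁t : g₁ * t' * g₁⁻¹ = w := by
    calc g₁ * t' * g₁⁻¹ = l * (k * t' * k⁻¹) * l⁻¹ := by rw [hg₁]; group
      _ = w := by rw [hk, hlw.eq, mul_inv_cancel_right]
  set u := g₁ * w * g₁⁻¹ with hu
  have huw : Commute u w := by
    rw [hu]
    conv => arg 2; rw [← hg₁t]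
    exact (h.1.2.2.1.map (MulAut.conj g₁).toMonoidHom).symm
  have huz : u * z * u⁻¹ = z⁻¹ := by
    rw [hu, hzdef]
    calc _ = g₁ * (w * x * w⁻¹) * g₁⁻¹ := by group
      _ = (g₁ * x * g₁⁻¹)⁻¹ := by rw [inv_of h.1.2.1, h.2.2.1]; group
  obtain ⟨c, w₀, hc, hcw, hzc, -, -, hcent⟩ := K₂.bElt_torus (x := z) ⟨hzz1, hzw, by rw [hzord]; exact hrb⟩
  have htinv : t' * c * t'⁻¹ = c⁻¹ := K₂.inverts_torus ⟨hzz1, hzw, by rw [hzord]; exact hrb⟩ hc hcw hzc
    h.1.2.2.1 (by rw [inv_of h.1.1]; exact hzt)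
  have hut : Commute (u * t') w := huw.mul_left h.1.2.2.1
  have hutz : Commute (u * t') z := by
    refine mul_inv_eq_iff_eq_mul.1 ?_
    calc u * t' * z * (u * t')⁻¹ = u * (t' * z * t'⁻¹) * u⁻¹ := by group
      _ = (u * z * u⁻¹)⁻¹ := by rw [inv_of h.1.1, hzt]; group
      _ = z := by rw [huz, inv_inv]
  have ht2 := mul_self_of h.1.1
  have hw2 := mul_self_of h.1.2.1
  obtain ⟨e, j, he, hue⟩ : ∃ (e : G) (j : ℤ), (e = t' ∨ e = w * t') ∧ u = c ^ j * e := by
    rcases hcent _ hut hutz with h' | h' <;> obtain ⟨j, hj⟩ := Subgroup.mem_zpowers_iff.1 h'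
    · exact ⟨t', j, Or.inl rfl, by rw [hj, mul_assoc, ht2, mul_one]⟩
    · refine ⟨w * t', j, Or.inr rfl, ?_⟩
      rw [hj]
      calc u = u * (t' * t') * (w * w) := by rw [ht2, hw2, mul_one, mul_one]
        _ = (u * t') * (w * (w * t')) := by rw [← mul_assoc w w, hw2, one_mul]; group
        _ = _ := by rw [← mul_assoc, hut.eq]
  have hinv : ∀ m : ℤ, e * c ^ m * e⁻¹ = c ^ (-m) := by
    intro m
    rw [← conj_zpow]
    have : e * c * e⁻¹ = c⁻¹ := by
      rcases he with rfl | rfl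
      · exact htinv
      · calc w * t' * c * (w * t')⁻¹ = w * (t' * c * t'⁻¹) * w⁻¹ := by group
          _ = c⁻¹ := by rw [htinv, ← hcw.inv_left.eq, mul_inv_cancel_right]
    rw [this, _root_.inv_zpow, _root_.zpow_neg]
  obtain ⟨o, ho⟩ : Odd (orderOf c) := hc ▸ K.odd_b
  set m : ℤ := j * (o : ℤ)
  set g := c ^ m * g₁ with hg
  have hgt : g * t' * g⁻¹ = w := by
    calc g * t' * g⁻¹ = c ^ m * (g₁ * t' * g₁⁻¹) * (c ^ m)⁻¹ := by rw [hg]; group
      _ = w := by rw [hg₁t, (hcw.zpow_left m).eq, mul_inv_cancel_right]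
  have hgw : g * w * g⁻¹ = e := by
    calc g * w * g⁻¹ = c ^ m * u * (c ^ m)⁻¹ := by rw [hg, hu]; group
      _ = c ^ (m + j) * (e * c ^ (-m) * e⁻¹) * e := by
          rw [hue, _root_.zpow_add, _root_.zpow_neg]; group
      _ = c ^ (m + j + m) * e := by rw [hinv, neg_neg, ← _root_.zpow_add]
      _ = e := by
          rw [show m + j + m = j * ((2 * o + 1 : ℕ) : ℤ) by simp only [m]; push_cast; ring, ← ho,
            _root_.zpow_mul', zpow_natCast, pow_orderOf_eq_one, _root_.one_zpow, one_mul]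
  rcases he with rfl | rfl
  · exact (K.not_swap h.1 hgt hgw).elim
  have hgw' : g * w * g⁻¹ = t' * w := hgw.trans h.1.2.2.1.eq.symm
  have hgx : g * x * g⁻¹ = z := by
    obtain ⟨i, hi⟩ := Subgroup.mem_zpowers_iff.1 hzc
    calc g * x * g⁻¹ = c ^ m * z * (c ^ m)⁻¹ := by rw [hg, hzdef]; group
      _ = z := by rw [← hi, Commute.zpow_zpow_self c m i, mul_inv_cancel_right]
  have hgtw : g * (t' * w) * g⁻¹ = t' := by
    calc g * (t' * w) * g⁻¹ = (g * t' * g⁻¹) * (g * w * g⁻¹) := by group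
      _ = w * (t' * w) := by rw [hgt, hgw']
      _ = t' := by rw [h.1.2.2.1.eq, ← mul_assoc, hw2, one_mul]
  refine ⟨g, h, hr, hxo, hrb, hgt, hgw', by rw [hgx]; exact K.part_mem h hzx hzw (hzord ▸ hodd),
    K.part_mem (K.frame_swap' h) ?_ ?_ ?_⟩
  · have := (hgx.symm ▸ hzx : Commute (g * x * g⁻¹) x).map (MulAut.conj g⁻¹).toMonoidHom
    simpa [mul_assoc] using this.symm
  · have := (h.2.1.map (MulAut.conj g⁻¹).toMonoidHom)
    have e2 : g⁻¹ * t' * g = t' * w := by
      calc g⁻¹ * t' * g = g⁻¹ * (g * (t' * w) * g⁻¹) * g := by rw [hgtw]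
        _ = t' * w := by group
    simpa [mul_assoc, e2, show g⁻¹ * (t' * g) = t' * w by rw [← mul_assoc]; exact e2] using this
  · rw [show g⁻¹ * x * g = MulAut.conj g⁻¹ x by simp, MulEquiv.orderOf_eq, hxo]; exact hodd

/-- The Sylow subgroup of the centralizer of a frame element invariant under the four group. -/
theorem exists_partSylow {t' w x : G} (h : K.IsBFrame t' w x) {r : ℕ} (hr : r.Prime) (hrb : Odd r) :
    ∃ P : Subgroup G, IsPGroup r P ∧ (∀ y ∈ P, Commute y x) ∧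
      t' ∈ Subgroup.normalizer (P : Set G) ∧ w ∈ Subgroup.normalizer (P : Set G) ∧ Odd (Nat.card P) ∧
      (∀ U : Subgroup G, IsPGroup r U → (∀ y ∈ U, Commute y x) → t' ∈ Subgroup.normalizer (U : Set G) →
        w ∈ Subgroup.normalizer (U : Set G) → U ≤ P) ∧
      (∀ U : Subgroup G, IsPGroup r U → (∀ y ∈ U, Commute y x) →
        ∃ o, Commute o x ∧ ∀ y ∈ U, o⁻¹ * y * o ∈ P) := by
  haveI := Fact.mk hr
  obtain ⟨O, hodd, hmem, htn, hwn, hfix⟩ := K.frame_core h
  obtain ⟨P, hPO, hP, htP, hwP, hmax, hconj, -⟩ :=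
    exists_sylow_invariant h.1.1 h.1.2.1 h.1.2.2.1 h.1.2.2.2 hodd htn hwn hfix r
  have hU : ∀ U : Subgroup G, IsPGroup r U → (∀ y ∈ U, Commute y x) → U ≤ O := by
    intro U hU hUx y hy
    obtain ⟨j, hj⟩ := IsPGroup.iff_orderOf.1 hU ⟨y, hy⟩
    rw [Subgroup.orderOf_mk] at hj
    exact (hmem y).2 ⟨hUx y hy, hj ▸ hrb.pow⟩
  refine ⟨P, hP, fun y hy => ((hmem y).1 (hPO hy)).1, htP, hwP,
    hodd.of_dvd_nat (Subgroup.card_dvd_of_le hPO), fun U h1 h2 => hmax U (hU U h1 h2) h1,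
    fun U h1 h2 => ?_⟩
  obtain ⟨o, ho, ho'⟩ := hconj U (hU U h1 h2) h1
  exact ⟨o, ((hmem o).1 ho).1, ho'⟩

end

theorem zpowers_normalized {e y : G} [Finite G] (h : e * y * e⁻¹ ∈ Subgroup.zpowers y) :
    e ∈ Subgroup.normalizer (Subgroup.zpowers y : Set G) := by
  refine Subgroup.mem_normalizer_fintype fun n hn => ?_
  obtain ⟨i, rfl⟩ := Subgroup.mem_zpowers_iff.1 hn
  rw [← conj_zpow]
  exact Subgroup.zpow_mem _ h i

variable {t' w x g : G} {r : ℕ}
variable {K}

theorem PreTri.r_odd (h : K.PreTri t' w x g r) : Odd r := K.odd_b.of_dvd_nat h.rb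

theorem PreTri.z_order (h : K.PreTri t' w x g r) : orderOf (g * x * g⁻¹) = r := by
  rw [← MulAut.conj_apply, MulEquiv.orderOf_eq, h.xo]

theorem PreTri.v_order (h : K.PreTri t' w x g r) : orderOf (g⁻¹ * x * g) = r := by
  rw [show g⁻¹ * x * g = MulAut.conj g⁻¹ x by simp, MulEquiv.orderOf_eq, h.xo]

theorem PreTri.g_tw (h : K.PreTri t' w x g r) : g * (t' * w) * g⁻¹ = t' := by
  calc g * (t' * w) * g⁻¹ = (g * t' * g⁻¹) * (g * w * g⁻¹) := by group
    _ = w * (t' * w) := by rw [h.g_t, h.g_w]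
    _ = t' := by rw [h.frame.1.2.2.1.eq, ← mul_assoc, mul_self_of h.frame.1.2.1, one_mul]

/-- The three axes lie in the invariant Sylow subgroup. -/
theorem PreTri.mem_part (h : K.PreTri t' w x g r) {P : Subgroup G}
    (hmax : ∀ U : Subgroup G, IsPGroup r U → (∀ y ∈ U, Commute y x) → t' ∈ Subgroup.normalizer (U : Set G) →
        w ∈ Subgroup.normalizer (U : Set G) → U ≤ P) :
    x ∈ P ∧ g * x * g⁻¹ ∈ P ∧ g⁻¹ * x * g ∈ P := by
  obtain ⟨⟨htp, hwp, htw, -⟩, hxt, hxw, -, -⟩ := h.frame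
  have key : ∀ y : G, orderOf y = r → Commute y x →
      t' * y * t'⁻¹ ∈ Subgroup.zpowers y → w * y * w⁻¹ ∈ Subgroup.zpowers y → y ∈ P := by
    intro y hyo hyx ht hw
    refine hmax (Subgroup.zpowers y) ?_ ?_ (zpowers_normalized ht) (zpowers_normalized hw)
      (Subgroup.mem_zpowers y)
    · exact IsPGroup.of_card (n := 1) (by rw [Nat.card_zpowers, hyo, pow_one])
    · intro y' hy'
      obtain ⟨i, rfl⟩ := Subgroup.mem_zpowers_iff.1 hy'
      exact hyx.zpow_left i
  have fix : ∀ {e y : G}, Commute y e → e * y * e⁻¹ ∈ Subgroup.zpowers y := fun {e y} hc => by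
    rw [← hc.eq, mul_inv_cancel_right]; exact Subgroup.mem_zpowers y
  have neg : ∀ {e y : G}, orderOf e = 2 → e * y * e = y⁻¹ → e * y * e⁻¹ ∈ Subgroup.zpowers y :=
    fun {e y} he hi => by rw [inv_of he, hi]; exact inv_mem (Subgroup.mem_zpowers y)
  refine ⟨key x h.xo (Commute.refl x) (fix hxt) (neg hwp hxw),
    key _ h.z_order h.zp.1 (neg htp h.zp.2.2.1) (fix h.zp.2.1),
    key _ h.v_order h.vp.1 (neg htp h.vp.2.2.1) ?_⟩
  refine neg hwp ?_
  set v := g⁻¹ * x * g
  have hv : (t' * w) * v * (t' * w)⁻¹ = v := by rw [← h.vp.2.1.eq, mul_inv_cancel_right]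
  calc w * v * w = t' * ((t' * w) * v * (t' * w)⁻¹) * t' := by
        rw [_root_.mul_inv_rev, inv_of htp, inv_of hwp]
        calc w * v * w = (t' * t') * (w * v * w) * (t' * t') := by rw [mul_self_of htp]; group
          _ = _ := by group
    _ = v⁻¹ := by rw [hv]; exact h.vp.2.2.1

/-- The two outer axes commute. -/
theorem PreTri.zv_comm (h : K.PreTri t' w x g r) : Commute (g * x * g⁻¹) (g⁻¹ * x * g) := by
  haveI := Fact.mk h.prime
  obtain ⟨P, hP, hPx, htP, hwP, hPodd, hmax, -⟩ := K.exists_partSylow h.frame h.prime h.r_odd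
  obtain ⟨hxP, hzP, hvP⟩ := h.mem_part hmax
  obtain ⟨⟨htp, hwp, htw, hne⟩, hxt, hxw, hx1, -⟩ := h.frame
  set z := g * x * g⁻¹ with hz
  set v := g⁻¹ * x * g with hv
  have hc : ∀ n ∈ Subgroup.zpowers x, ∀ π ∈ P, Commute n π := by
    intro n hn π hπ
    obtain ⟨i, rfl⟩ := Subgroup.mem_zpowers_iff.1 hn
    exact ((hPx π hπ).symm).zpow_left i
  have he : ∀ n ∈ Subgroup.zpowers x, n ^ r = 1 := by
    intro n hn
    rw [← orderOf_dvd_iff_pow_eq_one, ← h.xo]
    exact orderOf_dvd_of_mem_zpowers hn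
  set D := stabSub P (Subgroup.zpowers x) h.r_odd hc he with hD
  have hmemD : z ∈ D ∨ v ∈ D := by
    by_contra hcon
    have hzx : z ∉ Subgroup.zpowers x := by
      intro hzx
      obtain ⟨i, hi⟩ := Subgroup.mem_zpowers_iff.1 hzx
      have : z = 1 := eq_one_of_both (mul_self_of hwp) h.zp.2.1
        (by rw [← hi, inv_zpow_conj (mul_self_of hwp) hxw, _root_.zpow_neg]) h.zp.2.2.2
      exact hx1 (conj_eq_one_iff.1 this)
    refine hzx (mem_of_pGroup hP h.r_odd hc he (fun y hyP hyr hyN => ?_) z hzP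
      (by rw [← h.z_order, pow_orderOf_eq_one]))
    have hDP : D ≤ P := fun a ha => ha.1
    refine le_of_parts htp hwp htw hne (X := D) (hPodd.of_dvd_nat (Subgroup.card_dvd_of_le hDP))
      (stabSub_normalized _ _ _ htP (zpowers_normalized (by
        rw [← hxt.eq, mul_inv_cancel_right]; exact Subgroup.mem_zpowers x)))
      (stabSub_normalized _ _ _ hwP (zpowers_normalized (by
        rw [inv_of hwp, hxw]; exact inv_mem (Subgroup.mem_zpowers x))))
      (Subgroup.zpowers x) (fun e he' a ha hae => ?_) ⟨hyP, hyr, hyN⟩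
    obtain ⟨haP, har, haN⟩ := ha
    have haodd : Odd (orderOf a) := h.r_odd.of_dvd_nat (orderOf_dvd_of_pow_eq_one har)
    have hmul : ∀ b : G, orderOf b = r → a ∈ Subgroup.zpowers b → b ∉ D → a = 1 := by
      intro b hb hab hbD
      by_contra ha1
      have heq : Subgroup.zpowers a = Subgroup.zpowers b := Subgroup.eq_of_le_of_card_ge
        (Subgroup.zpowers_le.2 hab) (by rw [Nat.card_zpowers, Nat.card_zpowers, hb, orderOf_eq_prime har ha1])
      exact hbD ((Subgroup.zpowers_le.2 (⟨haP, har, haN⟩ : a ∈ D)) (heq ▸ Subgroup.mem_zpowers b))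
    rcases he' with rfl | rfl | rfl
    · exact K.torus_unique h.prime htp hxt h.xo h.rb hae (hPx a haP) har
    · have hza : Commute a z := K.part_comm h.frame (hPx a haP) hae haodd h.zp.1 h.zp.2.1 h.zp.2.2.2
      rw [hmul z h.z_order (K.torus_unique h.prime hwp h.zp.2.1 h.z_order h.rb hae hza har)
        (fun e => hcon (Or.inl e))]
      exact one_mem _
    · have hfr := K.frame_swap' h.frame
      have hva : Commute a v := K.part_comm hfr (hPx a haP) hae haodd h.vp.1 h.vp.2.1 h.vp.2.2.2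
      rw [hmul v h.v_order (K.torus_unique h.prime hfr.1.2.1 h.vp.2.1 h.v_order h.rb hae hva har)
        (fun e => hcon (Or.inr e))]
      exact one_mem _
  obtain ⟨i, hi⟩ : ∃ i : ℤ, z * v * z⁻¹ * v⁻¹ = x ^ i := by
    rcases hmemD with hd | hd
    · obtain ⟨i, hi⟩ := Subgroup.mem_zpowers_iff.1 (hd.2.2 v hvP)
      exact ⟨i, hi.symm⟩
    · obtain ⟨i, hi⟩ := Subgroup.mem_zpowers_iff.1 (hd.2.2 z hzP)
      exact ⟨-i, by rw [_root_.zpow_neg, hi]; group⟩
  by_contra hnc
  have hri : ¬ (r : ℤ) ∣ i := fun hd => hnc (by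
    rw [orderOf_dvd_iff_zpow_eq_one.1 (h.xo.symm ▸ hd)] at hi
    exact mul_inv_eq_iff_eq_mul.1 (mul_inv_eq_one.1 hi))
  refine K.no_pair (x := x) (z := z) (A := v) (B := g * z * g⁻¹) (i := -i) (j := i) h.prime h.r_odd
    h.zp.1.symm h.xo (by rw [← h.z_order, pow_orderOf_eq_one]) ?_ ?_ ?_ ?_
    (fun hd => hri (dvd_neg.1 hd)) hri
  · rw [h.vp.1.eq, mul_inv_cancel_right]
  · have e : v * z * v⁻¹ = (x ^ i)⁻¹ * z := by rw [← hi]; group
    rw [e, _root_.zpow_neg]
    exact ((h.zp.1.symm).zpow_left i).inv_left.eq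
  · have : z * x * z⁻¹ = x := by rw [h.zp.1.eq, mul_inv_cancel_right]
    calc g * z * g⁻¹ * z * (g * z * g⁻¹)⁻¹ = g * (z * x * z⁻¹) * g⁻¹ := by rw [hz]; group
      _ = z := by rw [this]
  · have hgv : g * v * g⁻¹ = x := by rw [hv]; group
    calc g * z * g⁻¹ * x * (g * z * g⁻¹)⁻¹ = g * (z * v * z⁻¹ * v⁻¹) * g⁻¹ * x := by
          conv_lhs => rw [← hgv]
          conv_rhs => arg 2; rw [← hgv]
          group
      _ = z ^ i * x := by rw [hi, ← conj_zpow]
      _ = x * z ^ i := ((h.zp.1).zpow_left i).eq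

variable (K) in
/-- The configuration exists. -/
theorem exists_tri {t' w x z₀ : G} {r : ℕ} (h : K.IsBFrame t' w x) (hr : r.Prime) (hxo : orderOf x = r)
    (hz : K.InPart t' w x z₀) (hzo : orderOf z₀ = r) : ∃ f, K.Tri t' w x f r := by
  obtain ⟨g, hg⟩ := K.exists_preTri h hr hxo hz hzo
  have hzv := hg.zv_comm
  have hodd := hg.r_odd
  obtain ⟨⟨htp, hwp, htw, hne⟩, hxt, hxw, hx1, hxb⟩ := h
  set z := g * x * g⁻¹ with hzdef
  set v := g⁻¹ * x * g with hvdef
  set y := g * z * g⁻¹ with hy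
  have hyv : y ∈ Subgroup.zpowers v := by
    have hfr : K.IsBFrame w (t' * w) z := by
      have h1 := K.frame_swap' (K.frame_of_part hg.frame hg.zp hg.z_order hg.rb
        (fun e => hx1 (conj_eq_one_iff.1 e)))
      rwa [← htw.eq] at h1
    have hyz : Commute y z := by
      have := hg.zp.1.map (MulAut.conj g).toMonoidHom
      simpa [hy, hzdef, mul_assoc] using this
    have hytw : Commute y (t' * w) := by
      have h2 := hg.zp.2.1.map (MulAut.conj g).toMonoidHom
      rw [← hg.g_w]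
      simpa [hy, hzdef, mul_assoc] using h2
    have hyo : orderOf y = r := by rw [hy, ← MulAut.conj_apply, MulEquiv.orderOf_eq, hg.z_order]
    have hyc : Commute y v := K.part_comm hfr hyz hytw (hyo ▸ hodd) hzv.symm hg.vp.2.1 hg.vp.2.2.2
    exact K.torus_unique hr (K.frame_swap' hg.frame).1.2.1 hg.vp.2.1 hg.v_order hg.rb hytw hyc
      (by rw [← hyo, pow_orderOf_eq_one])
  obtain ⟨a, ha⟩ := Subgroup.mem_zpowers_iff.1 hyv
  have hgv : g * v * g⁻¹ = x := by rw [hvdef]; group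
  have h3x : g ^ 3 * x * (g ^ 3)⁻¹ = x ^ a := by
    calc g ^ 3 * x * (g ^ 3)⁻¹ = g * y * g⁻¹ := by rw [hy, hzdef, pow_succ, pow_two]; group
      _ = x ^ a := by rw [← ha, ← conj_zpow, hgv]
  have h3t : g ^ 3 * t' * (g ^ 3)⁻¹ = t' := by
    calc g ^ 3 * t' * (g ^ 3)⁻¹ = g * (g * (g * t' * g⁻¹) * g⁻¹) * g⁻¹ := by rw [pow_succ, pow_two]; group
      _ = t' := by rw [hg.g_t, hg.g_w, hg.g_tw]
  have h3w : g ^ 3 * w * (g ^ 3)⁻¹ = w := by
    calc g ^ 3 * w * (g ^ 3)⁻¹ = g * (g * (g * w * g⁻¹) * g⁻¹) * g⁻¹ := by rw [pow_succ, pow_two]; group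
      _ = w := by rw [hg.g_w, hg.g_tw, hg.g_t]
  set f := g ^ 4 with hf
  have hfsplit : ∀ y : G, f * y * f⁻¹ = g * (g ^ 3 * y * (g ^ 3)⁻¹) * g⁻¹ := fun y => by
    rw [hf, show (4 : ℕ) = 3 + 1 from rfl, pow_succ']; group
  have hfx : f * x * f⁻¹ = z ^ a := by rw [hfsplit, h3x, ← conj_zpow]
  have hf3 : f ^ 3 = 1 := by
    have hodd' : Odd (orderOf (f ^ 3)) := by
      refine (K.odd_orderOf_sq g).of_dvd_nat (orderOf_dvd_of_pow_eq_one ?_)
      rw [hf, ← pow_mul, ← pow_mul, show 4 * (3 * orderOf (g ^ 2)) = 2 * orderOf (g ^ 2) * 6 by ring,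
        pow_mul, pow_mul, pow_orderOf_eq_one, one_pow]
    have e : f ^ 3 = (g ^ 3) ^ 4 := by rw [hf, ← pow_mul, ← pow_mul]
    have hct : Commute (g ^ 3) t' := mul_inv_eq_iff_eq_mul.1 h3t
    have hcw : Commute (g ^ 3) w := mul_inv_eq_iff_eq_mul.1 h3w
    have hn : ∀ k : ℕ, (g ^ 3) ^ k * x * ((g ^ 3) ^ k)⁻¹ ∈ Subgroup.zpowers x := by
      intro k
      induction k with
      | zero => simp
      | succ k ih =>
        obtain ⟨j, hj⟩ := Subgroup.mem_zpowers_iff.1 ih
        have e2 : (g ^ 3) ^ (k + 1) * x * ((g ^ 3) ^ (k + 1))⁻¹ =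
            g ^ 3 * ((g ^ 3) ^ k * x * ((g ^ 3) ^ k)⁻¹) * (g ^ 3)⁻¹ := by
          rw [pow_succ' (g ^ 3)]; group
        rw [e2, ← hj, ← conj_zpow, h3x, ← _root_.zpow_mul]
        exact Subgroup.zpow_mem_zpowers _ _
    have hc := K.axis_odd hx1 hxt htp hxb (e ▸ hct.pow_left 4) hodd' (e ▸ hn 4)
    obtain ⟨K'⟩ := K.conf_of_involution htp
    exact K'.frame_fpf hg.frame hc (e ▸ hct.pow_left 4) (e ▸ hcw.pow_left 4) hodd'
  have hft : f * t' * f⁻¹ = w := by rw [hfsplit, h3t, hg.g_t]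
  have hfw : f * w * f⁻¹ = t' * w := by rw [hfsplit, h3w, hg.g_w]
  have hfinv : f⁻¹ = f ^ 2 := inv_eq_of_mul_eq_one_right (by rw [← pow_succ', hf3])
  have hfv : f⁻¹ * x * f = v ^ (a * a * a) := by
    have e1 : f⁻¹ * x * f = f * (f * x * f⁻¹) * f⁻¹ := by
      calc f⁻¹ * x * f = f ^ 2 * x * (f ^ 2)⁻¹ := by rw [← hfinv, inv_inv]
        _ = _ := by rw [pow_two]; group
    have e2 : f * z * f⁻¹ = y ^ a := by
      calc f * z * f⁻¹ = g * (g * (g ^ 3 * x * (g ^ 3)⁻¹) * g⁻¹) * g⁻¹ := by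
            rw [hfsplit, hzdef, pow_succ, pow_two]; group
        _ = y ^ a := by rw [h3x, ← conj_zpow, ← conj_zpow, hy]
    rw [e1, hfx, ← conj_zpow, e2, ← ha, ← _root_.zpow_mul, ← _root_.zpow_mul, mul_assoc]
  refine ⟨f, ⟨hg.frame, hr, hxo, hg.rb, hft, hfw, ?_, ?_⟩, hf3, ?_⟩
  · rw [hfx]
    exact K.part_mem hg.frame (hg.zp.1.zpow_left _) (hg.zp.2.1.zpow_left _)
      (hg.zp.2.2.2.of_dvd_nat (orderOf_dvd_of_mem_zpowers (Subgroup.zpow_mem_zpowers z a)))
  · rw [hfv]
    exact K.part_mem (K.frame_swap' hg.frame) (hg.vp.1.zpow_left _) (hg.vp.2.1.zpow_left _)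
      (hg.vp.2.2.2.of_dvd_nat (orderOf_dvd_of_mem_zpowers (Subgroup.zpow_mem_zpowers v _)))
  · rw [hfx, hfv]; exact hzv.zpow_zpow _ _

variable {f : G}

theorem Tri.f_inv (h : K.Tri t' w x f r) : f⁻¹ = f * f :=
  inv_eq_of_mul_eq_one_right (by rw [← mul_assoc, ← pow_two, ← pow_succ]; exact h.cube)

theorem Tri.f_z (h : K.Tri t' w x f r) : f * (f * x * f⁻¹) * f⁻¹ = f⁻¹ * x * f := by
  have h1 := h.f_inv
  calc f * (f * x * f⁻¹) * f⁻¹ = (f * f) * x * (f * f)⁻¹ := by group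
    _ = f⁻¹ * x * f := by rw [← h1, inv_inv]

theorem Tri.f_v (h : K.Tri t' w x f r) : f * (f⁻¹ * x * f) * f⁻¹ = x := by group

/-- The configuration with the reverse cycle. -/
theorem Tri.mirror (h : K.Tri t' w x f r) : K.Tri t' (t' * w) x f⁻¹ r := by
  obtain ⟨⟨htp, hwp, htw, -⟩, -, -, -, -⟩ := h.frame
  have e : t' * (t' * w) = w := by rw [← mul_assoc, mul_self_of htp, one_mul]
  have h1 : f⁻¹ * t' * f⁻¹⁻¹ = t' * w := by
    calc f⁻¹ * t' * f⁻¹⁻¹ = f⁻¹ * (f * (t' * w) * f⁻¹) * f := by rw [h.g_tw, inv_inv]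
      _ = t' * w := by group
  have h2 : f⁻¹ * (t' * w) * f⁻¹⁻¹ = w := by
    calc f⁻¹ * (t' * w) * f⁻¹⁻¹ = f⁻¹ * (f * w * f⁻¹) * f := by rw [h.g_w, inv_inv]
      _ = w := by group
  refine ⟨⟨K.frame_swap' h.frame, h.prime, h.xo, h.rb, h1, by rw [e]; exact h2, ?_, ?_⟩, ?_, ?_⟩
  · rw [inv_inv]; exact h.vp
  · rw [inv_inv, e]; exact h.zp
  · rw [inv_pow, h.cube, inv_one]
  · rw [inv_inv]; exact h.zv.symm

/-- The group spanned by the axes. -/
def axes (x f : G) : Subgroup G := Subgroup.closure {x, f * x * f⁻¹, f⁻¹ * x * f}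

theorem x_mem_axes : x ∈ axes x f := Subgroup.subset_closure (Or.inl rfl)

theorem z_mem_axes : f * x * f⁻¹ ∈ axes x f := Subgroup.subset_closure (Or.inr (Or.inl rfl))

theorem v_mem_axes : f⁻¹ * x * f ∈ axes x f := Subgroup.subset_closure (Or.inr (Or.inr rfl))

theorem Tri.axes_comm (h : K.Tri t' w x f r) {a b : G} (ha : a ∈ axes x f) (hb : b ∈ axes x f) :
    Commute a b := by
  haveI : IsMulCommutative (axes x f) := by
    refine Subgroup.isMulCommutative_closure ?_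
    rintro p (rfl | rfl | rfl) q (rfl | rfl | rfl)
    exacts [rfl, h.zp.1.eq.symm, h.vp.1.eq.symm, h.zp.1.eq, rfl, h.zv.eq, h.vp.1.eq, h.zv.eq.symm, rfl]
  exact congrArg Subtype.val (mul_comm' (⟨a, ha⟩ : axes x f) ⟨b, hb⟩)

theorem Tri.axes_pow (h : K.Tri t' w x f r) {a : G} (ha : a ∈ axes x f) : a ^ r = 1 := by
  induction ha using Subgroup.closure_induction with
  | mem y hy =>
    rcases hy with rfl | rfl | rfl
    · rw [← h.xo, pow_orderOf_eq_one]
    · rw [← h.z_order, pow_orderOf_eq_one]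
    · rw [← h.v_order, pow_orderOf_eq_one]
  | one => exact one_pow r
  | mul a b ha hb iha ihb => rw [(h.axes_comm ha hb).mul_pow, iha, ihb, one_mul]
  | inv a _ iha => rw [inv_pow, iha, inv_one]

theorem Tri.axes_pgroup (h : K.Tri t' w x f r) : IsPGroup r (axes x f) :=
  fun a => ⟨1, Subtype.ext (by rw [pow_one]; exact h.axes_pow a.2)⟩

theorem Tri.axes_commute_x (h : K.Tri t' w x f r) {a : G} (ha : a ∈ axes x f) : Commute a x :=
  h.axes_comm ha x_mem_axes

theorem Tri.f_axes (h : K.Tri t' w x f r) : f ∈ Subgroup.normalizer (axes x f : Set G) := by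
  refine Subgroup.mem_normalizer_fintype fun a ha => ?_
  induction ha using Subgroup.closure_induction with
  | mem y hy =>
    rcases hy with rfl | rfl | rfl
    · exact z_mem_axes
    · rw [h.f_z]; exact v_mem_axes
    · rw [h.f_v]; exact x_mem_axes
  | one => simp
  | mul a b _ _ iha ihb =>
    rw [show f * (a * b) * f⁻¹ = f * a * f⁻¹ * (f * b * f⁻¹) by group]; exact mul_mem iha ihb
  | inv a _ iha => rw [show f * a⁻¹ * f⁻¹ = (f * a * f⁻¹)⁻¹ by group]; exact inv_mem iha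

theorem Tri.four_axes (h : K.Tri t' w x f r) :
    t' ∈ Subgroup.normalizer (axes x f : Set G) ∧ w ∈ Subgroup.normalizer (axes x f : Set G) := by
  obtain ⟨⟨htp, hwp, htw, -⟩, hxt, hxw, -, -⟩ := h.frame
  have key : ∀ e : G, (∀ y ∈ ({x, f * x * f⁻¹, f⁻¹ * x * f} : Set G), e * y * e⁻¹ = y ∨ e * y * e⁻¹ = y⁻¹) →
      e ∈ Subgroup.normalizer (axes x f : Set G) := by
    intro e hgen
    refine Subgroup.mem_normalizer_fintype fun a ha => ?_
    induction ha using Subgroup.closure_induction with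
    | mem y hy =>
      have hym : y ∈ axes x f := Subgroup.subset_closure hy
      rcases hgen y hy with e1 | e1 <;> rw [e1]
      · exact hym
      · exact inv_mem hym
    | one => simp
    | mul a b _ _ iha ihb =>
      rw [show e * (a * b) * e⁻¹ = e * a * e⁻¹ * (e * b * e⁻¹) by group]; exact mul_mem iha ihb
    | inv a _ iha => rw [show e * a⁻¹ * e⁻¹ = (e * a * e⁻¹)⁻¹ by group]; exact inv_mem iha
  have fix : ∀ {e y : G}, Commute y e → e * y * e⁻¹ = y := fun {e y} hc => by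
    rw [← hc.eq, mul_inv_cancel_right]
  constructor
  · refine key _ ?_
    rintro y (rfl | rfl | rfl)
    · exact Or.inl (fix hxt)
    · exact Or.inr (by rw [inv_of htp]; exact h.zp.2.2.1)
    · exact Or.inr (by rw [inv_of htp]; exact h.vp.2.2.1)
  · refine key _ ?_
    rintro y (rfl | rfl | rfl)
    · exact Or.inr (by rw [inv_of hwp]; exact hxw)
    · exact Or.inl (fix h.zp.2.1)
    · right
      set v := f⁻¹ * x * f
      have hv : (t' * w) * v * (t' * w)⁻¹ = v := fix h.vp.2.1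
      rw [inv_of hwp]
      calc w * v * w = t' * ((t' * w) * v * (t' * w)⁻¹) * t' := by
            rw [_root_.mul_inv_rev, inv_of htp, inv_of hwp]
            calc w * v * w = (t' * t') * (w * v * w) * (t' * t') := by rw [mul_self_of htp]; group
              _ = _ := by group
        _ = v⁻¹ := by rw [hv]; exact h.vp.2.2.1

/-- The elements of the span centralized by `t'` lie on the axis of `x`. -/
theorem Tri.axis_mem (h : K.Tri t' w x f r) {a : G} (ha : a ∈ axes x f) (hat : Commute a t') :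
    a ∈ Subgroup.zpowers x :=
  K.torus_unique h.prime h.frame.1.1 h.frame.2.1 h.xo h.rb hat (h.axes_commute_x ha) (h.axes_pow ha)

/-- The axis of `z` is centralized by the invariant Sylow subgroup, if it is modulo `x`. -/
theorem Tri.central_z (h : K.Tri t' w x f r) {P : Subgroup G} (hPx : ∀ y ∈ P, Commute y x)
    (hPodd : Odd (Nat.card P)) (htP : t' ∈ Subgroup.normalizer (P : Set G))
    (hwP : w ∈ Subgroup.normalizer (P : Set G))
    (hzD : ∀ π ∈ P, (f * x * f⁻¹) * π * (f * x * f⁻¹)⁻¹ * π⁻¹ ∈ Subgroup.zpowers x) :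
    ∀ π ∈ P, Commute π (f * x * f⁻¹) := by
  obtain ⟨⟨htp, hwp, htw, hne⟩, hxt, hxw, hx1, -⟩ := h.frame
  have hodd := h.toPreTri.r_odd
  set z := f * x * f⁻¹ with hz
  set v := f⁻¹ * x * f with hv
  have hle := le_of_parts htp hwp htw hne hPodd htP hwP (Subgroup.centralizer ({z} : Set G))
    (fun e he π hπ hπe => Subgroup.mem_centralizer_singleton_iff.2 (show π * z = z * π from ?_))
  · exact fun π hπ => Subgroup.mem_centralizer_singleton_iff.1 (hle hπ)
  have hπo : Odd (orderOf π) := hPodd.of_dvd_nat (Subgroup.orderOf_dvd_natCard _ hπ)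
  obtain ⟨k, hk⟩ := Subgroup.mem_zpowers_iff.1 (hzD π hπ)
  have hxz : ∀ i : ℤ, Commute (x ^ i) z := fun i => h.zp.1.symm.zpow_left i
  have h1 : π * z * π⁻¹ = z * x ^ (-k) := by
    rw [_root_.zpow_neg, hk]
    have hm : Commute (z * π * z⁻¹ * π⁻¹) z := hk ▸ hxz k
    calc π * z * π⁻¹ = (z * π * z⁻¹ * π⁻¹)⁻¹ * z := by group
      _ = z * (z * π * z⁻¹ * π⁻¹)⁻¹ := hm.inv_left.eq
  suffices hk0 : x ^ (-k) = 1 by
    rw [hk0, mul_one] at h1
    exact mul_inv_eq_iff_eq_mul.1 h1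
  rcases he with rfl | rfl | rfl
  · -- the part of `x`
    refine eq_one_of_double hodd h.xo ?_
    have ht := mul_self_of htp
    have hte : e⁻¹ = e := inv_of htp
    have hzinv : e * z * e⁻¹ = z⁻¹ := by rw [hte]; exact h.zp.2.2.1
    have hπfix : e * π * e⁻¹ = π := by rw [← hπe.eq, mul_inv_cancel_right]
    have hxfix : e * x * e⁻¹ = x := by rw [← hxt.eq, mul_inv_cancel_right]
    have h2 : π * z⁻¹ * π⁻¹ = z⁻¹ * x ^ (-k) := by
      calc π * z⁻¹ * π⁻¹ = (e * π * e⁻¹) * (e * z * e⁻¹) * (e * π * e⁻¹)⁻¹ := by rw [hzinv, hπfix]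
        _ = e * (π * z * π⁻¹) * e⁻¹ := by group
        _ = _ := by rw [h1, conj_mul_zpow, hzinv, hxfix]
    have h3 : π * z⁻¹ * π⁻¹ = z⁻¹ * (x ^ (-k))⁻¹ := by
      calc π * z⁻¹ * π⁻¹ = (π * z * π⁻¹)⁻¹ := by group
        _ = _ := by rw [h1, _root_.mul_inv_rev, ((hxz _).inv_left.inv_right).eq]
    have := mul_left_cancel (h2.symm.trans h3)
    rw [two_mul, _root_.zpow_add]
    exact mul_eq_one_iff_eq_inv.2 this
  · -- the part of `z`
    have := K.part_comm h.frame (hPx π hπ) hπe hπo h.zp.1 h.zp.2.1 h.zp.2.2.2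
    rw [this.eq, mul_inv_cancel_right] at h1
    exact left_eq_mul.1 h1
  · -- the part of `v`
    have hπv := K.part_comm (K.frame_swap' h.frame) (hPx π hπ) hπe hπo h.vp.1 h.vp.2.1 h.vp.2.2.2
    refine orderOf_dvd_iff_zpow_eq_one.1 (h.xo.symm ▸ ?_)
    exact K.no_elem h.prime hodd h.zp.1.symm h.zv h.vp.1.symm h.xo (f := f) (σ := π) rfl h.f_z h.f_v
      (by rw [(hPx π hπ).eq, mul_inv_cancel_right]) (by rw [hπv.eq, mul_inv_cancel_right]) h1

/-- The axes are central in the invariant Sylow subgroup, and span its elements of exponent `r`. -/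
theorem Tri.omega (h : K.Tri t' w x f r) {P : Subgroup G} (hP : IsPGroup r P)
    (hPx : ∀ y ∈ P, Commute y x) (htP : t' ∈ Subgroup.normalizer (P : Set G))
    (hwP : w ∈ Subgroup.normalizer (P : Set G)) (hPodd : Odd (Nat.card P))
    (hmax : ∀ U : Subgroup G, IsPGroup r U → (∀ y ∈ U, Commute y x) → t' ∈ Subgroup.normalizer (U : Set G) →
        w ∈ Subgroup.normalizer (U : Set G) → U ≤ P) :
    axes x f ≤ P ∧ (∀ π ∈ P, ∀ a ∈ axes x f, Commute π a) ∧ ∀ y ∈ P, y ^ r = 1 → y ∈ axes x f := by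
  haveI := Fact.mk h.prime
  have hodd := h.toPreTri.r_odd
  obtain ⟨⟨htp, hwp, htw, hne⟩, hxt, hxw, hx1, -⟩ := h.frame
  obtain ⟨hxP, hzP, hvP⟩ := h.toPreTri.mem_part hmax
  set z := f * x * f⁻¹ with hz
  set v := f⁻¹ * x * f with hv
  have hle : axes x f ≤ P := (Subgroup.closure_le _).2 (by rintro y (rfl | rfl | rfl) <;> assumption)
  have htnx : t' ∈ Subgroup.normalizer (Subgroup.zpowers x : Set G) := zpowers_normalized (by
    rw [← hxt.eq, mul_inv_cancel_right]; exact Subgroup.mem_zpowers x)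
  have hwnx : w ∈ Subgroup.normalizer (Subgroup.zpowers x : Set G) := zpowers_normalized (by
    rw [inv_of hwp, hxw]; exact inv_mem (Subgroup.mem_zpowers x))
  have hcx : ∀ n ∈ Subgroup.zpowers x, ∀ π ∈ P, Commute n π := by
    intro n hn π hπ
    obtain ⟨i, rfl⟩ := Subgroup.mem_zpowers_iff.1 hn
    exact ((hPx π hπ).symm).zpow_left i
  have hex : ∀ n ∈ Subgroup.zpowers x, n ^ r = 1 := fun n hn => h.axes_pow (by
    exact (Subgroup.zpowers_le.2 x_mem_axes) hn)
  -- an element of a part of exponent `r` lies on an axis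
  have axis : ∀ e a : G, (e = t' ∨ e = w ∨ e = t' * w) → a ∈ P → a ^ r = 1 → Commute a e →
      a ∈ Subgroup.zpowers x ∨ a ∈ Subgroup.zpowers z ∨ a ∈ Subgroup.zpowers v := by
    intro e a he haP har hae
    have hao : Odd (orderOf a) := hodd.of_dvd_nat (orderOf_dvd_of_pow_eq_one har)
    rcases he with rfl | rfl | rfl
    · exact Or.inl (K.torus_unique h.prime htp hxt h.xo h.rb hae (hPx a haP) har)
    · exact Or.inr (Or.inl (K.torus_unique h.prime hwp h.zp.2.1 h.toPreTri.z_order h.rb hae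
        (K.part_comm h.frame (hPx a haP) hae hao h.zp.1 h.zp.2.1 h.zp.2.2.2) har))
    · exact Or.inr (Or.inr (K.torus_unique h.prime (K.frame_swap' h.frame).1.2.1 h.vp.2.1
        h.toPreTri.v_order h.rb hae
        (K.part_comm (K.frame_swap' h.frame) (hPx a haP) hae hao h.vp.1 h.vp.2.1 h.vp.2.2.2) har))
  have gen : ∀ {a b : G}, a ∈ Subgroup.zpowers b → a ≠ 1 → a ^ r = 1 → orderOf b = r →
      b ∈ Subgroup.zpowers a := by
    intro a b hab ha1 har hb
    have : Subgroup.zpowers a = Subgroup.zpowers b := Subgroup.eq_of_le_of_card_ge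
      (Subgroup.zpowers_le.2 hab) (by rw [Nat.card_zpowers, Nat.card_zpowers, hb, orderOf_eq_prime har ha1])
    rw [this]; exact Subgroup.mem_zpowers b
  have hzx : z ∉ Subgroup.zpowers x := by
    intro hzx
    obtain ⟨i, hi⟩ := Subgroup.mem_zpowers_iff.1 hzx
    exact hx1 (conj_eq_one_iff.1 (eq_one_of_both (mul_self_of hwp) h.zp.2.1
      (by rw [← hz, ← hi, inv_zpow_conj (mul_self_of hwp) hxw, _root_.zpow_neg]) h.zp.2.2.2))
  -- `z` or `v` centralizes `P` modulo `x`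
  have hzcent : ∀ π ∈ P, Commute π z ∧ Commute π v := by
    set D := stabSub P (Subgroup.zpowers x) hodd hcx hex
    have hmemD : z ∈ D ∨ v ∈ D := by
      by_contra hcon
      refine hzx (mem_of_pGroup hP hodd hcx hex (fun y hyP hyr hyN => ?_) z hzP
        (h.axes_pow z_mem_axes))
      refine le_of_parts htp hwp htw hne (X := D)
        (hPodd.of_dvd_nat (Subgroup.card_dvd_of_le fun a ha => ha.1))
        (stabSub_normalized _ _ _ htP htnx) (stabSub_normalized _ _ _ hwP hwnx)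
        (Subgroup.zpowers x) (fun e he a ha hae => ?_) ⟨hyP, hyr, hyN⟩
      by_cases ha1 : a = 1
      · rw [ha1]; exact one_mem _
      rcases axis e a he ha.1 ha.2.1 hae with h1 | h1 | h1
      · exact h1
      · exact absurd (Or.inl ((Subgroup.zpowers_le.2 ha) (gen h1 ha1 ha.2.1 h.toPreTri.z_order))) hcon
      · exact absurd (Or.inr ((Subgroup.zpowers_le.2 ha) (gen h1 ha1 ha.2.1 h.toPreTri.v_order))) hcon
    -- one of the axes is central
    suffices hone : ∀ {w' f' : G}, K.Tri t' w' x f' r → w' ∈ Subgroup.normalizer (P : Set G) →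
        f' * x * f'⁻¹ ∈ D → f' * x * f'⁻¹ ∈ P → f'⁻¹ * x * f' ∈ P → w' ∈ Subgroup.normalizer (Subgroup.zpowers x : Set G) →
        ∀ π ∈ P, Commute π (f' * x * f'⁻¹) ∧ Commute π (f'⁻¹ * x * f') by
      rcases hmemD with hd | hd
      · exact hone h hwP hd hzP hvP hwnx
      · intro π hπ
        have := hone h.mirror (mul_mem htP hwP) (by rw [inv_inv]; exact hd) (by rw [inv_inv]; exact hvP)
          (by rw [inv_inv]; exact hzP) (mul_mem htnx hwnx) π hπ
        rw [inv_inv] at this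
        exact this.symm
    intro w' f' h' hwP' hd hzP' hvP' hwnx'
    obtain ⟨⟨-, hwp', htw', hne'⟩, -, hxw', -, -⟩ := h'.frame
    have hz' := h'.central_z hPx hPodd htP hwP' fun π hπ => hd.2.2 π hπ
    set z' := f' * x * f'⁻¹ with hz'def
    set v' := f'⁻¹ * x * f' with hv'def
    -- the subgroup spanned by `x` and `z'`
    let N : Subgroup G :=
      { carrier := {y | ∃ i j : ℤ, y = x ^ i * z' ^ j}
        one_mem' := ⟨0, 0, by simp⟩
        mul_mem' := by
          rintro _ _ ⟨i, j, rfl⟩ ⟨i', j', rfl⟩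
          refine ⟨i + i', j + j', ?_⟩
          rw [_root_.zpow_add, _root_.zpow_add]
          have := (h'.zp.1.zpow_zpow j i').eq
          rw [← hz'def] at this
          calc x ^ i * z' ^ j * (x ^ i' * z' ^ j') = x ^ i * (z' ^ j * x ^ i') * z' ^ j' := by group
            _ = _ := by rw [this]; group
        inv_mem' := by
          rintro _ ⟨i, j, rfl⟩
          refine ⟨-i, -j, ?_⟩
          rw [_root_.mul_inv_rev, _root_.zpow_neg, _root_.zpow_neg]
          exact ((h'.zp.1.zpow_zpow j i).inv_left.inv_right).eq }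
    have hNc : ∀ n ∈ N, ∀ π ∈ P, Commute n π := by
      rintro n ⟨i, j, rfl⟩ π hπ
      exact ((hPx π hπ).symm.zpow_left i).mul_left ((hz' π hπ).symm.zpow_left j)
    have hNax : ∀ n ∈ N, n ∈ axes x f' := by
      rintro n ⟨i, j, rfl⟩
      exact mul_mem (zpow_mem x_mem_axes _) (zpow_mem z_mem_axes _)
    have hNe : ∀ n ∈ N, n ^ r = 1 := fun n hn => h'.axes_pow (hNax n hn)
    have hxN : x ∈ N := ⟨1, 0, by simp⟩
    have hzN : z' ∈ N := ⟨0, 1, by simp⟩
    have hnormN : ∀ e : G, e * x * e⁻¹ ∈ N → e * z' * e⁻¹ ∈ N → e ∈ Subgroup.normalizer (N : Set G) := by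
      intro e he1 he2
      refine Subgroup.mem_normalizer_fintype ?_
      rintro n ⟨i, j, rfl⟩
      rw [show e * (x ^ i * z' ^ j) * e⁻¹ = e * x ^ i * e⁻¹ * (e * z' ^ j * e⁻¹) by group,
        ← conj_zpow, ← conj_zpow]
      exact mul_mem (zpow_mem he1 i) (zpow_mem he2 j)
    have htN : t' ∈ Subgroup.normalizer (N : Set G) := hnormN _
      (by rw [← hxt.eq, mul_inv_cancel_right]; exact hxN)
      (by rw [inv_of htp, h'.zp.2.2.1]; exact inv_mem hzN)
    have hwN : w' ∈ Subgroup.normalizer (N : Set G) := hnormN _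
      (by rw [inv_of hwp', hxw']; exact inv_mem hxN)
      (by rw [← h'.zp.2.1.eq, mul_inv_cancel_right]; exact hzN)
    -- `v'` is not in `N`
    have hvN : v' ∉ N := by
      rintro ⟨i, j, hij⟩
      have hmw : Commute t' w' := htw'
      have htw2 := mul_self_of (K.frame_swap' h'.frame).1.2.1
      have htwi : (t' * w')⁻¹ = t' * w' := inv_eq_of_mul_eq_one_right htw2
      have hix : (t' * w') * x * (t' * w') = x⁻¹ := (K.frame_swap' h'.frame).2.2.1
      have hiz : (t' * w') * z' * (t' * w') = z'⁻¹ := by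
        conv_lhs => arg 2; rw [← htwi, _root_.mul_inv_rev, inv_of htp, inv_of hwp']
        calc t' * w' * z' * (w' * t') = t' * (w' * z' * w') * t' := by group
          _ = z'⁻¹ := by rw [← h'.zp.2.1.eq, mul_assoc z', mul_self_of hwp', mul_one]; exact h'.zp.2.2.1
      have hv1 : v' = 1 := eq_one_of_both htw2 h'.vp.2.1 (by
        rw [hij]
        calc t' * w' * (x ^ i * z' ^ j) * (t' * w')
            = (t' * w' * x ^ i * (t' * w')) * (t' * w' * z' ^ j * (t' * w')) := by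
              conv_rhs => rw [mul_assoc, ← mul_assoc (t' * w'), ← mul_assoc (t' * w'), htw2, one_mul]
              group
          _ = x ^ (-i) * z' ^ (-j) := by rw [inv_zpow_conj htw2 hix, inv_zpow_conj htw2 hiz]
          _ = (x ^ i * z' ^ j)⁻¹ := by
              rw [_root_.mul_inv_rev, _root_.zpow_neg, _root_.zpow_neg]
              exact ((h'.zp.1.zpow_zpow j i).inv_left.inv_right).eq.symm) h'.vp.2.2.2
      have hor := h'.toPreTri.v_order
      rw [show f'⁻¹ * x * f' = v' from rfl, hv1, orderOf_one] at hor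
      exact h'.prime.ne_one hor.symm
    set D₂ := stabSub P N hodd hNc hNe
    have hvD : v' ∈ D₂ := by
      by_contra hcon
      refine hvN (mem_of_pGroup hP hodd hNc hNe (fun y hyP hyr hyN => ?_) v' hvP' (h'.axes_pow v_mem_axes))
      refine le_of_parts htp hwp' htw' hne' (X := D₂)
        (hPodd.of_dvd_nat (Subgroup.card_dvd_of_le fun a ha => ha.1))
        (stabSub_normalized _ _ _ htP htN) (stabSub_normalized _ _ _ hwP' hwN)
        N (fun e he a ha hae => ?_) ⟨hyP, hyr, hyN⟩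
      have hao : Odd (orderOf a) := hodd.of_dvd_nat (orderOf_dvd_of_pow_eq_one ha.2.1)
      rcases he with rfl | rfl | rfl
      · exact (Subgroup.zpowers_le.2 hxN) (K.torus_unique h.prime htp hxt h.xo h.rb hae (hPx a ha.1) ha.2.1)
      · exact (Subgroup.zpowers_le.2 hzN) (K.torus_unique h.prime hwp' h'.zp.2.1 h'.toPreTri.z_order h.rb hae
          (K.part_comm h'.frame (hPx a ha.1) hae hao h'.zp.1 h'.zp.2.1 h'.zp.2.2.2) ha.2.1)
      · by_cases ha1 : a = 1
        · rw [ha1]; exact one_mem _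
        have h1 := K.torus_unique h.prime (K.frame_swap' h'.frame).1.2.1 h'.vp.2.1 h'.toPreTri.v_order h.rb hae
          (K.part_comm (K.frame_swap' h'.frame) (hPx a ha.1) hae hao h'.vp.1 h'.vp.2.1 h'.vp.2.2.2) ha.2.1
        exact absurd ((Subgroup.zpowers_le.2 ha) (gen h1 ha1 ha.2.1 h'.toPreTri.v_order)) hcon
    -- `v'` is central
    have hv' : P ≤ Subgroup.centralizer ({v'} : Set G) := by
      refine le_of_parts htp hwp' htw' hne' hPodd htP hwP' _ fun e he π hπ hπe =>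
        Subgroup.mem_centralizer_singleton_iff.2 (show π * v' = v' * π from ?_)
      have hπo : Odd (orderOf π) := hPodd.of_dvd_nat (Subgroup.orderOf_dvd_natCard _ hπ)
      obtain ⟨i, j, hij⟩ : ∃ i j : ℤ, π * v' * π⁻¹ = v' * (x ^ i * z' ^ j) := by
        obtain ⟨i, j, hij⟩ := N.inv_mem (hvD.2.2 π hπ)
        refine ⟨i, j, ?_⟩
        rw [← hij]
        have hm := hNc _ (N.inv_mem (hvD.2.2 π hπ)) v' hvP'
        rw [← hm.eq]; group
      have hπx : π * x * π⁻¹ = x := by rw [(hPx π hπ).eq, mul_inv_cancel_right]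
      have hπz : π * z' * π⁻¹ = z' := by rw [(hz' π hπ).eq, mul_inv_cancel_right]
      suffices hone' : x ^ i * z' ^ j = 1 by
        rw [hone', mul_one] at hij
        exact mul_inv_eq_iff_eq_mul.1 hij
      rcases he with rfl | rfl | rfl
      · have hte : e⁻¹ = e := inv_of htp
        have hvinv : e * v' * e⁻¹ = v'⁻¹ := by rw [hte]; exact h'.vp.2.2.1
        have hzinv : e * z' * e⁻¹ = z'⁻¹ := by rw [hte]; exact h'.zp.2.2.1
        have hπfix : e * π * e⁻¹ = π := by rw [← hπe.eq, mul_inv_cancel_right]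
        have hxfix : e * x * e⁻¹ = x := by rw [← hxt.eq, mul_inv_cancel_right]
        have hm := hNc _ (show x ^ i * z' ^ j ∈ N from ⟨i, j, rfl⟩) v' hvP'
        have h2 : π * v'⁻¹ * π⁻¹ = v'⁻¹ * (x ^ i * z' ^ (-j)) := by
          calc π * v'⁻¹ * π⁻¹ = (e * π * e⁻¹) * (e * v' * e⁻¹) * (e * π * e⁻¹)⁻¹ := by rw [hvinv, hπfix]
            _ = e * (π * v' * π⁻¹) * e⁻¹ := by group
            _ = (e * v' * e⁻¹) * ((e * x * e⁻¹) ^ i * (e * z' * e⁻¹) ^ j) := by
              rw [hij, conj_zpow (a := e) (b := x), conj_zpow (a := e) (b := z')]; group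
            _ = _ := by rw [hvinv, hxfix, hzinv, _root_.inv_zpow, _root_.zpow_neg]
        have h3 : π * v'⁻¹ * π⁻¹ = v'⁻¹ * (x ^ i * z' ^ j)⁻¹ := by
          calc π * v'⁻¹ * π⁻¹ = (π * v' * π⁻¹)⁻¹ := by group
            _ = _ := by rw [hij, _root_.mul_inv_rev, (hm.inv_left.inv_right).eq]
        have hi0 : x ^ i = 1 := by
          have e4 := mul_left_cancel (h2.symm.trans h3)
          rw [_root_.mul_inv_rev, ← ((h'.zp.1.zpow_zpow j i).inv_left.inv_right).eq.symm,
            ← _root_.zpow_neg z', ← _root_.zpow_neg x] at e4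
          refine eq_one_of_double hodd h.xo ?_
          have e5 := mul_right_cancel e4
          rw [two_mul, _root_.zpow_add]
          nth_rw 2 [e5]
          rw [_root_.zpow_neg, mul_inv_cancel]
        rw [hi0, one_mul] at hij ⊢
        refine orderOf_dvd_iff_zpow_eq_one.1 (h'.toPreTri.z_order.symm ▸ ?_)
        exact K.no_elem h.prime hodd h'.zv h'.vp.1 h'.zp.1 h'.toPreTri.z_order (f := f') (σ := π)
          h'.f_z h'.f_v rfl hπz hπx hij
      · have hwe : e⁻¹ = e := inv_of hwp'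
        have hvinv : e * v' * e⁻¹ = v'⁻¹ := by
          rw [hwe]
          have hv : (t' * e) * v' * (t' * e)⁻¹ = v' := by rw [← h'.vp.2.1.eq, mul_inv_cancel_right]
          calc e * v' * e = t' * ((t' * e) * v' * (t' * e)⁻¹) * t' := by
                rw [_root_.mul_inv_rev, inv_of htp, hwe]
                calc e * v' * e = (t' * t') * (e * v' * e) * (t' * t') := by rw [mul_self_of htp]; group
                  _ = _ := by group
            _ = v'⁻¹ := by rw [hv]; exact h'.vp.2.2.1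
        have hzfix : e * z' * e⁻¹ = z' := by rw [← h'.zp.2.1.eq, mul_inv_cancel_right]
        have hxinv : e * x * e⁻¹ = x⁻¹ := by rw [hwe]; exact hxw'
        have hπfix : e * π * e⁻¹ = π := by rw [← hπe.eq, mul_inv_cancel_right]
        have hm := hNc _ (show x ^ i * z' ^ j ∈ N from ⟨i, j, rfl⟩) v' hvP'
        have h2 : π * v'⁻¹ * π⁻¹ = v'⁻¹ * (x ^ (-i) * z' ^ j) := by
          calc π * v'⁻¹ * π⁻¹ = (e * π * e⁻¹) * (e * v' * e⁻¹) * (e * π * e⁻¹)⁻¹ := by rw [hvinv, hπfix]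
            _ = e * (π * v' * π⁻¹) * e⁻¹ := by group
            _ = (e * v' * e⁻¹) * ((e * x * e⁻¹) ^ i * (e * z' * e⁻¹) ^ j) := by
              rw [hij, conj_zpow (a := e) (b := x), conj_zpow (a := e) (b := z')]; group
            _ = _ := by rw [hvinv, hzfix, hxinv, _root_.inv_zpow, _root_.zpow_neg]
        have h3 : π * v'⁻¹ * π⁻¹ = v'⁻¹ * (x ^ i * z' ^ j)⁻¹ := by
          calc π * v'⁻¹ * π⁻¹ = (π * v' * π⁻¹)⁻¹ := by group
            _ = _ := by rw [hij, _root_.mul_inv_rev, (hm.inv_left.inv_right).eq]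
        have hj0 : z' ^ j = 1 := by
          have e4 := mul_left_cancel (h2.symm.trans h3)
          rw [_root_.mul_inv_rev, ← ((h'.zp.1.zpow_zpow j i).inv_left.inv_right).eq.symm,
            ← _root_.zpow_neg z', ← _root_.zpow_neg x] at e4
          refine eq_one_of_double hodd h'.toPreTri.z_order ?_
          have e5 := mul_left_cancel e4
          rw [two_mul, _root_.zpow_add]
          nth_rw 2 [e5]
          rw [_root_.zpow_neg, mul_inv_cancel]
        rw [hj0, mul_one] at hij ⊢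
        refine orderOf_dvd_iff_zpow_eq_one.1 (h.xo.symm ▸ ?_)
        exact K.no_elem h.prime hodd h'.vp.1.symm h'.zv.symm h'.zp.1.symm h.xo (f := f'⁻¹) (σ := π)
          (by rw [inv_inv]) (by rw [inv_inv, ← h'.f_z]; group) (by rw [inv_inv]; group) hπx hπz hij
      · have hπv := K.part_comm (K.frame_swap' h'.frame) (hPx π hπ) hπe hπo h'.vp.1 h'.vp.2.1 h'.vp.2.2.2
        rw [hπv.eq, mul_inv_cancel_right] at hij
        exact left_eq_mul.1 hij
    exact fun π hπ => ⟨hz' π hπ, Subgroup.mem_centralizer_singleton_iff.1 (hv' hπ)⟩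
  have hcent : ∀ π ∈ P, ∀ a ∈ axes x f, Commute π a := by
    intro π hπ a ha
    induction ha using Subgroup.closure_induction with
    | mem y hy =>
      rcases hy with rfl | rfl | rfl
      exacts [hPx π hπ, (hzcent π hπ).1, (hzcent π hπ).2]
    | one => exact Commute.one_right π
    | mul a b _ _ iha ihb => exact iha.mul_right ihb
    | inv a _ iha => exact iha.inv_right
  refine ⟨hle, hcent, mem_of_pGroup hP hodd (fun n hn π hπ => (hcent π hπ n hn).symm)
    (fun n hn => h.axes_pow hn) fun y hyP hyr hyN => ?_⟩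
  obtain ⟨htA, hwA⟩ := h.four_axes
  set D₃ := stabSub P (axes x f) hodd (fun n hn π hπ => (hcent π hπ n hn).symm) (fun n hn => h.axes_pow hn)
  refine le_of_parts htp hwp htw hne (X := D₃)
    (hPodd.of_dvd_nat (Subgroup.card_dvd_of_le fun a ha => ha.1))
    (stabSub_normalized _ _ _ htP htA) (stabSub_normalized _ _ _ hwP hwA)
    (axes x f) (fun e he a ha hae => ?_) ⟨hyP, hyr, hyN⟩
  rcases axis e a he ha.1 ha.2.1 hae with h1 | h1 | h1
  · exact (Subgroup.zpowers_le.2 x_mem_axes) h1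
  · exact (Subgroup.zpowers_le.2 z_mem_axes) h1
  · exact (Subgroup.zpowers_le.2 v_mem_axes) h1

/-- Groups of `r`-elements containing the axes and centralizing `x` centralize the axes. -/
theorem Tri.group_central (h : K.Tri t' w x f r) {U : Subgroup G} (hU : IsPGroup r U)
    (hUx : ∀ y ∈ U, Commute y x) :
    ∃ o, Commute o x ∧ (∀ y ∈ U, y ^ r = 1 → o⁻¹ * y * o ∈ axes x f) ∧
      (∀ y ∈ U, ∀ a ∈ axes x f, Commute (o⁻¹ * y * o) a) ∧
      (axes x f ≤ U → ∀ y ∈ U, (∀ a ∈ axes x f, Commute y a) ∧ (y ^ r = 1 → y ∈ axes x f)) := by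
  obtain ⟨P, hP, hPx, htP, hwP, hPodd, hmax, hconj⟩ := K.exists_partSylow h.frame h.prime h.toPreTri.r_odd
  obtain ⟨hle, hcent, hom⟩ := h.omega hP hPx htP hwP hPodd hmax
  obtain ⟨o, hox, ho⟩ := hconj U hU hUx
  refine ⟨o, hox, fun y hy hyr => hom _ (ho y hy) ?_, fun y hy => hcent _ (ho y hy), fun hAU => ?_⟩
  · have := conj_pow (i := r) (a := o⁻¹) (b := y)
    rw [inv_inv, hyr, mul_one, inv_mul_cancel] at this
    exact this
  have hmap : (axes x f).map (MulAut.conj o⁻¹).toMonoidHom = axes x f := by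
    refine Subgroup.eq_of_le_of_card_ge ?_ (Subgroup.card_map_of_injective (MulAut.conj o⁻¹).injective).ge
    rintro _ ⟨a, ha, rfl⟩
    have := hom _ (ho a (hAU ha)) (by
      have := conj_pow (i := r) (a := o⁻¹) (b := a)
      rw [inv_inv, h.axes_pow ha, mul_one, inv_mul_cancel] at this
      exact this)
    simpa using this
  have hback : ∀ a : G, o⁻¹ * a * o ∈ axes x f → a ∈ axes x f := by
    intro a ha
    rw [← hmap] at ha
    obtain ⟨b, hb, hb'⟩ := ha
    simp only [MulEquiv.coe_toMonoidHom, MulAut.conj_apply, inv_inv] at hb'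
    rwa [mul_left_cancel (mul_right_cancel hb')] at hb
  refine fun y hy => ⟨fun a ha => ?_, fun hyr => hback y (hom _ (ho y hy) ?_)⟩
  · have h1 := hcent _ (ho y hy) (o⁻¹ * a * o) (by
      rw [← hmap]; exact ⟨a, ha, by simp⟩)
    have := h1.map (MulAut.conj o).toMonoidHom
    simpa [mul_assoc] using this
  · have := conj_pow (i := r) (a := o⁻¹) (b := y)
    rw [inv_inv, hyr, mul_one, inv_mul_cancel] at this
    exact this

end CfsgLib.ReeOrder.Conf
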