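import Cfsg.Agent.Lib.ReeOrder.Frames
import Cfsg.Agent.Lib.Coprime.HyperplaneGeneration
import Cfsg.Agent.Lib.InvChar.InvolutionCount
import Cfsg.Agent.Lib.GWCons.CyclicSylow

/-!
Groups of odd order under a four group of automorphisms, and the parts of the centralizer of an odd
torus element.
-/

set_option autoImplicit false
set_option linter.unusedSectionVars false

namespace CfsgLib.ReeOrder.PartTools

universe u

variable {G : Type u} [Group G] [Finite G]

theorem mul_self_of {i : G} (h : orderOf i = 2) : i * i = 1 := by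
  rw [← pow_two, ← h, pow_orderOf_eq_one]

theorem inv_of {i : G} (h : orderOf i = 2) : i⁻¹ = i := inv_eq_of_mul_eq_one_right (mul_self_of h)

/-- A four group as a subgroup. -/
theorem exists_four {t w : G} (ht : orderOf t = 2) (hw : orderOf w = 2) (htw : Commute t w) (hne : t ≠ w) :
    ∃ E : Subgroup G, Cfsg.IsElementaryAbelian 2 E ∧ Nat.card E = 4 ∧ t ∈ E ∧ w ∈ E ∧
      (∀ e ∈ E, e = 1 ∨ e = t ∨ e = w ∨ e = t * w) := by
  classical
  have ht2 := mul_self_of ht
  have hw2 := mul_self_of hw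
  have hwt : w * t = t * w := htw.eq.symm
  let S : Set G := {1, t, w, t * w}
  have key : ∀ a ∈ S, ∀ b ∈ S, a * b ∈ S := by
    have e1 : ∀ a : G, t * (t * a) = a := fun a => by rw [← mul_assoc, ht2, one_mul]
    have e2 : ∀ a : G, w * (w * a) = a := fun a => by rw [← mul_assoc, hw2, one_mul]
    have e3 : ∀ a : G, w * (t * a) = t * (w * a) := fun a => by rw [← mul_assoc, hwt, mul_assoc]
    rintro a (rfl | rfl | rfl | rfl) b (rfl | rfl | rfl | rfl) <;>
      simp [S, mul_assoc, ht2, hw2, hwt, e1, e2, e3]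
  have hsq : ∀ a ∈ S, a * a = 1 := by
    rintro a (rfl | rfl | rfl | rfl)
    · simp
    · exact ht2
    · exact hw2
    · rw [mul_assoc, ← mul_assoc w, hwt, mul_assoc, hw2, mul_one, ht2]
  let E : Subgroup G :=
    { carrier := S
      mul_mem' := fun {a b} ha hb => key a ha b hb
      one_mem' := Or.inl rfl
      inv_mem' := fun {a} ha => by rwa [inv_eq_of_mul_eq_one_right (hsq a ha)] }
  refine ⟨E, ⟨⟨⟨fun a b => Subtype.ext ?_⟩⟩, fun a ha => by rw [pow_two]; exact hsq a ha⟩, ?_,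
    Or.inr (Or.inl rfl), Or.inr (Or.inr (Or.inl rfl)), fun e he => he⟩
  · have h := hsq _ (key _ a.2 _ b.2)
    have ha := inv_eq_of_mul_eq_one_right (hsq _ a.2)
    have hb := inv_eq_of_mul_eq_one_right (hsq _ b.2)
    show (a : G) * b = b * a
    rw [← inv_eq_of_mul_eq_one_right h, _root_.mul_inv_rev, ha, hb]
  · have t1 : t ≠ 1 := fun e => by rw [e, orderOf_one] at ht; omega
    have w1 : w ≠ 1 := fun e => by rw [e, orderOf_one] at hw; omega
    have tw1 : t * w ≠ 1 := fun e => hne (by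
      rw [← mul_one t, ← hw2, ← mul_assoc, e, one_mul])
    have twt : t * w ≠ t := fun e => w1 (mul_eq_left.1 e)
    have tww : t * w ≠ w := fun e => t1 (mul_eq_right.1 e)
    show Nat.card S = 4
    rw [Nat.card_coe_set_eq]
    simp [S, Set.ncard_insert_of_notMem, t1.symm, w1.symm, tw1.symm, hne, twt.symm, tww.symm]

/-- An odd subgroup normalized by a four group is generated by its parts. -/
theorem le_of_parts {t w : G} (ht : orderOf t = 2) (hw : orderOf w = 2) (htw : Commute t w) (hne : t ≠ w)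
    {X : Subgroup G} (hX : Odd (Nat.card X))
    (htX : t ∈ Subgroup.normalizer (X : Set G)) (hwX : w ∈ Subgroup.normalizer (X : Set G))
    (Y : Subgroup G)
    (h : ∀ e : G, e = t ∨ e = w ∨ e = t * w → ∀ y ∈ X, Commute y e → y ∈ Y) : X ≤ Y := by
  haveI := Fact.mk Nat.prime_two
  obtain ⟨E, hE, hE4, htE, -, hmem⟩ := exists_four ht hw htw hne
  have hE1 : E ≠ ⊥ := fun e => by rw [e, Subgroup.card_bot] at hE4; omega
  have hEX : E ≤ Subgroup.normalizer (X : Set G) := by
    intro e he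
    rcases hmem e he with rfl | rfl | rfl | rfl
    exacts [one_mem _, htX, hwX, mul_mem htX hwX]
  rw [← Coprime39.eq_hyperCent hE hE1 (Nat.coprime_two_right.2 hX) hEX]
  refine iSup_le ?_
  rintro ⟨B, hBE, hB⟩ y ⟨hyX, hyB⟩
  have hBne : B ≠ ⊥ := fun e => by
    rw [e, Subgroup.relIndex_bot_left] at hB
    omega
  obtain ⟨e, heB, he1⟩ := (Subgroup.bot_or_exists_ne_one B).resolve_left hBne
  refine h e ?_ y hyX (Subgroup.mem_centralizer_iff.1 hyB e heB).symm
  rcases hmem e (hBE heB) with rfl | h | h | h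
  exacts [absurd rfl he1, Or.inl h, Or.inr (Or.inl h), Or.inr (Or.inr h)]

/-- The invariant Sylow subgroup of an odd subgroup without fixed points of the four group. -/
theorem exists_sylow_invariant {t w : G} (ht : orderOf t = 2) (hw : orderOf w = 2) (htw : Commute t w)
    (hne : t ≠ w) {X : Subgroup G} (hX : Odd (Nat.card X))
    (htX : t ∈ Subgroup.normalizer (X : Set G)) (hwX : w ∈ Subgroup.normalizer (X : Set G))
    (hfix : ∀ y ∈ X, Commute y t → Commute y w → y = 1) (p : ℕ) [Fact p.Prime] :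
    ∃ P : Subgroup G, P ≤ X ∧ IsPGroup p P ∧
      t ∈ Subgroup.normalizer (P : Set G) ∧ w ∈ Subgroup.normalizer (P : Set G) ∧
      (∀ U ≤ X, IsPGroup p U → t ∈ Subgroup.normalizer (U : Set G) →
        w ∈ Subgroup.normalizer (U : Set G) → U ≤ P) ∧
      (∀ U ≤ X, IsPGroup p U → ∃ o ∈ X, ∀ y ∈ U, o⁻¹ * y * o ∈ P) ∧
      (p ∣ Nat.card X → P ≠ ⊥) := by
  haveI := Fact.mk Nat.prime_two
  obtain ⟨E, hE, hE4, htE, hwE, hmem⟩ := exists_four ht hw htw hne
  have hEX : E ≤ Subgroup.normalizer (X : Set G) := by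
    intro e he
    rcases hmem e he with rfl | rfl | rfl | rfl
    exacts [one_mem _, htX, hwX, mul_mem htX hwX]
  have hcop : (Nat.card E).Coprime (Nat.card X) := by
    rw [hE4, show (4 : ℕ) = 2 ^ 2 by norm_num]
    exact (Nat.coprime_two_left.2 hX).pow_left 2
  haveI := hE.1
  have hsol : Group.IsSolvable E ∨ Group.IsSolvable X :=
    Or.inl (isSolvable_of_comm fun a b => IsMulCommutative.is_comm.comm a b)
  obtain ⟨P, hP⟩ := Coprime.exists_invariant_sylow E X hEX hcop hsol p
  refine ⟨(P : Subgroup X).map X.subtype, Subgroup.map_subtype_le _, P.isPGroup'.map _, hP htE, hP hwE,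
    fun U hUX hU htU hwU => ?_, fun U hUX hU => ?_, fun hd e => ?_⟩
  · have hUE : E ≤ Subgroup.normalizer (U : Set G) := by
      intro e he
      rcases hmem e he with rfl | rfl | rfl | rfl
      exacts [one_mem _, htU, hwU, mul_mem htU hwU]
    obtain ⟨Q, hUQ, hQ⟩ := Coprime.exists_invariant_sylow_ge E X hEX hcop hsol p U hUX hU hUE
    obtain ⟨c, hc, hcPQ⟩ := Coprime.invariant_sylow_conj E X hEX hcop hsol p Q P hQ hP
    have hc1 : c = 1 := Subtype.ext (hfix c c.2 (Subgroup.mem_centralizer_iff.1 hc t htE).symm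
      (Subgroup.mem_centralizer_iff.1 hc w hwE).symm)
    rw [hc1, one_smul] at hcPQ
    rw [← hcPQ]; exact hUQ
  · obtain ⟨Q, hQ⟩ := (hU.comap_of_injective X.subtype X.subtype_injective).exists_le_sylow
    obtain ⟨o, ho⟩ := MulAction.exists_smul_eq X P Q
    refine ⟨o, o.2, fun y hy => ?_⟩
    have : y ∈ ((o • P : Sylow p X) : Subgroup X).map X.subtype := by
      rw [ho]; exact ⟨⟨y, hUX hy⟩, hQ hy, rfl⟩
    exact Coprime.mem_map_subtype_smul.1 this
  · rw [Subgroup.map_eq_bot_iff_of_injective _ X.subtype_injective] at e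
    exact P.ne_bot_of_dvd_card hd e

/-- If a prime divides the order, some part has an element of that order. -/
theorem exists_part_order {t w : G} (ht : orderOf t = 2) (hw : orderOf w = 2) (htw : Commute t w)
    (hne : t ≠ w) {X : Subgroup G} (hX : Odd (Nat.card X))
    (htX : t ∈ Subgroup.normalizer (X : Set G)) (hwX : w ∈ Subgroup.normalizer (X : Set G))
    (hfix : ∀ y ∈ X, Commute y t → Commute y w → y = 1) {r : ℕ} (hr : r.Prime) (hd : r ∣ Nat.card X) :
    ∃ e y : G, (e = t ∨ e = w ∨ e = t * w) ∧ y ∈ X ∧ Commute y e ∧ orderOf y = r := by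
  haveI := Fact.mk hr
  obtain ⟨P, hPX, hPr, htP, hwP, -, -, hne1⟩ := exists_sylow_invariant ht hw htw hne hX htX hwX hfix r
  by_contra hcon
  push Not at hcon
  refine hne1 hd (le_bot_iff.1 (le_of_parts ht hw htw hne
    (hX.of_dvd_nat (Subgroup.card_dvd_of_le hPX)) htP hwP ⊥ fun e he y hy hye => ?_))
  by_contra hy1
  rw [Subgroup.mem_bot] at hy1
  obtain ⟨k, hk⟩ := IsPGroup.iff_orderOf.1 hPr ⟨y, hy⟩
  rw [Subgroup.orderOf_mk] at hk
  obtain _ | k := k
  · exact hy1 (orderOf_eq_one_iff.1 hk)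
  refine hcon e (y ^ r ^ k) he (pow_mem (hPX hy) _) (hye.pow_left _) ?_
  rw [orderOf_pow' y (pow_ne_zero _ hr.ne_zero), hk,
    Nat.gcd_eq_right (pow_dvd_pow r k.le_succ), pow_succ, Nat.mul_div_cancel_left _ (pow_pos hr.pos k)]

end CfsgLib.ReeOrder.PartTools

namespace CfsgLib.ReeOrder.Conf

open Cfsg CfsgLib.ReeType PartTools

universe u

variable {G : Type u} [Group G] [Fintype G]
variable {F : Type} [Field F] [Fintype F] [DecidableEq F]
variable {t : G} (K : Conf t F)

include K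

/-- A 2-element squares to one. -/
theorem sq_of_two_pow {g : G} {n : ℕ} (h : g ^ 2 ^ n = 1) : g * g = 1 := by
  haveI := Fact.mk Nat.prime_two
  obtain ⟨m, -, hm⟩ := (Nat.dvd_prime_pow Nat.prime_two).1 (orderOf_dvd_of_pow_eq_one h)
  obtain ⟨P, hP⟩ := (IsPGroup.of_card (n := m)
    (show Nat.card (Subgroup.zpowers g) = 2 ^ m by rw [Nat.card_zpowers, hm])).exists_le_sylow
  exact K.sylow_sq P (hP (Subgroup.mem_zpowers g))

/-- The square of an element has odd order. -/
theorem odd_orderOf_sq (g : G) : Odd (orderOf (g ^ 2)) := by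
  obtain ⟨r, m, hm, h⟩ := Nat.exists_eq_two_pow_mul_odd (orderOf_pos g).ne'
  refine hm.of_dvd_nat (orderOf_dvd_of_pow_eq_one ?_)
  have h1 : (g ^ m) ^ 2 ^ r = 1 := by rw [← pow_mul, mul_comm, ← h, pow_orderOf_eq_one]
  rw [← pow_mul, mul_comm, pow_mul, pow_two]
  exact K.sq_of_two_pow h1

/-- The frame with the roles of `t'` and `w` exchanged, at an element of a part. -/
theorem frame_of_part {t' w x z : G} {d : ℕ} (h : K.IsBFrame t' w x) (hz : K.InPart t' w x z)
    (hzo : orderOf z = d) (hd : d ∣ oddTorus K.q) (hz1 : z ≠ 1) : K.IsBFrame w t' z :=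
  ⟨⟨h.1.2.1, h.1.1, h.1.2.2.1.symm, h.1.2.2.2.symm⟩, hz.2.1, by
    have := hz.2.2.1
    exact this, hz1, hzo ▸ hd⟩

/-- The three involutions of a frame, the other way round. -/
theorem frame_swap' {t' w x : G} (h : K.IsBFrame t' w x) : K.IsBFrame t' (t' * w) x := by
  obtain ⟨K'⟩ := K.conf_of_involution h.1.1
  exact K'.frame_swap h

/-- The odd core of the centralizer of a frame element. -/
theorem frame_core {t' w x : G} (h : K.IsBFrame t' w x) :
    ∃ O : Subgroup G, Odd (Nat.card O) ∧ (∀ g, g ∈ O ↔ Commute g x ∧ Odd (orderOf g)) ∧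
      t' ∈ Subgroup.normalizer (O : Set G) ∧ w ∈ Subgroup.normalizer (O : Set G) ∧
      ∀ g ∈ O, Commute g t' → Commute g w → g = 1 := by
  obtain ⟨K'⟩ := K.conf_of_involution h.1.1
  obtain ⟨O, hodd, hmem, -⟩ := K'.bElt_core (K'.isBElt_of_frame h)
  have hnorm : ∀ e : G, (e * x * e⁻¹ = x ∨ e * x * e⁻¹ = x⁻¹) → e ∈ Subgroup.normalizer (O : Set G) := by
    intro e he g
    rw [SetLike.mem_coe, SetLike.mem_coe, hmem, hmem, ← MulAut.conj_apply, MulEquiv.orderOf_eq]
    refine and_congr_left' ?_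
    have hiff : Commute g x ↔ Commute (MulAut.conj e g) (MulAut.conj e x) :=
      ⟨fun hc => hc.map (MulAut.conj e).toMonoidHom, fun hc => by
        have := hc.map (MulAut.conj e).symm.toMonoidHom
        simpa [mul_assoc] using this⟩
    rw [hiff, MulAut.conj_apply e x]
    rcases he with he | he <;> rw [he]
    rw [Commute.inv_right_iff]
  refine ⟨O, hodd, hmem, hnorm _ (Or.inl ?_), hnorm _ (Or.inr ?_), fun g hg hgt hgw => ?_⟩
  · rw [← h.2.1.eq, mul_inv_cancel_right]
  · rw [inv_of h.1.2.1]; exact h.2.2.1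
  · exact K'.frame_fpf h ((hmem g).1 hg).1 hgt hgw ((hmem g).1 hg).2

/-- Odd elements centralizing the frame element and `w` are inverted by `t'`. -/
theorem part_inverted {t' w x g : G} (h : K.IsBFrame t' w x) (hgx : Commute g x) (hgw : Commute g w)
    (hg : Odd (orderOf g)) : t' * g * t' = g⁻¹ := by
  obtain ⟨O, -, hmem, htn, -, hfix⟩ := K.frame_core h
  have hgX : g ∈ O ⊓ Subgroup.centralizer ({w} : Set G) :=
    ⟨(hmem g).2 ⟨hgx, hg⟩, Subgroup.mem_centralizer_singleton_iff.2 hgw.eq⟩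
  have := CfsgLib.InvChar.inverts_of_fixedPointFree (A := O ⊓ Subgroup.centralizer ({w} : Set G)) h.1.1
    (fun c hc => ⟨(Subgroup.mem_normalizer_iff.1 htn c).1 hc.1, by
      have hcw : Commute c w := Subgroup.mem_centralizer_singleton_iff.1 hc.2
      exact Subgroup.mem_centralizer_singleton_iff.2
        ((h.1.2.2.1.mul_left hcw).mul_left h.1.2.2.1.inv_left).eq⟩)
    (fun c hc hct => hfix c hc.1 hct (Subgroup.mem_centralizer_singleton_iff.1 hc.2)) g hgX
  rwa [inv_of h.1.1] at this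

/-- Such elements lie in the part of `w`. -/
theorem part_mem {t' w x g : G} (h : K.IsBFrame t' w x) (hgx : Commute g x) (hgw : Commute g w)
    (hg : Odd (orderOf g)) : K.InPart t' w x g := ⟨hgx, hgw, K.part_inverted h hgx hgw hg, hg⟩

/-- A part is commutative. -/
theorem part_comm {t' w x g g' : G} (h : K.IsBFrame t' w x) (hgx : Commute g x) (hgw : Commute g w)
    (hg : Odd (orderOf g)) (hgx' : Commute g' x) (hgw' : Commute g' w) (hg' : Odd (orderOf g')) :
    Commute g g' := by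
  obtain ⟨O, hodd, hmem, -, -, -⟩ := K.frame_core h
  have hgg : g * g' ∈ O := mul_mem ((hmem g).2 ⟨hgx, hg⟩) ((hmem g').2 ⟨hgx', hg'⟩)
  have h3 := K.part_inverted h ((hmem _).1 hgg).1 (hgw.mul_left hgw') ((hmem _).1 hgg).2
  have h1 := K.part_inverted h hgx hgw hg
  have h2 := K.part_inverted h hgx' hgw' hg'
  have ht := mul_self_of h.1.1
  have e : t' * (g * g') * t' = g⁻¹ * g'⁻¹ := by
    rw [← h1, ← h2]
    symm
    calc t' * g * t' * (t' * g' * t') = t' * g * (t' * t') * g' * t' := by group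
      _ = _ := by rw [ht]; group
  rw [e, _root_.mul_inv_rev] at h3
  exact (Commute.inv_inv_iff).1 h3

/-- In a torus an element of order dividing a prime is a power of one of that order. -/
theorem torus_unique {e y g : G} {r : ℕ} (hr : r.Prime) (he : orderOf e = 2) (hye : Commute y e)
    (hyo : orderOf y = r) (hrb : r ∣ oddTorus K.q) (hge : Commute g e) (hgy : Commute g y)
    (hgr : g ^ r = 1) : g ∈ Subgroup.zpowers y := by
  obtain ⟨K'⟩ := K.conf_of_involution he
  have hodd : Odd r := K.odd_b.of_dvd_nat hrb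
  have hy1 : y ≠ 1 := fun h => hr.ne_one (by rw [← hyo, h, orderOf_one])
  obtain ⟨c, w, hc, -, hyc, -, -, hcent⟩ := K'.bElt_torus (x := y) ⟨hy1, hye, hyo ▸ hrb⟩
  have hgc : g ∈ Subgroup.zpowers c := by
    rcases hcent g hge hgy with h | h
    · exact h
    · exfalso
      have hg : Odd (orderOf g) := hodd.of_dvd_nat (orderOf_dvd_of_pow_eq_one hgr)
      have h1 : (e * g) ^ (oddTorus K.q) = 1 :=
        orderOf_dvd_iff_pow_eq_one.1 ((orderOf_dvd_of_mem_zpowers h).trans (dvd_of_eq hc))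
      rw [hge.symm.mul_pow, orderOf_dvd_iff_pow_eq_one.1 ((orderOf_dvd_of_pow_eq_one hgr).trans hrb),
        mul_one] at h1
      have := Nat.le_of_dvd K.odd_b.pos (orderOf_dvd_of_pow_eq_one h1)
      have h2 := orderOf_dvd_of_pow_eq_one h1
      rw [he] at h2
      exact Nat.not_even_iff_odd.2 K.odd_b (even_iff_two_dvd.2 h2)
  haveI := Fact.mk hr
  by_cases hg1 : g = 1
  · rw [hg1]; exact one_mem _
  have hgo : orderOf g = r := orderOf_eq_prime hgr hg1
  have h1 : Nat.card (Subgroup.zpowers y) = r := by rw [Nat.card_zpowers, hyo]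
  have h2 : Nat.card (Subgroup.zpowers g) = r := by rw [Nat.card_zpowers, hgo]
  have hyle : Subgroup.zpowers y ≤ Subgroup.zpowers c := Subgroup.zpowers_le.2 hyc
  have hgle : Subgroup.zpowers g ≤ Subgroup.zpowers c := Subgroup.zpowers_le.2 hgc
  have heq : (Subgroup.zpowers g).subgroupOf (Subgroup.zpowers c) =
      (Subgroup.zpowers y).subgroupOf (Subgroup.zpowers c) :=
    CfsgLib.GWCons.CyclicSylow.eq_of_card_eq (by
      rw [Nat.card_congr (Subgroup.subgroupOfEquivOfLe hgle).toEquiv, h2,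
        Nat.card_congr (Subgroup.subgroupOfEquivOfLe hyle).toEquiv, h1])
  have : (⟨g, hgc⟩ : Subgroup.zpowers c) ∈ (Subgroup.zpowers y).subgroupOf (Subgroup.zpowers c) := by
    rw [← heq]; exact Subgroup.mem_zpowers g
  exact this

/-- An odd element of `C(t')` normalizing the group generated by a frame element centralizes it. -/
theorem axis_odd {t' x h : G} (hx1 : x ≠ 1) (hx : Commute x t') (ht : orderOf t' = 2)
    (hxb : orderOf x ∣ oddTorus K.q) (hh : Commute h t') (hodd : Odd (orderOf h))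
    (hn : h * x * h⁻¹ ∈ Subgroup.zpowers x) : Commute h x := by
  obtain ⟨K'⟩ := K.conf_of_involution ht
  obtain ⟨k, hk, hko⟩ := K'.odd_up hx (K.odd_b.of_dvd_nat hxb)
  obtain ⟨l, hl, hlo⟩ := K'.odd_up hh hodd
  have k1 : k ≠ 1 := fun e => hx1 (by rw [hk, e, map_one])
  obtain ⟨C, hC, hkC, hcard, hcent⟩ := Psl.exists_torus_odd K.q_mod K.q_ge k1
    (show orderOf k ∣ oddTorus (Fintype.card F) by rw [hko]; exact hxb)
  obtain ⟨j, hj⟩ := Subgroup.mem_zpowers_iff.1 hn
  have hlk : l * k * l⁻¹ = k ^ j := K'.up_inj (by rw [map_mul, map_mul, map_inv, map_zpow, ← hk, ← hl, hj])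
  have hk2 : k ^ j * k ^ j ≠ 1 := fun e => k1 (by
    have h1 : l * (k * k) * l⁻¹ = 1 := by
      rw [← e, ← hlk]; group
    rw [conj_eq_one_iff] at h1
    refine orderOf_eq_one_iff.1 (Nat.eq_one_of_dvd_coprimes (Nat.coprime_two_right.2
      (K.odd_b.of_dvd_nat (hko ▸ hxb : orderOf k ∣ oddTorus K.q))) dvd_rfl
      (orderOf_dvd_of_pow_eq_one (by rw [pow_two, h1]))))
  haveI := hC.cyclic
  have hlC : ∀ c ∈ C, l * c * l⁻¹ ∈ C := by
    intro c hc
    refine hC.cent _ (C.zpow_mem hkC j) hk2 _ ?_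
    rw [← hlk]
    have : Commute c k := congrArg Subtype.val (mul_comm' (⟨c, hc⟩ : C) ⟨k, hkC⟩)
    exact this.map (MulAut.conj l).toMonoidHom
  have hl1 : l ∈ C := by
    rcases hC.normalizer l hlC (by rw [hcard]; have := five_le_oddTorus K.q_mod K.q_ge; omega) with h | h
    · exact h
    · have : l = 1 := orderOf_eq_one_iff.1 (Nat.eq_one_of_dvd_coprimes
        (Nat.coprime_two_right.2 (hlo ▸ hodd)) dvd_rfl (orderOf_dvd_of_pow_eq_one (by rw [pow_two, h])))
      rw [this]; exact one_mem _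
  have : Commute l k := congrArg Subtype.val (mul_comm' (⟨l, hl1⟩ : C) ⟨k, hkC⟩)
  rw [hl, hk]
  exact this.map K'.cent.up

/-- The involutions of `C(t') ∩ C(w)` normalizing the group of a frame element. -/
theorem axis_invol {t' w x u : G} (h : K.IsBFrame t' w x) (hut : Commute u t') (huw : Commute u w)
    (hu2 : u * u = 1) (hn : u * x * u⁻¹ ∈ Subgroup.zpowers x) {r : ℕ} (hr : r.Prime)
    (hxr : orderOf x = r) : u = 1 ∨ u = t' ∨ u = w ∨ u = t' * w := by
  obtain ⟨⟨htp, hwp, htw, hne⟩, hxt, hinv, hx1, hxb⟩ := h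
  by_cases hu1 : u = 1
  · exact Or.inl hu1
  have hu : orderOf u = 2 := orderOf_eq_prime (by rw [pow_two, hu2]) hu1
  obtain ⟨K'⟩ := K.conf_of_involution htp
  have hB : K'.IsBElt x := ⟨hx1, hxt, hxb⟩
  have hcase : ∀ v : G, v * v = 1 → Commute v t' → Commute v x → v = 1 ∨ v = t' := by
    intro v hv2 hvt hvx
    by_cases hv1 : v = 1
    · exact Or.inl hv1
    by_cases hvne : v = t'
    · exact Or.inr hvne
    exfalso
    have hv : orderOf v = 2 := orderOf_eq_prime (by rw [pow_two, hv2]) hv1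
    have hd := K'.four_odd_dvd (w := v) (g := x) ⟨htp, hv, hvt.symm, fun e => hvne e.symm⟩ hxt hvx.symm
      (K.odd_b.of_dvd_nat hxb)
    exact hx1 (orderOf_eq_one_iff.1 (Nat.eq_one_of_dvd_coprimes
      (coprime_oddTorus_coTorus K.q_mod) hxb hd))
  obtain ⟨j, hj⟩ := Subgroup.mem_zpowers_iff.1 hn
  have hxx : x ^ (j * j) = x := by
    rw [_root_.zpow_mul, hj, conj_zpow, hj]
    calc u * (u * x * u⁻¹) * u⁻¹ = (u * u) * x * (u * u)⁻¹ := by group
      _ = x := by rw [hu2]; group
  have hdvd : (r : ℤ) ∣ (j - 1) * (j + 1) := by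
    have h1 : x ^ ((j - 1) * (j + 1)) = 1 := by
      rw [show (j - 1) * (j + 1) = j * j + -1 by ring, _root_.zpow_add, hxx, _root_.zpow_neg_one, mul_inv_cancel]
    rwa [← orderOf_dvd_iff_zpow_eq_one, hxr] at h1
  rcases (Nat.prime_iff_prime_int.1 hr).dvd_mul.1 hdvd with hd | hd
  · have hux : u * x * u⁻¹ = x := by
      rw [← hj, show j = j - 1 + 1 by ring, _root_.zpow_add, zpow_one,
        orderOf_dvd_iff_zpow_eq_one.1 (hxr.symm ▸ hd), one_mul]
    rcases hcase u hu2 hut (mul_inv_eq_iff_eq_mul.1 hux) with e | e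
    · exact absurd e hu1
    · exact Or.inr (Or.inl e)
  · have hux : u * x * u⁻¹ = x⁻¹ := by
      rw [← hj, show j = j + 1 + -1 by ring, _root_.zpow_add,
        orderOf_dvd_iff_zpow_eq_one.1 (hxr.symm ▸ hd), one_mul, _root_.zpow_neg_one]
    have hwx : w * x * w⁻¹ = x⁻¹ := by rw [inv_of hwp]; exact hinv
    have huwx : Commute (u * w) x := by
      refine mul_inv_eq_iff_eq_mul.1 ?_
      calc u * w * x * (u * w)⁻¹ = u * (w * x * w⁻¹) * u⁻¹ := by group
        _ = (u * x * u⁻¹)⁻¹ := by rw [hwx]; group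
        _ = x := by rw [hux, inv_inv]
    have hw2 := mul_self_of hwp
    have hu' : (u * w) * (u * w) = 1 := by
      rw [mul_assoc, ← mul_assoc w u, ← huw.eq, mul_assoc u w, hw2, mul_one, hu2]
    rcases hcase _ hu' (hut.mul_left htw.symm) huwx with e | e
    · right; right; left
      rw [← mul_one u, ← hw2, ← mul_assoc, e, one_mul]
    · right; right; right
      rw [← e, mul_assoc, hw2, mul_one]

end CfsgLib.ReeOrder.Conf
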