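import Cfsg.Agent.Lib.ReeOrder.Local.Omega
import Cfsg.Agent.Lib.OddOrder.Quadratic
import Cfsg.Agent.Lib.PF.OddOrder
import Cfsg.Agent.Lib.PCore.Basic

/-!
The span of the three axes is weakly closed, and is conjugate under the core of any odd subgroup to each of its
conjugates there.
-/

set_option autoImplicit false
set_option linter.unusedSectionVars false
set_option linter.style.haveILetI false

namespace CfsgLib.ReeOrder.Conf

open Cfsg CfsgLib.ReeType PartTools OmegaTools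
open scoped Pointwise

universe u

variable {G : Type u} [Group G] [Fintype G]
variable {F : Type} [Field F] [Fintype F] [DecidableEq F]
variable {t : G} {K : Conf t F}
variable {t' w x f : G} {r : ℕ}

/-- A fixed point of a map of order three. -/
theorem exists_fixed_of_not_three_dvd {α : Type*} [Finite α] (σ : α → α) (hσ : ∀ a, σ (σ (σ a)) = a)
    (hc : ¬ 3 ∣ Nat.card α) : ∃ a, σ a = a := by
  classical
  have := Fintype.ofFinite α
  haveI := Fact.mk Nat.prime_three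
  let τ : Function.End α := σ
  have h1 : τ ^ 3 ^ 1 = 1 := funext fun a => hσ a
  have h2 := Equiv.Perm.card_fixedPoints_modEq (f := τ) h1
  by_contra hcon
  push Not at hcon
  haveI : IsEmpty (Function.fixedPoints τ) := ⟨fun a => hcon a.1 a.2⟩
  rw [Fintype.card_eq_zero (α := Function.fixedPoints τ), ← Nat.card_eq_fintype_card] at h2
  exact hc (Nat.modEq_zero_iff_dvd.1 h2)

/-- An element normalizing the axes and centralizing one of them centralizes all of them. -/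
theorem Tri.central_of_conj (h : K.Tri t' w x f r) {n g : G}
    (hn : n ∈ Subgroup.normalizer (axes x f : Set G)) (hg : g ∈ Subgroup.normalizer (axes x f : Set G))
    {m : ℕ} (hm : n ^ r ^ m = 1) (hnx : Commute n (g * x * g⁻¹)) :
    (∀ a ∈ axes x f, Commute n a) ∧ (n ^ r = 1 → n ∈ axes x f) := by
  haveI := Fact.mk h.prime
  set n' := g⁻¹ * n * g with hn'
  have hn'N : n' ∈ Subgroup.normalizer (axes x f : Set G) := mul_mem (mul_mem (inv_mem hg) hn) hg
  have hn'x : Commute n' x := by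
    have := hnx.map (MulAut.conj g⁻¹).toMonoidHom
    simpa [hn', mul_assoc] using this
  have hpow : ∀ k : ℕ, n' ^ k = g⁻¹ * n ^ k * g := fun k => by
    rw [hn', show g⁻¹ * n * g = g⁻¹ * n * g⁻¹⁻¹ by group, conj_pow, inv_inv]
  have hZ : IsPGroup r (Subgroup.zpowers n') := fun y => ⟨m, by
    obtain ⟨i, hi⟩ := Subgroup.mem_zpowers_iff.1 y.2
    apply Subtype.ext
    rw [SubmonoidClass.coe_pow, ← hi, ← zpow_natCast, ← _root_.zpow_mul', _root_.zpow_mul, zpow_natCast, hpow, hm]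
    simp⟩
  have hU := hZ.to_sup_of_normal_right' h.axes_pgroup (Subgroup.zpowers_le.2 hn'N)
  have hUx : Subgroup.zpowers n' ⊔ axes x f ≤ Subgroup.centralizer ({x} : Set G) :=
    sup_le (Subgroup.zpowers_le.2 (Subgroup.mem_centralizer_singleton_iff.2 hn'x.eq))
      fun a ha => Subgroup.mem_centralizer_singleton_iff.2 (h.axes_commute_x ha).eq
  obtain ⟨o, -, -, -, h4⟩ := h.group_central hU fun y hy => Subgroup.mem_centralizer_singleton_iff.1 (hUx hy)
  obtain ⟨h5, h6⟩ := h4 le_sup_right n' (Subgroup.mem_sup_left (Subgroup.mem_zpowers n'))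
  refine ⟨fun a ha => ?_, fun hnr => ?_⟩
  · have := (h5 (g⁻¹ * a * g) ((Subgroup.mem_normalizer_iff''.1 hg a).1 ha)).map (MulAut.conj g).toMonoidHom
    simpa [hn', mul_assoc] using this
  · exact (Subgroup.mem_normalizer_iff''.1 hg n).2 (h6 (by rw [hpow, hnr]; group))

/-- An element of the span centralized by an involution of the four group lies on an axis. -/
theorem Tri.fixed_axis (h : K.Tri t' w x f r) {a e : G} (ha : a ∈ axes x f)
    (he : e = t' ∨ e = w ∨ e = t' * w) (hae : Commute a e) :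
    ∃ g ∈ Subgroup.normalizer (axes x f : Set G), a ∈ Subgroup.zpowers (g * x * g⁻¹) := by
  have key : ∀ g ∈ Subgroup.normalizer (axes x f : Set G), g⁻¹ * e * g = t' →
      a ∈ Subgroup.zpowers (g * x * g⁻¹) := by
    intro g hg hge
    obtain ⟨i, hi⟩ := Subgroup.mem_zpowers_iff.1 (h.axis_mem ((Subgroup.mem_normalizer_iff''.1 hg a).1 ha)
      (by rw [← hge]; simpa [mul_assoc] using hae.map (MulAut.conj g⁻¹).toMonoidHom))
    exact Subgroup.mem_zpowers_iff.2 ⟨i, by rw [conj_zpow, hi]; group⟩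
  rcases he with rfl | rfl | rfl
  · exact ⟨1, one_mem _, key 1 (one_mem _) (by group)⟩
  · exact ⟨f, h.f_axes, key f h.f_axes (by rw [← h.g_t]; group)⟩
  · exact ⟨f⁻¹, inv_mem h.f_axes, key f⁻¹ (inv_mem h.f_axes) (by rw [inv_inv, h.toPreTri.g_tw])⟩

/-- No `r`-element normalizing the axes acts as a transvection. -/
theorem Tri.no_transv (h : K.Tri t' w x f r) {n : G} (hn : n ∈ Subgroup.normalizer (axes x f : Set G))
    {m : ℕ} (hm : n ^ r ^ m = 1) {H : Subgroup G} {ω : G} (hH : H ≤ axes x f) (hω : ω ∈ axes x f)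
    (hgen : axes x f ≤ H ⊔ Subgroup.zpowers ω) (hnH : ∀ a ∈ H, Commute n a) :
    ∀ a ∈ axes x f, Commute n a := by
  haveI := Fact.mk h.prime
  by_contra hcon
  have hodd := h.toPreTri.r_odd
  have hax : ∀ g ∈ Subgroup.normalizer (axes x f : Set G), ¬ Commute n (g * x * g⁻¹) :=
    fun g hg hc => hcon (h.central_of_conj hn hg hm hc).1
  have hnω : ¬ Commute n ω := fun hc => hcon fun a ha => by
    have hle : H ⊔ Subgroup.zpowers ω ≤ Subgroup.centralizer ({n} : Set G) :=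
      sup_le (fun b hb => Subgroup.mem_centralizer_singleton_iff.2 (hnH b hb).eq.symm)
        (Subgroup.zpowers_le.2 (Subgroup.mem_centralizer_singleton_iff.2 hc.eq.symm))
    exact (Subgroup.mem_centralizer_singleton_iff.1 (hle (hgen ha))).symm
  have hωH : ∀ i : ℤ, ω ^ i ∈ H → (r : ℤ) ∣ i := by
    intro i hi
    by_contra hd
    obtain ⟨p, q, hpq⟩ := (Nat.prime_iff_prime_int.1 h.prime).coprime_iff_not_dvd.2 hd
    refine hnω (hnH ω ?_)
    have : ω = (ω ^ i) ^ q := by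
      conv_lhs => rw [← zpow_one ω, ← hpq]
      rw [_root_.zpow_add, _root_.zpow_mul', zpow_natCast, h.axes_pow hω, _root_.one_zpow, one_mul,
        _root_.zpow_mul']
    rw [this]; exact Subgroup.zpow_mem _ hi q
  have hnorm : Subgroup.zpowers ω ≤ Subgroup.normalizer (H : Set G) :=
    Subgroup.zpowers_le.2 (Subgroup.mem_normalizer_fintype fun b hb => by
      rw [(h.axes_comm hω (hH hb)).eq, mul_inv_cancel_right]; exact hb)
  have dec : ∀ a ∈ axes x f, ∃ b ∈ H, ∃ i : ℤ, a = b * ω ^ i := by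
    intro a ha
    have : a ∈ ((H : Set G) * (Subgroup.zpowers ω : Set G)) := by
      rw [← Subgroup.coe_mul_of_right_le_normalizer_left _ _ hnorm]; exact hgen ha
    obtain ⟨b, hb, c, hc, rfl⟩ := Set.mem_mul.1 this
    obtain ⟨i, rfl⟩ := Subgroup.mem_zpowers_iff.1 hc
    exact ⟨b, hb, i, rfl⟩
  have conjN : ∀ a ∈ axes x f, n * a * n⁻¹ ∈ axes x f := fun a ha =>
    (Subgroup.mem_normalizer_iff.1 hn a).1 ha
  obtain ⟨d, hd, j, hj⟩ := dec _ (conjN ω hω)
  have act : ∀ b ∈ H, ∀ i : ℤ, n * (b * ω ^ i) * n⁻¹ = b * d ^ i * ω ^ (j * i) := by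
    intro b hb i
    rw [conj_mul_zpow, hj, (hnH b hb).eq, mul_inv_cancel_right,
      ((h.axes_comm (hH hd) hω).zpow_right j).mul_zpow, ← _root_.zpow_mul, mul_assoc]
  have iter : ∀ k : ℕ, ∃ b ∈ H, n ^ k * ω * (n ^ k)⁻¹ = b * ω ^ (j ^ k) := by
    intro k
    induction k with
    | zero => exact ⟨1, one_mem _, by simp⟩
    | succ k ih =>
      obtain ⟨b, hb, he⟩ := ih
      refine ⟨b * d ^ (j ^ k), mul_mem hb (zpow_mem hd _), ?_⟩
      calc n ^ (k + 1) * ω * (n ^ (k + 1))⁻¹ = n * (n ^ k * ω * (n ^ k)⁻¹) * n⁻¹ := by rw [pow_succ']; group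
        _ = _ := by rw [he, act b hb, pow_succ']
  obtain ⟨b, hb, hbe⟩ := iter (r ^ m)
  rw [hm, one_mul, inv_one, mul_one] at hbe
  have hj1 : (r : ℤ) ∣ j - 1 := by
    have h1 : (r : ℤ) ∣ 1 - j ^ r ^ m := hωH _ (by
      rw [_root_.zpow_sub, zpow_one]
      nth_rw 1 [hbe]
      rw [mul_inv_cancel_right]; exact hb)
    rw [← ZMod.intCast_zmod_eq_zero_iff_dvd] at h1 ⊢
    push_cast at h1 ⊢
    rw [ZMod.pow_card_pow] at h1
    linear_combination -h1
  have hωj : ω ^ j = ω := by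
    obtain ⟨c, hc⟩ := hj1
    rw [show j = (r : ℤ) * c + 1 by linarith, _root_.zpow_add, zpow_one, _root_.zpow_mul, zpow_natCast,
      h.axes_pow hω, _root_.one_zpow, one_mul]
  have act' : ∀ b ∈ H, ∀ i : ℤ, n * (b * ω ^ i) * n⁻¹ = b * ω ^ i * d ^ i := by
    intro b hb i
    rw [act b hb i, _root_.zpow_mul, hωj, mul_assoc, mul_assoc,
      ((h.axes_comm (hH hd) hω).zpow_zpow i i).eq]
  have hd1 : d ≠ 1 := fun e => hnω (mul_inv_eq_iff_eq_mul.1 (by rw [hj, hωj, e, one_mul]))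
  have hdA := hH hd
  obtain ⟨htA, hwA⟩ := h.four_axes
  obtain ⟨⟨htp, hwp, htw, hne⟩, -, -, -, -⟩ := h.frame
  have hdo : Odd (orderOf d) := hodd.of_dvd_nat (orderOf_dvd_of_pow_eq_one (h.axes_pow hdA))
  obtain ⟨e, he, he2, heA, heπ⟩ : ∃ e : G, (e = t' ∨ e = w ∨ e = t' * w) ∧ orderOf e = 2 ∧
      e ∈ Subgroup.normalizer (axes x f : Set G) ∧ d * (e * d * e) ≠ 1 := by
    by_contra hall
    push Not at hall
    have h1 : t' * d * t' = d⁻¹ := eq_inv_of_mul_eq_one_right (hall t' (Or.inl rfl) htp htA)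
    have h2 : w * d * w = d⁻¹ := eq_inv_of_mul_eq_one_right (hall w (Or.inr (Or.inl rfl)) hwp hwA)
    have htw2 := mul_self_of (K.frame_swap' h.frame).1.2.1
    have h3 : t' * w * d * (t' * w) = d⁻¹ := eq_inv_of_mul_eq_one_right
      (hall (t' * w) (Or.inr (Or.inr rfl)) (K.frame_swap' h.frame).1.2.1 (mul_mem htA hwA))
    have h4 : t' * w * d * (t' * w) = d := by
      calc t' * w * d * (t' * w) = t' * w * d * (w * t') := by rw [htw.eq]
        _ = t' * (w * d * w) * t' := by group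
        _ = (t' * d * t')⁻¹ := by
          conv_rhs => rw [_root_.mul_inv_rev, _root_.mul_inv_rev, inv_of htp]
          rw [h2]; group
        _ = d := by rw [h1, inv_inv]
    refine hd1 (eq_one_of_both htw2 ?_ h3 hdo)
    calc d * (t' * w) = t' * w * d * (t' * w) * (t' * w) := by rw [h4]
      _ = t' * w * d := by rw [mul_assoc (t' * w * d), htw2, mul_one]
  have hei := inv_of he2
  set d' := e * d * e with hd'
  have hd'A : d' ∈ axes x f := by
    have := (Subgroup.mem_normalizer_iff.1 heA d).1 hdA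
    rwa [hei] at this
  have hdd' := h.axes_comm hdA hd'A
  have hπe : Commute (d * d') e := by
    have h1 : e * (d * d') * e = d' * d := by
      rw [hd']
      calc e * (d * (e * d * e)) * e = e * d * e * d * (e * e) := by group
        _ = _ := by rw [mul_self_of he2, mul_one]
    rw [← hdd'.eq] at h1
    calc d * d' * e = e * (d * d') * e * e := by rw [h1]
      _ = e * (d * d') := by rw [mul_assoc (e * (d * d')), mul_self_of he2, mul_one]
  obtain ⟨g, hg, hgπ⟩ := h.fixed_axis (mul_mem hdA hd'A) he hπe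
  have hnπ : ¬ Commute n (d * d') := by
    intro hc
    refine hax g hg ?_
    have hgo : orderOf (g * x * g⁻¹) = r := by rw [← MulAut.conj_apply, MulEquiv.orderOf_eq, h.xo]
    have heq : Subgroup.zpowers (d * d') = Subgroup.zpowers (g * x * g⁻¹) := Subgroup.eq_of_le_of_card_ge
      (Subgroup.zpowers_le.2 hgπ) (by
        rw [Nat.card_zpowers, Nat.card_zpowers, hgo,
          orderOf_eq_prime (h.axes_pow (mul_mem hdA hd'A)) heπ])
    obtain ⟨i, hi⟩ := Subgroup.mem_zpowers_iff.1 (heq ▸ Subgroup.mem_zpowers (g * x * g⁻¹) :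
      g * x * g⁻¹ ∈ Subgroup.zpowers (d * d'))
    rw [← hi]; exact hc.zpow_right i
  obtain ⟨b', hb', k, hk⟩ := dec d' hd'A
  have hnd' : n * d' * n⁻¹ = d' * d ^ k := by rw [hk]; exact act' b' hb' k
  have hndd : n * d * n⁻¹ = d := by rw [(hnH d hd).eq, mul_inv_cancel_right]
  have hdr : orderOf d = r := orderOf_eq_prime (h.axes_pow hdA) hd1
  have hk0 : ¬ (r : ℤ) ∣ k := fun hdv => hnπ ((hnH d hd).mul_right (mul_inv_eq_iff_eq_mul.1 (by
    rw [hnd', orderOf_dvd_iff_zpow_eq_one.1 (hdr.symm ▸ hdv), mul_one])))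
  have hB1 : (e * n * e) * d' * (e * n * e)⁻¹ = d' := by
    calc (e * n * e) * d' * (e * n * e)⁻¹ = e * (n * ((e * e) * d * (e * e)⁻¹) * n⁻¹) * e⁻¹ := by
          rw [hd', _root_.mul_inv_rev, _root_.mul_inv_rev]
          nth_rw 4 [← hei]
          group
      _ = d' := by rw [mul_self_of he2, one_mul, inv_one, mul_one, hndd, hd', hei]
  have hB2 : (e * n * e) * d * (e * n * e)⁻¹ = d * d' ^ k := by
    calc (e * n * e) * d * (e * n * e)⁻¹ = e * (n * d' * n⁻¹) * e⁻¹ := by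
          rw [hd', _root_.mul_inv_rev, _root_.mul_inv_rev, hei]; group
      _ = (e * d' * e⁻¹) * (e * d * e⁻¹) ^ k := by rw [hnd', conj_mul_zpow]
      _ = d * d' ^ k := by
          rw [hei, hd', show e * (e * d * e) * e = (e * e) * d * (e * e) by group, mul_self_of he2,
            one_mul, mul_one]
  exact K.no_pair (x := d) (z := d') h.prime hodd hdd' hdr (h.axes_pow hd'A) hndd hnd' hB1 hB2 hk0 hk0

theorem Tri.card_axes_le (h : K.Tri t' w x f r) : Nat.card (axes x f) ≤ r ^ 3 := by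
  have key : ∀ A B : Subgroup G, A ≤ axes x f → B ≤ axes x f →
      Nat.card ↥(A ⊔ B) ≤ Nat.card A * Nat.card B := by
    intro A B hA hB
    have hn : B ≤ Subgroup.normalizer (A : Set G) := fun b hb => Subgroup.mem_normalizer_fintype fun a ha => by
      rw [(h.axes_comm (hB hb) (hA ha)).eq, mul_inv_cancel_right]; exact ha
    calc Nat.card ↥(A ⊔ B) = Nat.card ((A : Set G) * (B : Set G) : Set G) :=
          Nat.card_congr (Equiv.setCongr (Subgroup.coe_mul_of_right_le_normalizer_left A B hn))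
      _ ≤ _ := Set.natCard_mul_le
  set z := f * x * f⁻¹
  set v := f⁻¹ * x * f
  have hx := Subgroup.zpowers_le.2 (x_mem_axes (x := x) (f := f))
  have hz : Subgroup.zpowers z ≤ axes x f := Subgroup.zpowers_le.2 z_mem_axes
  have hv : Subgroup.zpowers v ≤ axes x f := Subgroup.zpowers_le.2 v_mem_axes
  have hle : axes x f ≤ Subgroup.zpowers x ⊔ Subgroup.zpowers z ⊔ Subgroup.zpowers v := by
    refine (Subgroup.closure_le _).2 ?_
    rintro y (rfl | rfl | rfl)
    · exact Subgroup.mem_sup_left (Subgroup.mem_sup_left (Subgroup.mem_zpowers _))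
    · exact Subgroup.mem_sup_left (Subgroup.mem_sup_right (Subgroup.mem_zpowers _))
    · exact Subgroup.mem_sup_right (Subgroup.mem_zpowers _)
  calc Nat.card (axes x f) ≤ Nat.card ↥(Subgroup.zpowers x ⊔ Subgroup.zpowers z ⊔ Subgroup.zpowers v) :=
        Subgroup.card_le_of_le hle
    _ ≤ Nat.card ↥(Subgroup.zpowers x ⊔ Subgroup.zpowers z) * Nat.card (Subgroup.zpowers v) :=
        key _ _ (sup_le hx hz) hv
    _ ≤ Nat.card (Subgroup.zpowers x) * Nat.card (Subgroup.zpowers z) * Nat.card (Subgroup.zpowers v) :=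
        Nat.mul_le_mul_right _ (key _ _ hx hz)
    _ = r ^ 3 := by
        rw [Nat.card_zpowers, Nat.card_zpowers, Nat.card_zpowers, h.xo, h.toPreTri.z_order, h.toPreTri.v_order]
        ring

/-- A quadratically acting conjugate of the axes equals them. -/
theorem Tri.eq_axes (h : K.Tri t' w x f r) {A : Subgroup G}
    (hAn : A ≤ Subgroup.normalizer (axes x f : Set G)) (hnA : axes x f ≤ Subgroup.normalizer (A : Set G))
    (hc : ∀ a ∈ A, ∀ b ∈ A, Commute a b) (he : ∀ a ∈ A, a ^ r = 1)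
    (hcard : Nat.card (axes x f) ≤ Nat.card A) : A = axes x f := by
  haveI := Fact.mk h.prime
  refine Subgroup.eq_of_le_of_card_ge ?_ hcard
  intro y hy
  have hm : y ^ r ^ 1 = 1 := by rw [pow_one]; exact he y hy
  suffices hcent : ∀ a ∈ axes x f, Commute y a from
    (h.central_of_conj (hAn hy) (one_mem _) hm (by simpa using hcent x x_mem_axes)).2 (he y hy)
  have hmem : ∀ a ∈ axes x f, y * a * y⁻¹ ∈ axes x f := fun a ha =>
    (Subgroup.mem_normalizer_iff.1 (hAn hy) a).1 ha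
  let φ : axes x f →* G := MonoidHom.mk' (fun a => y * a * y⁻¹ * (a : G)⁻¹) (fun a b => by
    have h1 := h.axes_comm (mul_mem (hmem b b.2) (inv_mem b.2)) (inv_mem a.2)
    calc y * ((a * b : axes x f) : G) * y⁻¹ * ((a * b : axes x f) : G)⁻¹
        = y * (a : G) * y⁻¹ * ((y * (b : G) * y⁻¹ * (b : G)⁻¹) * (a : G)⁻¹) := by push_cast; group
      _ = y * (a : G) * y⁻¹ * ((a : G)⁻¹ * (y * (b : G) * y⁻¹ * (b : G)⁻¹)) := by rw [h1.eq]
      _ = _ := by group)
  set C := axes x f ⊓ Subgroup.centralizer ({y} : Set G) with hC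
  have hrange : φ.range ≤ C := by
    rintro _ ⟨a, rfl⟩
    refine ⟨(axes x f).mul_mem (hmem a a.2) ((axes x f).inv_mem a.2), Subgroup.mem_centralizer_singleton_iff.2 ?_⟩
    have h1 : φ a ∈ A := by
      show y * (a : G) * y⁻¹ * (a : G)⁻¹ ∈ A
      rw [show y * (a : G) * y⁻¹ * (a : G)⁻¹ = y * ((a : G) * y⁻¹ * (a : G)⁻¹) by group]
      exact mul_mem hy ((Subgroup.mem_normalizer_iff.1 (hnA a.2) y⁻¹).1 (inv_mem hy))
    exact (hc _ h1 y hy).eq
  have hker : Nat.card φ.ker = Nat.card C := by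
    have e : φ.ker = C.subgroupOf (axes x f) := by
      ext a
      rw [MonoidHom.mem_ker, Subgroup.mem_subgroupOf]
      show y * (a : G) * y⁻¹ * (a : G)⁻¹ = 1 ↔ _
      rw [mul_inv_eq_one, mul_inv_eq_iff_eq_mul]
      exact ⟨fun e => ⟨a.2, Subgroup.mem_centralizer_singleton_iff.2 e.symm⟩,
        fun hc' => (Subgroup.mem_centralizer_singleton_iff.1 hc'.2).symm⟩
    rw [e, Nat.card_congr (Subgroup.subgroupOfEquivOfLe inf_le_left).toEquiv]
  have hmul : Nat.card C * Nat.card φ.range = Nat.card (axes x f) := by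
    rw [← hker, ← Subgroup.index_ker, Subgroup.card_mul_index]
  obtain ⟨k, hk⟩ := IsPGroup.iff_card.1 (h.axes_pgroup.to_le (hrange.trans inf_le_left))
  obtain ⟨cC, hcC⟩ := IsPGroup.iff_card.1 (h.axes_pgroup.to_le (inf_le_left : C ≤ axes x f))
  rw [hk, hcC, ← pow_add] at hmul
  have hk1 : k ≤ 1 := by
    have h1 : r ^ k ≤ r ^ cC := by rw [← hk, ← hcC]; exact Subgroup.card_le_of_le hrange
    have h2 : r ^ (cC + k) ≤ r ^ 3 := hmul.le.trans h.card_axes_le
    rw [Nat.pow_le_pow_iff_right h.prime.one_lt] at h1 h2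
    omega
  by_cases hCtop : axes x f ≤ C
  · exact fun a ha => (Subgroup.mem_centralizer_singleton_iff.1 (hCtop ha).2).symm
  obtain ⟨ω, hω, hωC⟩ := SetLike.not_le_iff_exists.1 hCtop
  refine h.no_transv (hAn hy) hm (H := C) inf_le_left hω (le_of_eq (Eq.symm ?_))
    fun a ha => (Subgroup.mem_centralizer_singleton_iff.1 ha.2).symm
  have hsup : C ⊔ Subgroup.zpowers ω ≤ axes x f := sup_le inf_le_left (Subgroup.zpowers_le.2 hω)
  refine Subgroup.eq_of_le_of_card_ge hsup ?_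
  obtain ⟨l, hl⟩ := IsPGroup.iff_card.1 (h.axes_pgroup.to_le hsup)
  rw [hl, ← hmul]
  refine Nat.pow_le_pow_right h.prime.pos ?_
  by_contra hlt
  have : C ⊔ Subgroup.zpowers ω = C := (Subgroup.eq_of_le_of_card_ge le_sup_left (by
    rw [hl, hcC]; exact Nat.pow_le_pow_right h.prime.pos (by omega))).symm
  exact hωC (this ▸ Subgroup.mem_sup_right (Subgroup.mem_zpowers ω))

/-- Every `r`-group containing the axes normalizes them. -/
theorem Tri.normalizes (h : K.Tri t' w x f r) {S : Subgroup G} (hS : IsPGroup r S) (hle : axes x f ≤ S) :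
    S ≤ Subgroup.normalizer (axes x f : Set G) := by
  haveI := Fact.mk h.prime
  by_contra hcon
  set T := (S ⊓ Subgroup.normalizer (axes x f : Set G)).subgroupOf S with hT
  have hTne : T < ⊤ := lt_top_iff_ne_top.2 fun e => hcon fun y hy => by
    have : (⟨y, hy⟩ : S) ∈ T := e ▸ Subgroup.mem_top _
    exact this.2
  haveI := hS.isNilpotent
  obtain ⟨g, hgN, hgT⟩ := SetLike.exists_of_lt (Group.normalizerCondition_of_isNilpotent T hTne)
  refine hgT ⟨g.2, ?_⟩
  have hax : ∀ a ∈ axes x f, a ∈ S ⊓ Subgroup.normalizer (axes x f : Set G) := fun a ha =>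
    ⟨hle ha, Subgroup.le_normalizer ha⟩
  have hgax : ∀ a ∈ axes x f, (g : G) * a * (g : G)⁻¹ ∈ Subgroup.normalizer (axes x f : Set G) ∧
      (g : G)⁻¹ * a * (g : G) ∈ Subgroup.normalizer (axes x f : Set G) := fun a ha =>
    ⟨((Subgroup.mem_normalizer_iff.1 hgN ⟨a, hle ha⟩).1 (hax a ha)).2,
      ((Subgroup.mem_normalizer_iff''.1 hgN ⟨a, hle ha⟩).1 (hax a ha)).2⟩
  have heq := h.eq_axes (A := (axes x f).map (MulAut.conj (g : G)).toMonoidHom) ?_ ?_ ?_ ?_
    (Subgroup.card_map_of_injective (MulAut.conj (g : G)).injective).ge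
  · exact Subgroup.mem_normalizer_fintype fun a ha => heq ▸ ⟨a, ha, rfl⟩
  · rintro _ ⟨a, ha, rfl⟩; exact (hgax a ha).1
  · intro b hb
    refine Subgroup.mem_normalizer_fintype ?_
    rintro _ ⟨a, ha, rfl⟩
    exact ⟨_, (Subgroup.mem_normalizer_iff.1 (hgax b hb).2 a).1 ha, by
      simp only [MulEquiv.coe_toMonoidHom, MulAut.conj_apply]; group⟩
  · rintro _ ⟨a, ha, rfl⟩ _ ⟨b, hb, rfl⟩; exact (h.axes_comm ha hb).map _
  · rintro _ ⟨a, ha, rfl⟩; rw [← map_pow, h.axes_pow ha, map_one]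

/-- An `r`-group containing a conjugate of the axes normalizes it. -/
theorem Tri.normalizes_conj (h : K.Tri t' w x f r) {S : Subgroup G} (hS : IsPGroup r S) {k : G}
    (hle : ∀ a ∈ axes x f, k * a * k⁻¹ ∈ S) :
    ∀ b ∈ S, k⁻¹ * b * k ∈ Subgroup.normalizer (axes x f : Set G) := by
  intro b hb
  refine h.normalizes (hS.map (MulAut.conj k⁻¹).toMonoidHom) (fun a ha => ⟨k * a * k⁻¹, hle a ha, ?_⟩)
    ⟨b, hb, ?_⟩ <;> simp [mul_assoc]

/-- The axes are weakly closed in `r`-groups. -/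
theorem Tri.weakly_closed (h : K.Tri t' w x f r) {S : Subgroup G} (hS : IsPGroup r S) (hle : axes x f ≤ S)
    {k : G} (hk : ∀ a ∈ axes x f, k * a * k⁻¹ ∈ S) : k ∈ Subgroup.normalizer (axes x f : Set G) := by
  have heq := h.eq_axes (A := (axes x f).map (MulAut.conj k).toMonoidHom) ?_ ?_ ?_ ?_
    (Subgroup.card_map_of_injective (MulAut.conj k).injective).ge
  · exact Subgroup.mem_normalizer_fintype fun a ha => heq ▸ ⟨a, ha, rfl⟩
  · rintro _ ⟨a, ha, rfl⟩; exact h.normalizes hS hle (hk a ha)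
  · intro b hb
    refine Subgroup.mem_normalizer_fintype ?_
    rintro _ ⟨a, ha, rfl⟩
    exact ⟨_, (Subgroup.mem_normalizer_iff.1 (h.normalizes_conj hS hk b (hle hb)) a).1 ha, by
      simp only [MulEquiv.coe_toMonoidHom, MulAut.conj_apply]; group⟩
  · rintro _ ⟨a, ha, rfl⟩ _ ⟨b, hb, rfl⟩; exact (h.axes_comm ha hb).map _
  · rintro _ ⟨a, ha, rfl⟩; rw [← map_pow, h.axes_pow ha, map_one]

/-- In an odd group containing the axes, the conjugates of the axes are conjugate under a normal subgroup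
of order prime to `r`. -/
theorem Tri.core_conj (h : K.Tri t' w x f r) {Kd : Subgroup G} (hodd : Odd (Nat.card Kd))
    (hle : axes x f ≤ Kd) :
    ∃ N : Subgroup G, N ≤ Kd ∧ ¬ r ∣ Nat.card N ∧ Kd ≤ Subgroup.normalizer (N : Set G) ∧
      ∀ k : G, (∀ a ∈ axes x f, k * a * k⁻¹ ∈ Kd) →
        ∃ φ ∈ N, φ⁻¹ * k ∈ Subgroup.normalizer (axes x f : Set G) := by
  haveI := Fact.mk h.prime
  haveI : Group.IsSolvable Kd := CfsgLib.PF.oddSolvable Kd hodd
  set N₀ := Cfsg.pPrimeCore r Kd with hN₀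
  haveI : N₀.Normal := Cfsg.pPrimeCore_normal r Kd
  refine ⟨N₀.map Kd.subtype, Subgroup.map_subtype_le _, ?_, ?_, fun k hk => ?_⟩
  · rw [Subgroup.card_map_of_injective Kd.subtype_injective]
    exact CfsgLib.PCore.not_dvd_card_pPrimeCore
  · intro g hg
    refine Subgroup.mem_normalizer_fintype ?_
    rintro _ ⟨y, hy, rfl⟩
    exact ⟨⟨g, hg⟩ * y * ⟨g, hg⟩⁻¹, Subgroup.Normal.conj_mem inferInstance y hy _, rfl⟩
  have core : ∀ k : G, (∀ a ∈ axes x f, k * a * k⁻¹ ∈ Kd) →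
      ((axes x f).map (MulAut.conj k).toMonoidHom).subgroupOf Kd ≤ Cfsg.pPrimePCore r Kd := by
    intro k hk
    set A := ((axes x f).map (MulAut.conj k).toMonoidHom).subgroupOf Kd with hA
    have hAr : IsPGroup r A := (h.axes_pgroup.map _).comap_of_injective _ Kd.subtype_injective
    obtain ⟨S, hS⟩ := hAr.exists_le_sylow
    refine CfsgLib.OddOrder.Quadratic.abelian_normal_sylow_le_pPrimePCore hodd S A hS ?_ ?_
    · refine ⟨⟨fun a b => Subtype.ext (Subtype.ext ?_)⟩⟩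
      obtain ⟨a', ha', hae⟩ := a.2
      obtain ⟨b', hb', hbe⟩ := b.2
      show ((a : Kd) : G) * ((b : Kd) : G) = ((b : Kd) : G) * ((a : Kd) : G)
      change (MulAut.conj k).toMonoidHom a' = ((a : Kd) : G) at hae
      change (MulAut.conj k).toMonoidHom b' = ((b : Kd) : G) at hbe
      rw [← hae, ← hbe]
      exact ((h.axes_comm ha' hb').map _).eq
    · intro b hb
      refine Subgroup.mem_normalizer_fintype fun a ha => ?_
      obtain ⟨a', ha', hae⟩ := ha
      change (MulAut.conj k).toMonoidHom a' = (a : G) at hae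
      have hb' := h.normalizes_conj (S := (S : Subgroup Kd).map Kd.subtype) (S.isPGroup'.map _) (k := k)
        (fun c hc => ⟨⟨_, hk c hc⟩, hS ⟨c, hc, rfl⟩, rfl⟩) (b : G) ⟨b, hb, rfl⟩
      refine ⟨_, (Subgroup.mem_normalizer_iff.1 hb' a').1 ha', ?_⟩
      show (MulAut.conj k).toMonoidHom _ = (b : G) * (a : G) * (b : G)⁻¹
      rw [← hae]
      simp only [MulEquiv.coe_toMonoidHom, MulAut.conj_apply]; group
  obtain ⟨P, hP⟩ := (h.axes_pgroup.comap_of_injective Kd.subtype Kd.subtype_injective).exists_le_sylow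
  have hAk : ∀ a (ha : a ∈ axes x f), (⟨k * a * k⁻¹, hk a ha⟩ : Kd) ∈ N₀ ⊔ (P : Subgroup Kd) := fun a ha =>
    CfsgLib.PCore.pPrimePCore_le_sup_sylow P (core k hk ⟨a, ha, rfl⟩)
  set M := N₀ ⊔ (P : Subgroup Kd) with hM
  have hPM : (P : Subgroup Kd) ≤ M := le_sup_right
  have hAr : IsPGroup r ((((axes x f).map (MulAut.conj k).toMonoidHom).subgroupOf Kd).subgroupOf M) :=
    ((h.axes_pgroup.map _).comap_of_injective _ Kd.subtype_injective).comap_of_injective _ M.subtype_injective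
  obtain ⟨Q, hQ⟩ := hAr.exists_le_sylow
  obtain ⟨g, hg⟩ := MulAction.exists_smul_eq M (P.subtype hPM) Q
  obtain ⟨φ, hφ, π, hπ, hφπ⟩ := Subgroup.mem_sup_of_normal_left.1 g.2
  refine ⟨(φ : G), ⟨φ, hφ, rfl⟩, h.weakly_closed (S := (P : Subgroup Kd).map Kd.subtype)
    (P.isPGroup'.map _) (fun a ha => ⟨⟨a, hle ha⟩, hP (show (⟨a, hle ha⟩ : Kd).1 ∈ axes x f from ha), rfl⟩)
    fun a ha => ?_⟩
  have h1 : (⟨⟨k * a * k⁻¹, hk a ha⟩, hAk a ha⟩ : M) ∈ g • (P.subtype hPM : Sylow r M) := by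
    rw [hg]; exact hQ ⟨a, ha, rfl⟩
  rw [← SetLike.mem_coe, ← Sylow.coe_coe, Sylow.coe_subgroup_smul, Sylow.coe_subtype, SetLike.mem_coe,
    Subgroup.mem_pointwise_smul_iff_inv_smul_mem, Subgroup.mem_subgroupOf] at h1
  refine ⟨φ⁻¹ * ⟨k * a * k⁻¹, hk a ha⟩ * φ, ?_, by rw [Subgroup.coe_subtype]; push_cast; group⟩
  have h2 : φ⁻¹ * (⟨k * a * k⁻¹, hk a ha⟩ : Kd) * φ =
      π * ((g : Kd)⁻¹ * ⟨k * a * k⁻¹, hk a ha⟩ * g) * π⁻¹ := by rw [← hφπ]; group
  rw [h2]
  refine mul_mem (mul_mem hπ ?_) (inv_mem hπ)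
  simpa [MulAut.smul_def] using h1

/-- An element of order `r` centralized by an involution is conjugate into the axis of `x`. -/
theorem Tri.exists_conj_x (h : K.Tri t' w x f r) {i y : G} (hi : orderOf i = 2) (hy1 : y ≠ 1)
    (hyr : y ^ r = 1) (hyi : Commute y i) : ∃ k : G, ∀ u, Commute u y → Commute (k * u * k⁻¹) x := by
  haveI := Fact.mk h.prime
  obtain ⟨l, hl⟩ := isConj_iff.1 ((K.isConj_involution hi).symm.trans (K.isConj_involution h.frame.1.1))
  obtain ⟨K'⟩ := K.conf_of_involution h.frame.1.1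
  have hyo : orderOf y = r := orderOf_eq_prime hyr hy1
  have hy' : K'.IsBElt (l * y * l⁻¹) := ⟨fun e => hy1 (conj_eq_one_iff.1 e),
    by rw [← hl]; exact hyi.map (MulAut.conj l).toMonoidHom,
    by rw [← MulAut.conj_apply, MulEquiv.orderOf_eq, hyo]; exact h.rb⟩
  obtain ⟨g, -, hg⟩ := K'.bElt_conj hy' (K'.isBElt_of_frame h.frame)
    (by rw [← MulAut.conj_apply, MulEquiv.orderOf_eq, hyo, h.xo])
  refine ⟨g * l, fun u hu => ?_⟩
  have hky : g * (l * y * l⁻¹) * g⁻¹ = g * l * y * (g * l)⁻¹ := by group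
  rw [hky] at hg
  have hne : g * l * y * (g * l)⁻¹ ≠ 1 := fun e => hy1 (conj_eq_one_iff.1 e)
  have heq : Subgroup.zpowers (g * l * y * (g * l)⁻¹) = Subgroup.zpowers x :=
    Subgroup.eq_of_le_of_card_ge (Subgroup.zpowers_le.2 hg) (by
      rw [Nat.card_zpowers, Nat.card_zpowers, h.xo, ← MulAut.conj_apply, MulEquiv.orderOf_eq, hyo])
  obtain ⟨j, hj⟩ := Subgroup.mem_zpowers_iff.1 (heq ▸ Subgroup.mem_zpowers x :
    x ∈ Subgroup.zpowers (g * l * y * (g * l)⁻¹))
  rw [← hj]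
  exact (hu.map (MulAut.conj (g * l)).toMonoidHom).zpow_right j

/-- The exponent `r` part of an `r`-group centralizing such an element is conjugate into the axes. -/
theorem Tri.exists_conj (h : K.Tri t' w x f r) {i y : G} (hi : orderOf i = 2) (hy1 : y ≠ 1)
    (hyr : y ^ r = 1) (hyi : Commute y i) {U : Subgroup G} (hU : IsPGroup r U)
    (hUy : ∀ u ∈ U, Commute u y) : ∃ k : G, ∀ u ∈ U, u ^ r = 1 → k * u * k⁻¹ ∈ axes x f := by
  obtain ⟨k, hk⟩ := h.exists_conj_x hi hy1 hyr hyi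
  obtain ⟨o, -, ho, -, -⟩ := h.group_central (hU.map (MulAut.conj k).toMonoidHom) (by
    rintro _ ⟨u, hu, rfl⟩; simpa using hk u (hUy u hu))
  refine ⟨o⁻¹ * k, fun u hu hur => ?_⟩
  have := ho _ ⟨u, hu, rfl⟩ (by rw [← map_pow, hur, map_one])
  simpa [mul_assoc] using this

/-- An involution centralizing the four group and its cycle. -/
theorem Tri.exists_s0 (h : K.Tri t' w x f r) (ha : ¬ 3 ∣ coTorus K.q) :
    ∃ s : G, orderOf s = 2 ∧ Commute s t' ∧ Commute s w ∧ Commute s f ∧ s ≠ t' ∧ s ≠ w ∧ s ≠ t' * w := by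
  obtain ⟨K'⟩ := K.conf_of_involution h.frame.1.1
  obtain ⟨c, ρ, hc, hρ, hct, hcw, hρt, hρw, hρc, hρ1, hρ2, hρ3, hcases⟩ := K'.four_data h.frame.1
  obtain ⟨htp, hwp, htw, hne⟩ := h.frame.1
  obtain ⟨E, hE, hE4, htE, hwE, hEmem⟩ := exists_four htp hwp htw hne
  have hodd : Odd (orderOf c) := hc ▸ K.odd_a
  have hρ2' := mul_self_of hρ
  have hEc : ∀ e ∈ E, Commute e c ∧ Commute e ρ ∧ Commute e t' ∧ Commute e w ∧ e * e = 1 := by
    intro e he
    rcases hEmem e he with rfl | rfl | rfl | rfl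
    · exact ⟨.one_left _, .one_left _, .one_left _, .one_left _, one_mul 1⟩
    · exact ⟨hct.symm, hρt.symm, .refl _, htw, mul_self_of htp⟩
    · exact ⟨hcw.symm, hρw.symm, htw.symm, .refl _, mul_self_of hwp⟩
    · exact ⟨hct.symm.mul_left hcw.symm, hρt.symm.mul_left hρw.symm, (Commute.refl _).mul_left htw.symm,
        htw.mul_left (Commute.refl _), mul_self_of (K.frame_swap' h.frame).1.2.1⟩
  have hsq : ∀ y ∈ Subgroup.zpowers c, y * y = 1 → y = 1 := fun y hy hy2 =>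
    orderOf_eq_one_iff.1 (Nat.eq_one_of_dvd_coprimes
      (Nat.coprime_two_right.2 (hodd.of_dvd_nat (orderOf_dvd_of_mem_zpowers hy))) dvd_rfl
      (orderOf_dvd_of_pow_eq_one (by rw [pow_two, hy2])))
  have hρinv : ∀ j : ℕ, ρ * c ^ j * ρ = (c ^ j)⁻¹ := fun j => by
    calc ρ * c ^ j * ρ = ρ * c ^ j * ρ⁻¹ := by rw [inv_of hρ]
      _ = (ρ * c * ρ⁻¹) ^ j := conj_pow.symm
      _ = (c ^ j)⁻¹ := by rw [inv_of hρ, hρc, inv_pow]
  let S : Set G := {u | u * u = 1 ∧ Commute u t' ∧ Commute u w ∧ u ∉ E}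
  let Φ : Fin (orderOf c) × E → S := fun p => ⟨c ^ (p.1 : ℕ) * (p.2 : G) * ρ, by
    obtain ⟨he1, he2, he3, he4, he5⟩ := hEc _ p.2.2
    refine ⟨?_, ((hct.pow_left _).mul_left he3).mul_left hρt, ((hcw.pow_left _).mul_left he4).mul_left hρw,
      fun hmem => ?_⟩
    · calc c ^ (p.1 : ℕ) * (p.2 : G) * ρ * (c ^ (p.1 : ℕ) * (p.2 : G) * ρ)
          = c ^ (p.1 : ℕ) * ((p.2 : G) * (ρ * c ^ (p.1 : ℕ))) * ((p.2 : G) * ρ) := by group
        _ = c ^ (p.1 : ℕ) * ((p.2 : G) * ((c ^ (p.1 : ℕ))⁻¹ * ρ)) * ((p.2 : G) * ρ) := by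
            rw [← hρinv, mul_assoc (ρ * c ^ (p.1 : ℕ)), hρ2', mul_one]
        _ = c ^ (p.1 : ℕ) * (c ^ (p.1 : ℕ))⁻¹ * ((p.2 : G) * ρ * ((p.2 : G) * ρ)) := by
            rw [← mul_assoc (p.2 : G) (c ^ (p.1 : ℕ))⁻¹, ((he1.pow_right _).inv_right).eq]; group
        _ = 1 := by
            rw [mul_inv_cancel, one_mul, mul_assoc, ← mul_assoc ρ, ← he2.eq, mul_assoc _ ρ, hρ2', mul_one, he5]
    · have hcρ : c ^ (p.1 : ℕ) * ρ ∈ E := by
        have := E.mul_mem (E.inv_mem p.2.2) hmem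
        rwa [show (p.2 : G)⁻¹ * (c ^ (p.1 : ℕ) * (p.2 : G) * ρ) = c ^ (p.1 : ℕ) * ρ by
          rw [← (he1.pow_right _).eq]; group] at this
      obtain ⟨-, hee, -, -, hee5⟩ := hEc _ hcρ
      have h1 : c ^ (p.1 : ℕ) = 1 := hsq _ (Subgroup.npow_mem_zpowers c _) (by
        have h3 : (c ^ (p.1 : ℕ) * ρ * ρ) * (c ^ (p.1 : ℕ) * ρ * ρ) = 1 := by
          have h4 : (c ^ (p.1 : ℕ) * ρ * ρ) * (c ^ (p.1 : ℕ) * ρ * ρ) =
              (c ^ (p.1 : ℕ) * ρ) * (ρ * (c ^ (p.1 : ℕ) * ρ)) * ρ := by group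
          rw [h4, ← hee.eq, ← mul_assoc, hee5, one_mul, hρ2']
        rwa [mul_assoc _ ρ ρ, hρ2', mul_one] at h3)
      rw [h1, one_mul] at hcρ
      rcases hEmem _ hcρ with e | e | e | e
      exacts [by rw [e, orderOf_one] at hρ; exact absurd hρ (by norm_num), hρ1 e, hρ2 e, hρ3 e]⟩
  have hbij : Function.Bijective Φ := by
    refine ⟨fun p q hpq => ?_, fun u => ?_⟩
    · have h1 := mul_right_cancel (congrArg Subtype.val hpq)
      have h2 : (c ^ (q.1 : ℕ))⁻¹ * c ^ (p.1 : ℕ) = (q.2 : G) * (p.2 : G)⁻¹ := by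
        rw [eq_mul_inv_iff_mul_eq, mul_assoc, h1, inv_mul_cancel_left]
      have h3 : (c ^ (q.1 : ℕ))⁻¹ * c ^ (p.1 : ℕ) = 1 := hsq _
        (mul_mem (inv_mem (Subgroup.npow_mem_zpowers c _)) (Subgroup.npow_mem_zpowers c _))
        (by rw [h2]; exact (hEc _ (E.mul_mem q.2.2 (E.inv_mem p.2.2))).2.2.2.2)
      have h4 : c ^ (p.1 : ℕ) = c ^ (q.1 : ℕ) := (inv_mul_eq_one.1 h3).symm
      exact Prod.ext (Fin.ext (pow_injOn_Iio_orderOf p.1.2 q.1.2 h4))
        (Subtype.ext (mul_left_cancel (h4 ▸ h1)))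
    · obtain ⟨hu2, hut, huw, huE⟩ := u.2
      obtain ⟨j, e, f', i, hu⟩ := hcases u hut huw
      have hmem : t' ^ (e : ℕ) * w ^ (f' : ℕ) ∈ E := E.mul_mem (E.pow_mem htE _) (E.pow_mem hwE _)
      fin_cases i
      · simp only [pow_zero, mul_one] at hu
        exfalso
        obtain ⟨hec, -, -, -, he5⟩ := hEc _ hmem
        have h1 : c ^ j = 1 := hsq _ (Subgroup.npow_mem_zpowers c _) (by
          have h2 : c ^ j * (t' ^ (e : ℕ) * w ^ (f' : ℕ)) * (c ^ j * (t' ^ (e : ℕ) * w ^ (f' : ℕ))) = 1 := by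
            rw [← mul_assoc (c ^ j) (t' ^ (e : ℕ)), ← hu, hu2]
          rwa [mul_assoc, ← mul_assoc _ (c ^ j), (hec.pow_right j).eq, mul_assoc (c ^ j) _ (_ * _),
            he5, mul_one] at h2)
        exact huE (by rw [hu, h1, one_mul]; exact hmem)
      · refine ⟨⟨⟨j % orderOf c, Nat.mod_lt _ (orderOf_pos c)⟩, ⟨_, hmem⟩⟩, Subtype.ext ?_⟩
        show c ^ (j % orderOf c) * (t' ^ (e : ℕ) * w ^ (f' : ℕ)) * ρ = _
        rw [pow_mod_orderOf, hu]
        simp [mul_assoc]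
  have hfE : ∀ e ∈ E, f⁻¹ * e * f ∈ E := by
    intro e he
    rcases hEmem e he with rfl | rfl | rfl | rfl
    · simp
    · rw [show f⁻¹ * e * f = f⁻¹ * (f * (e * w) * f⁻¹) * f by rw [h.toPreTri.g_tw],
        show f⁻¹ * (f * (e * w) * f⁻¹) * f = e * w by group]
      exact mul_mem htE hwE
    · rw [show f⁻¹ * e * f = f⁻¹ * (f * t' * f⁻¹) * f by rw [h.g_t], show f⁻¹ * (f * t' * f⁻¹) * f = t' by group]
      exact htE
    · rw [show f⁻¹ * (t' * w) * f = f⁻¹ * (f * w * f⁻¹) * f by rw [h.g_w],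
        show f⁻¹ * (f * w * f⁻¹) * f = w by group]
      exact hwE
  let σ : S → S := fun u => ⟨f * u * f⁻¹, by
    obtain ⟨hu2, hut, huw, huE⟩ := u.2
    refine ⟨?_, ?_, ?_, fun hmem => huE ?_⟩
    · calc f * (u : G) * f⁻¹ * (f * (u : G) * f⁻¹) = f * ((u : G) * u) * f⁻¹ := by group
        _ = 1 := by rw [hu2]; group
    · rw [← h.toPreTri.g_tw]; exact (hut.mul_right huw).map (MulAut.conj f).toMonoidHom
    · rw [← h.g_t]; exact hut.map (MulAut.conj f).toMonoidHom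
    · have := hfE _ hmem
      rwa [show f⁻¹ * (f * (u : G) * f⁻¹) * f = u by group] at this⟩
  obtain ⟨u, hu⟩ := exists_fixed_of_not_three_dvd σ (fun u => Subtype.ext (by
      show f * (f * (f * (u : G) * f⁻¹) * f⁻¹) * f⁻¹ = u
      calc _ = f ^ 3 * (u : G) * (f ^ 3)⁻¹ := by rw [pow_succ, pow_two]; group
        _ = u := by rw [h.cube]; group)) (by
    rw [← Nat.card_congr (Equiv.ofBijective Φ hbij), Nat.card_prod, Nat.card_fin, hE4, hc]
    intro hd
    rcases (Nat.Prime.dvd_mul Nat.prime_three).1 hd with h' | h'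
    · exact ha h'
    · norm_num at h')
  obtain ⟨hu2, hut, huw, huE⟩ := u.2
  refine ⟨u, orderOf_eq_prime (by rw [pow_two, hu2]) fun e => huE (e ▸ E.one_mem), hut, huw,
    (mul_inv_eq_iff_eq_mul.1 (congrArg Subtype.val hu)).symm, fun e => huE (e ▸ htE), fun e => huE (e ▸ hwE),
    fun e => huE (e ▸ mul_mem htE hwE)⟩

/-- The conjugating element may be chosen centralized by `f`. -/
theorem Tri.fixed_conjugator (h : K.Tri t' w x f r) {N : Subgroup G} {k φ₀ : G} (hNr : ¬ r ∣ Nat.card N)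
    (hax : axes x f ≤ Subgroup.normalizer (N : Set G)) (hfN : f ∈ Subgroup.normalizer (N : Set G))
    (hfk : Commute f k) (hno : ∀ y : G, orderOf y = 3 → (∀ a ∈ axes x f, Commute y a) → False)
    (hφ₀ : φ₀ ∈ N) (hk : φ₀⁻¹ * k ∈ Subgroup.normalizer (axes x f : Set G)) :
    ∃ φ ∈ N, Commute f φ ∧ φ⁻¹ * k ∈ Subgroup.normalizer (axes x f : Set G) := by
  haveI := Fact.mk Nat.prime_three
  set D := N ⊓ Subgroup.normalizer (axes x f : Set G) with hD
  have hD3 : ¬ 3 ∣ Nat.card D := by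
    intro hd
    obtain ⟨y, hy⟩ := exists_prime_orderOf_dvd_card' 3 hd
    refine hno y (by rw [Subgroup.orderOf_coe, hy]) fun a ha => ?_
    have hmA : (y : G) * a * (y : G)⁻¹ * a⁻¹ ∈ axes x f :=
      mul_mem ((Subgroup.mem_normalizer_iff.1 y.2.2 a).1 ha) (inv_mem ha)
    have hmN : (y : G) * a * (y : G)⁻¹ * a⁻¹ ∈ N := by
      rw [show (y : G) * a * (y : G)⁻¹ * a⁻¹ = (y : G) * (a * (y : G)⁻¹ * a⁻¹) by group]
      exact mul_mem y.2.1 ((Subgroup.mem_normalizer_iff.1 (hax ha) _).1 (inv_mem y.2.1))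
    have h1 : (y : G) * a * (y : G)⁻¹ * a⁻¹ = 1 := by
      by_contra hne
      exact hNr (orderOf_eq_prime (hp := Fact.mk h.prime) (h.axes_pow hmA) hne ▸
        Subgroup.orderOf_dvd_natCard _ hmN)
    exact mul_inv_eq_iff_eq_mul.1 (mul_inv_eq_one.1 h1)
  let Φ : Set G := {φ | φ ∈ N ∧ φ⁻¹ * k ∈ Subgroup.normalizer (axes x f : Set G)}
  let e : D ≃ Φ :=
    { toFun := fun c => ⟨φ₀ * c, mul_mem hφ₀ c.2.1, by
        rw [_root_.mul_inv_rev, mul_assoc]; exact mul_mem (inv_mem c.2.2) hk⟩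
      invFun := fun φ => ⟨φ₀⁻¹ * φ, N.mul_mem (N.inv_mem hφ₀) φ.2.1, by
        rw [show φ₀⁻¹ * (φ : G) = φ₀⁻¹ * k * ((φ : G)⁻¹ * k)⁻¹ by group]
        exact Subgroup.mul_mem _ hk (Subgroup.inv_mem _ φ.2.2)⟩
      left_inv := fun c => Subtype.ext (by simp)
      right_inv := fun φ => Subtype.ext (by simp) }
  have hfk' : f * k * f⁻¹ = k := by rw [hfk.eq, mul_inv_cancel_right]
  let σ : Φ → Φ := fun φ => ⟨f * φ * f⁻¹, (Subgroup.mem_normalizer_iff.1 hfN _).1 φ.2.1, by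
    have e : (f * (φ : G) * f⁻¹)⁻¹ * (f * k * f⁻¹) = f * ((φ : G)⁻¹ * k) * f⁻¹ := by group
    rw [hfk'] at e
    rw [e]; exact mul_mem (mul_mem h.f_axes φ.2.2) (inv_mem h.f_axes)⟩
  obtain ⟨φ, hφ⟩ := exists_fixed_of_not_three_dvd σ (fun φ => Subtype.ext (by
      show f * (f * (f * (φ : G) * f⁻¹) * f⁻¹) * f⁻¹ = φ
      calc _ = f ^ 3 * (φ : G) * (f ^ 3)⁻¹ := by rw [pow_succ, pow_two]; group
        _ = φ := by rw [h.cube]; group)) (by rwa [← Nat.card_congr e])
  exact ⟨φ, φ.2.1, mul_inv_eq_iff_eq_mul.1 (congrArg Subtype.val hφ), φ.2.2⟩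

end CfsgLib.ReeOrder.Conf
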